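import Mathlib

/-!
Configurations of elements in the groups of Rudvalis, O'Nan and Janko (third group), used to show that these
groups are not involved in the Monster.
-/

set_option autoImplicit false

namespace H95.Ph

open Subgroup

variable {G : Type*} [Group G]

/-- equality up to the involution `z` -/
def Ez (z x y : G) : Prop := x = y ∨ x = y * z

/-- commutator -/
abbrev cm (x y : G) : G := x * y * x⁻¹ * y⁻¹

/-- a four-group centralised by an element of order 13 -/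
structure CRu (u v x g : G) : Prop where
  uu : u * u = 1
  vv : v * v = 1
  uv : u * v = v * u
  v1 : v ≠ 1
  vu : v ≠ u
  x13 : x ^ 13 = 1
  x1 : x ≠ 1
  xu : x * u = u * x
  xv : x * v = v * x
  big : 6 < orderOf (u * (g * u * g⁻¹))

/-- configuration in a central extension of the O'Nan group by `⟨κ⟩`; the transvection is `cm a b` -/
structure CON (κ z z' a b w w' c d g₁ g₂ : G) : Prop where
  κ3 : κ ^ 3 = 1
  κz : κ * z = z * κ
  κz' : κ * z' = z' * κ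
  κa : κ * a = a * κ
  κb : κ * b = b * κ
  κw : κ * w = w * κ
  κw' : κ * w' = w' * κ
  κc : κ * c = c * κ
  κd : κ * d = d * κ
  zz : z * z = 1
  z1 : z ≠ 1
  a7 : a ^ 7 = 1
  a1 : a ≠ 1
  za : z * a * z⁻¹ = a⁻¹
  x7 : cm a b ^ 7 = 1
  x1 : cm a b ≠ 1
  ax : a * cm a b = cm a b * a
  bx : b * cm a b = cm a b * b
  zx : z * cm a b = cm a b * z
  zz' : z * z' = z' * z
  g1 : g₁ * z * g₁⁻¹ = z'
  g2 : g₂ * z * g₂⁻¹ = z' * z
  z'x : z' * cm a b * z'⁻¹ = (cm a b)⁻¹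
  wz : w * z = z * w
  w'z : w' * z = z * w'
  cz : c * z = z * c
  dz : d * z = z * d
  wx : w * cm a b * w⁻¹ = cm a b ^ 2
  w3 : w ^ 3 ∈ zpowers κ
  w'3 : w' ^ 3 ∈ zpowers κ
  ww' : cm w w' ∈ zpowers κ
  cw : c * w * c⁻¹ * w'⁻¹ ∈ zpowers κ
  cw' : c * w' * c⁻¹ * w ∈ zpowers κ
  dw : d * w * d⁻¹ * (w * w')⁻¹ ∈ zpowers κ

/-- generators of the extraspecial group of order 32 and minus type -/
structure RR (z a b c d : G) : Prop where
  zz : z * z = 1
  aa : a * a = z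
  bb : b * b = z
  cc : c * c = z
  dd : d * d = z
  ab : a * b = b * a * z
  ac : a * c = c * a * z
  ad : a * d = d * a * z
  bc : b * c = c * b * z
  bd : b * d = d * b * z
  cd : c * d = d * c * z

/-- the alternating group of degree 5 acting: `a, b, c, d` are the pairs 12, 13, 14, 15, `u = (12345)`,
`p = (234)` -/
structure AA (z a b c d u p : G) : Prop where
  uz : u * z = z * u
  pz : p * z = z * p
  u5 : u ^ 5 = 1
  up5 : (u * p) ^ 5 = 1
  ua : Ez z (u * a * u⁻¹) (a * b)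
  ub : Ez z (u * b * u⁻¹) (a * c)
  uc : Ez z (u * c * u⁻¹) (a * d)
  ud : Ez z (u * d * u⁻¹) a
  pa : Ez z (p * a * p⁻¹) b
  pb : Ez z (p * b * p⁻¹) c
  pc : Ez z (p * c * p⁻¹) a
  pd : Ez z (p * d * p⁻¹) d

/-- relations inside a Sylow 2-subgroup -/
structure TT (z a b c d e t₁ t₂ : G) : Prop where
  ee : e * e = a
  t1z : t₁ * z = z * t₁
  t2z : t₂ * z = z * t₂
  c1 : cm d t₁ * cm d t₁ = z
  c2 : cm d t₂ * cm d t₂ = z
  c3 : cm d (t₁ * t₂) * cm d (t₁ * t₂) = z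
  c12 : cm (cm d t₁) t₂ = a * b * c * z

/-- fusion and inversion -/
structure FF (z a b c e t₁ t₂ g h y : G) : Prop where
  gz : g * z * g⁻¹ = a * b * c
  ga : g * a * g⁻¹ = t₁
  gb : g * b * g⁻¹ = t₂
  he : h * e * h⁻¹ = e * z
  y17 : y ^ 17 = 1
  y1 : y ≠ 1
  zy : z * y * z⁻¹ = y⁻¹

/-- the sum of a class function over a Sylow 2-subgroup -/
def SS {X : Type} [Group X] [Fintype X] (σ : X →* G) (z a e : X) : Prop :=
  Fintype.card X = 128 ∧ ∀ F : G → ℝ, (∀ g x, F (g * x * g⁻¹) = F x) →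
    ∑ x, F (σ x) = F 1 + 35 * F (σ z) + 44 * F (σ a) + 48 * F (σ e)

/-- the 2-local configuration in the third Janko group -/
def CJ (G : Type*) [Group G] : Prop :=
  ∃ (X : Type) (_ : Group X) (_ : Fintype X) (σ : X →* G) (z a b c d e t₁ t₂ : X) (u p g h y : G),
    RR z a b c d ∧ TT z a b c d e t₁ t₂ ∧ SS σ z a e ∧ σ z ≠ 1 ∧
    AA (σ z) (σ a) (σ b) (σ c) (σ d) u p ∧ FF (σ z) (σ a) (σ b) (σ c) (σ e) (σ t₁) (σ t₂) g h y

/-- the 3-local configuration in the third Janko group -/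
structure C3 (w w' k s g₁ g₂ g₃ : G) (P : Subgroup G) : Prop where
  w3 : w ^ 3 = 1
  ww' : w * w' = w' * w
  w1 : w ≠ 1
  ne : w' ≠ w
  ne' : w' ≠ w⁻¹
  g1 : g₁ * w * g₁⁻¹ = w'
  g2 : g₂ * w * g₂⁻¹ = w * w'
  g3 : g₃ * w * g₃⁻¹ = w * w'⁻¹
  hP : IsPGroup 3 P
  kP : k ∈ P
  sP : s ∈ P
  cent : ∀ x ∈ P, x * w = w * x ∧ x * w' = w' * x
  ks : cm k s = w'

/-- a minimal extension -/
def Mn {H S : Type*} [Group H] [Group S] (π : H →* S) : Prop :=
  Function.Surjective π ∧ ∀ N : Subgroup H, N.map π = ⊤ → N = ⊤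

variable {H : Type*} [Group H]

theorem Ez.map (f : G →* H) {z x y : G} (h : Ez z x y) : Ez (f z) (f x) (f y) :=
  h.imp (congrArg f) fun e => by rw [e, map_mul]

theorem RR.map (f : G →* H) {z a b c d : G} (h : RR z a b c d) : RR (f z) (f a) (f b) (f c) (f d) := by
  obtain ⟨h1, h2, h3, h4, h5, h6, h7, h8, h9, h10, h11⟩ := h
  constructor <;> simp only [← map_mul, *, map_one]

theorem TT.map (f : G →* H) {z a b c d e t₁ t₂ : G} (h : TT z a b c d e t₁ t₂) :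
    TT (f z) (f a) (f b) (f c) (f d) (f e) (f t₁) (f t₂) := by
  obtain ⟨h1, h2, h3, h4, h5, h6, h7⟩ := h
  constructor <;> simp only [cm, ← map_mul, ← map_inv] <;> congr 1

theorem AA.map (f : G →* H) {z a b c d u p : G} (h : AA z a b c d u p) :
    AA (f z) (f a) (f b) (f c) (f d) (f u) (f p) := by
  obtain ⟨h1, h2, h3, h4, h5, h6, h7, h8, h9, h10, h11, h12⟩ := h
  refine ⟨?_, ?_, ?_, ?_, ?_, ?_, ?_, ?_, ?_, ?_, ?_, ?_⟩ <;>
    simp only [← map_mul, ← map_inv, ← map_pow, *, map_one] <;> exact Ez.map f ‹_›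

theorem FF.map (f : G →* H) (hf : Function.Injective f) {z a b c e t₁ t₂ g h y : G}
    (k : FF z a b c e t₁ t₂ g h y) :
    FF (f z) (f a) (f b) (f c) (f e) (f t₁) (f t₂) (f g) (f h) (f y) := by
  obtain ⟨h1, h2, h3, h4, h5, h6, h7⟩ := k
  refine ⟨?_, ?_, ?_, ?_, ?_, (map_ne_one_iff f hf).2 h6, ?_⟩ <;>
    simp only [← map_mul, ← map_inv, ← map_pow, *, map_one]

theorem CJ.map (f : G →* H) (hf : Function.Injective f) (h : CJ G) : CJ H := by
  obtain ⟨X, _, _, σ, z, a, b, c, d, e, t₁, t₂, u, p, g, k, y, h1, h2, h3, h4, h5, h6⟩ := h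
  refine ⟨X, inferInstance, inferInstance, f.comp σ, z, a, b, c, d, e, t₁, t₂, f u, f p, f g, f k, f y, h1, h2,
    ⟨h3.1, fun F hF => ?_⟩, (map_ne_one_iff f hf).2 h4, h5.map f, h6.map f hf⟩
  simpa using h3.2 (fun x => F (f x)) fun g x => by simpa using hF (f g) (f x)

theorem CRu.map (f : G →* H) (hf : Function.Injective f) {u v x g : G} (h : CRu u v x g) :
    CRu (f u) (f v) (f x) (f g) := by
  obtain ⟨h1, h2, h3, h4, h5, h6, h7, h8, h9, h10⟩ := h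
  refine ⟨?_, ?_, ?_, (map_ne_one_iff f hf).2 h4, hf.ne h5, ?_, (map_ne_one_iff f hf).2 h7, ?_, ?_, ?_⟩ <;>
    simp only [← map_mul, ← map_inv, ← map_pow, *, map_one, orderOf_injective f hf]

theorem CON.map (f : G →* H) (hf : Function.Injective f) {κ z z' a b w w' c d g₁ g₂ : G}
    (h : CON κ z z' a b w w' c d g₁ g₂) :
    CON (f κ) (f z) (f z') (f a) (f b) (f w) (f w') (f c) (f d) (f g₁) (f g₂) := by
  have m : ∀ x ∈ zpowers κ, f x ∈ zpowers (f κ) := by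
    rintro _ ⟨n, rfl⟩
    exact ⟨n, (map_zpow f κ n).symm⟩
  have n : ∀ x : G, x ≠ 1 → f x ≠ 1 := fun x => (map_ne_one_iff f hf).2
  have e : ∀ x y : G, x = y → f x = f y := fun x y => congrArg f
  constructor <;> simp only [cm, ← map_mul, ← map_inv, ← map_pow, ← map_one f]
  exacts [e _ _ h.κ3, e _ _ h.κz, e _ _ h.κz', e _ _ h.κa, e _ _ h.κb, e _ _ h.κw, e _ _ h.κw', e _ _ h.κc,
    e _ _ h.κd, e _ _ h.zz, hf.ne h.z1, e _ _ h.a7, hf.ne h.a1, e _ _ h.za, e _ _ h.x7, hf.ne h.x1, e _ _ h.ax,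
    e _ _ h.bx, e _ _ h.zx, e _ _ h.zz', e _ _ h.g1, e _ _ h.g2, e _ _ h.z'x, e _ _ h.wz, e _ _ h.w'z,
    e _ _ h.cz, e _ _ h.dz, e _ _ h.wx, m _ h.w3, m _ h.w'3, m _ h.ww', m _ h.cw, m _ h.cw', m _ h.dw]

end H95.Ph
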