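import Mathlib
import Cfsg.Prelude.Def_CaseTheorems
import Cfsg.Agent.Lib.Prh.Cfg
import Cfsg.Agent.Lib.MonLoc.Ark
import Cfsg.Agent.Lib.Co1.Tr

/-!
The properties of the Monster used to exclude the groups of Rudvalis, O'Nan and Janko as sections; elements of
the centraliser of the central involution and the isometries of the Leech lattice over which they lie.
-/

set_option autoImplicit false

namespace H95.Ph

open Cfsg Subgroup H15 H16 H7.ML
open scoped symmDiff Pointwise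

/-- the trace of an isometry of the Leech lattice -/
def tq (g : Co0) : ℤ := H74.Co1.tr g / 8

/-- the powers `1, γ, …, γ ^ (p - 1)` add up to zero -/
def Fp (γ : Co0) (p : ℕ) : Prop := ∀ v : leechLattice, ∑ i ∈ Finset.range p, γ ^ i • v = 0

/-- the norm of a lattice vector -/
abbrev nm (v : leechLattice) : ℤ := sqNorm (v : GolayPt → ℤ)

/-- the vector vanishes outside `T` -/
def On (T : Finset GolayPt) (v : leechLattice) : Prop := ∀ i, i ∉ T → (v : GolayPt → ℤ) i = 0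

variable {G : Type*} [Group G]

/-- `y` centralises `z` and lies over the isometry `γ` -/
def Ov {z : G} (φ : centralizer ({z} : Set G) →* Spor.Co1) (y : G) (γ : Co0) : Prop :=
  ∃ h : y ∈ centralizer ({z} : Set G), (QuotientGroup.mk γ : Spor.Co1) = φ ⟨y, h⟩

/-- all elements of `Q` over a class of norm 64 are conjugate to `z` -/
def C64 (z : G) (cls : leechLattice → G → Prop) : Prop := ∀ v x, cls v x → nm v = 64 → IsConj z x

/-- the properties of the Monster that are used; `XA` is the class of the transpositions, `tr` the character of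
degree 196884 -/
structure Env (z : G) (Q : Subgroup G) (φ : centralizer ({z} : Set G) →* Spor.Co1)
    (cls : leechLattice → G → Prop) (XA : G → Prop) (tr : G → ℝ) : Prop where
  M : Mon z Q φ cls
  c64 : C64 z cls
  two : ∀ x, x * x = 1 → x ≠ 1 → IsConj z x ∨ XA x
  six : ∀ x g, XA x → orderOf (x * (g * x * g⁻¹)) ≤ 6
  pure : ∀ t x y, XA t → XA x → XA (t * x) → XA y → XA (t * y) → XA (x * y) → XA (t * (x * y)) → False
  cardX : ∀ x, XA x → Nat.card (centralizer ({x} : Set G)) = 4154781481226426191177580544000000 * 2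
  cardZ : Nat.card (centralizer ({z} : Set G)) = 4157776806543360000 * 2 ^ 25
  card : Nat.card G = 808017424794512875886459904961710757005754368000000000
  rank : PRankLE 2 15 G
  he : ∀ s ∈ Q, IsConj z s → s ≠ z → ∀ a b : G, cm a b ^ 7 = 1 → z * cm a b = cm a b * z →
    s * cm a b = cm a b * s → a * cm a b = cm a b * a → b * cm a b = cm a b * b → cm a b = 1
  tr_conj : ∀ g x, tr (g * x * g⁻¹) = tr x
  tr_one : tr 1 = 196884
  tr_z : tr z = 276
  tr_X : ∀ x, XA x → tr x = 4372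
  avg : ∀ (X : Type) [Group X] [Fintype X] (σ : X →* G), ∃ n : ℕ, ∑ x, tr (σ x) = Fintype.card X * n
  pair : ∀ y γ, Ov φ y γ → (∀ v, nm v = 32 → ¬ Cg (γ • v) v) →
    tr y + tr (y * z) = (tq γ ^ 2 + tq (γ * γ) : ℤ)

/-- `x = b q` with `b ∈ Q'` over the sign change on `d` and `q ∈ Q` of even type over the codeword `e` -/
def Dec {z : G} (Q' : Subgroup G) (φ : centralizer ({z} : Set G) →* Spor.Co1) (cls : leechLattice → G → Prop)
    (x : G) (d e : Finset GolayPt) : Prop :=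
  ∃ hd : d ∈ code, e ∈ code ∧ ∃ b q v, b ∈ Q' ∧ Ov φ b (eps d hd) ∧ cls v q ∧ Cong v 0 e ∧ x = b * q

variable {z : G} {Q : Subgroup G} {φ : centralizer ({z} : Set G) →* Spor.Co1}
  {cls : leechLattice → G → Prop} {x y : G} {γ δ : Co0}

theorem exists_ov (φ : centralizer ({z} : Set G) →* Spor.Co1) (h : y * z = z * y) : ∃ γ, Ov φ y γ := by
  obtain ⟨γ, e⟩ := mk1_surj (φ ⟨y, mem_cent_iff.2 h⟩)
  exact ⟨γ, _, e⟩

theorem Ov.comm (h : Ov φ y γ) : y * z = z * y := mem_cent_iff.1 h.1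

theorem ov_one : Ov φ 1 1 := ⟨one_mem _, (map_one φ).symm⟩

theorem Ov.mul (h : Ov φ x γ) (k : Ov φ y δ) : Ov φ (x * y) (γ * δ) :=
  ⟨mul_mem h.1 k.1, by rw [QuotientGroup.mk_mul, h.2, k.2, ← map_mul]; rfl⟩

theorem Ov.inv (h : Ov φ x γ) : Ov φ x⁻¹ γ⁻¹ :=
  ⟨inv_mem h.1, by rw [QuotientGroup.mk_inv, h.2, ← map_inv]; rfl⟩

theorem Ov.pow (h : Ov φ x γ) (n : ℕ) : Ov φ (x ^ n) (γ ^ n) := by
  induction n with
  | zero => simpa using ov_one
  | succ n ih => rw [pow_succ, pow_succ]; exact ih.mul h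

theorem Ov.zpow (h : Ov φ x γ) (n : ℤ) : Ov φ (x ^ n) (γ ^ n) := by
  rcases n with n | n
  · simpa using h.pow n
  · simpa using (h.pow (n + 1)).inv

theorem Ov.conj (h : Ov φ x γ) (k : Ov φ y δ) : Ov φ (x * y * x⁻¹) (γ * δ * γ⁻¹) := (h.mul k).mul h.inv

theorem Ov.neg (h : Ov φ x γ) : Ov φ x (negCo0 * γ) := ⟨h.1, (mk1_neg γ).trans h.2⟩

theorem Ov.eq (h : Ov φ x γ) (k : Ov φ x δ) : γ = δ ∨ γ = negCo0 * δ := mk1_eq_iff.1 (h.2.trans k.2.symm)

theorem Ov.of_eq (h : Ov φ x γ) (e : δ = γ ∨ δ = negCo0 * γ) : Ov φ x δ := by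
  rcases e with rfl | rfl
  exacts [h, h.neg]

theorem Ov.mem_iff (M : Mon z Q φ cls) (h : Ov φ x γ) : x ∈ Q ↔ γ = 1 ∨ γ = negCo0 := by
  rw [← mk1_eq_one, ← M.ker ⟨x, h.1⟩, ← h.2]
  rfl

theorem ov_of_mem (M : Mon z Q φ cls) (h : x ∈ Q) : Ov φ x 1 :=
  ⟨mem_cent_iff.2 (M.h.central x h), ((M.ker _).2 h).symm⟩

theorem Ov.mul_z (M : Mon z Q φ cls) (h : Ov φ x γ) : Ov φ (x * z) γ := by
  simpa using h.mul (ov_of_mem M M.h.mem)

theorem Ov.ez (M : Mon z Q φ cls) (h : Ov φ y γ) (e : Ez z x y) : Ov φ x γ := by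
  rcases e with rfl | rfl
  exacts [h, h.mul_z M]

theorem Ov.of_ez (M : Mon z Q φ cls) (h : Ov φ x γ) (e : Ez z x y) : Ov φ y γ := by
  rcases e with rfl | rfl
  · exact h
  · simpa [mul_assoc, M.h.sq] using h.mul_z M

theorem Ov.mul_mem (M : Mon z Q φ cls) (h : Ov φ x γ) (k : Ov φ y γ) : x⁻¹ * y ∈ Q :=
  ((h.inv.mul k).mem_iff M).2 (Or.inl (inv_mul_cancel γ))

theorem Ov.smul (M : Mon z Q φ cls) (h : Ov φ x γ) {v : leechLattice} {q : G} (hq : cls v q) :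
    cls (γ • v) (x * q * x⁻¹) := M.smul ⟨x, h.1⟩ γ h.2 hq

theorem Ov.sq (M : Mon z Q φ cls) (h : Ov φ x γ) (e : x * x = 1 ∨ x * x = z) :
    γ * γ = 1 ∨ γ * γ = negCo0 :=
  ((h.mul h).mem_iff M).1 (by rcases e with e | e <;> rw [e]; exacts [one_mem _, M.h.mem])

/-- the identification twisted by an isometry -/
abbrev twφ (φ : centralizer ({z} : Set G) →* Spor.Co1) (δ : Co0) : centralizer ({z} : Set G) →* Spor.Co1 :=
  (MulAut.conj (QuotientGroup.mk δ : Spor.Co1)).toMonoidHom.comp φ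

theorem Ov.twist (h : Ov φ x γ) (δ : Co0) : Ov (twφ φ δ) x (δ * γ * δ⁻¹) :=
  ⟨h.1, by rw [QuotientGroup.mk_mul, QuotientGroup.mk_mul, QuotientGroup.mk_inv, h.2]; rfl⟩

theorem C64.twist (h : C64 z cls) (δ : Co0) : C64 z fun v x => cls (δ⁻¹ • v) x :=
  fun _ x k e => h _ x k ((sqNorm_co0 _ _).trans e)

theorem exists_st [Finite G] (M : Mon z Q φ cls) (h : C64 z cls) : ∃ s Q', St z s Q Q' φ cls := by
  obtain ⟨s, hs⟩ := M.ex_elt (e8 none)
  obtain ⟨g, rfl⟩ := isConj_iff.1 (h _ s hs (sqNorm_e8 _))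
  exact ⟨_, _, Std.st ⟨M, hs⟩⟩

theorem neg_mul_comm (γ : Co0) : negCo0 * γ = γ * negCo0 := (mem_center_iff.1 negCo0_mem_center γ).symm

theorem eq_of_odd {m n : ℕ} (e : γ = δ ∨ γ = negCo0 * δ) (hm : Odd m) (hn : Odd n) (h : γ ^ m = 1)
    (k : δ ^ n = 1) : γ = δ := e.resolve_right fun e => by
  have : (negCo0 * δ) ^ (m * n) = 1 := by rw [← e, pow_mul, h, one_pow]
  obtain ⟨r, hr⟩ := hm.mul hn
  rw [Commute.mul_pow (neg_mul_comm δ), mul_comm m, pow_mul δ, k, one_pow, mul_one, mul_comm n, hr, pow_succ,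
    pow_mul, pow_two, negCo0_mul_self, one_pow, one_mul] at this
  exact negCo0_ne_one this

theorem exists_ov_odd (φ : centralizer ({z} : Set G) →* Spor.Co1) (h : y * z = z * y) {n : ℕ} (hn : Odd n)
    (e : y ^ n = 1) : ∃ γ, Ov φ y γ ∧ γ ^ n = 1 := by
  obtain ⟨γ, k⟩ := exists_ov φ h
  rcases (e ▸ k.pow n).eq ov_one with q | q
  · exact ⟨γ, k, q⟩
  · obtain ⟨r, hr⟩ := hn
    refine ⟨_, k.neg, ?_⟩
    rw [Commute.mul_pow (neg_mul_comm γ), q, hr, pow_succ, pow_mul, pow_two, negCo0_mul_self, one_pow, one_mul,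
      mul_one, negCo0_mul_self]

/-- conjugation of elements of odd order lifts -/
theorem Ov.conj_odd {g x' : G} {ξ ξ' : Co0} {m n : ℕ} (hg : Ov φ g δ) (h : Ov φ x ξ) (h' : Ov φ x' ξ')
    (hm : Odd m) (hn : Odd n) (e : ξ ^ m = 1) (e' : ξ' ^ n = 1) (c : g * x * g⁻¹ = x') :
    δ * ξ * δ⁻¹ = ξ' :=
  eq_of_odd ((c ▸ hg.conj h).eq h') hm hn (by rw [conj_pow, e, mul_one, mul_inv_cancel]) e'

theorem Ov.comm_odd {g : G} {ξ : Co0} {m : ℕ} (hg : Ov φ g δ) (h : Ov φ x ξ) (hm : Odd m) (e : ξ ^ m = 1)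
    (c : g * x = x * g) : δ * ξ = ξ * δ :=
  mul_inv_eq_iff_eq_mul.1 (hg.conj_odd h h hm hm e e (mul_inv_eq_iff_eq_mul.2 c))

theorem Env.isConj {XA : G → Prop} {tr : G → ℝ} (E : Env z Q φ cls XA tr) {u g : G} (uu : u * u = 1)
    (h : 6 < orderOf (u * (g * u * g⁻¹))) : IsConj z u :=
  (E.two u uu fun e => by simp [e] at h).resolve_right fun k => (E.six u g k).not_gt h

end H95.Ph
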