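import Cfsg.Prelude.Def_KGroupFacts
import Cfsg.Agent.Lib.Prh.Cfg

/-! Minimal extensions and central extensions. -/

set_option autoImplicit false

namespace H95.Ph

open Cfsg Subgroup

variable {H S : Type*} [Group H] [Finite H] [Group S] {π : H →* S}

theorem exists_mn {G : Type*} [Group G] [Finite G] (A : Subgroup G) (B : Subgroup A) [B.Normal]
    (e : A ⧸ B ≃* S) : ∃ (K : Subgroup G) (π : K →* S), Mn π := by
  let f : A →* S := e.toMonoidHom.comp (QuotientGroup.mk' B)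
  have hf : Function.Surjective f := e.surjective.comp (QuotientGroup.mk'_surjective B)
  obtain ⟨K, ⟨hK, hs⟩, hmin⟩ := exists_minimal_of_wellFoundedLT
    (fun K : Subgroup G => ∃ h : K ≤ A, Function.Surjective (f.comp (inclusion h)))
    ⟨A, le_rfl, fun s => by obtain ⟨a, rfl⟩ := hf s; exact ⟨a, rfl⟩⟩
  refine ⟨K, f.comp (inclusion hK), hs, fun N hN => ?_⟩
  have h1 : N.map K.subtype ≤ K := map_subtype_le N
  have h2 : K ≤ N.map K.subtype := by
    refine hmin ⟨h1.trans hK, fun s => ?_⟩ h1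
    have : s ∈ N.map (f.comp (inclusion hK)) := hN ▸ mem_top s
    obtain ⟨x, hx, rfl⟩ := this
    exact ⟨⟨x, x, hx, rfl⟩, rfl⟩
  refine eq_top_iff.2 fun x _ => ?_
  obtain ⟨y, hy, e⟩ := h2 x.2
  exact (Subtype.ext e : y = x) ▸ hy

omit [Finite H] in
theorem Mn.eq_top' [IsSimpleGroup S] (h : Mn π) (N : Subgroup H) [hN : N.Normal] {y : H} (hy : y ∈ N)
    (h1 : π y ≠ 1) : N = ⊤ := by
  rcases (hN.map π h.1).eq_bot_or_eq_top with e | e
  · exact absurd (mem_bot.1 (e ▸ mem_map_of_mem π hy)) h1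
  · exact h.2 N e

theorem Mn.eq_top [IsSimpleGroup S] (h : Mn π) (N : Subgroup H) [N.Normal] {y : H} (hy : y ∈ N)
    (h1 : π y ≠ 1) : N = ⊤ := h.eq_top' N hy h1

theorem Mn.normal (h : Mn π) {p : ℕ} [Fact p.Prime] (P : Sylow p π.ker) :
    ((P : Subgroup π.ker).map π.ker.subtype).Normal := by
  have := congrArg (Subgroup.map π) (Sylow.normalizer_sup_eq_top P)
  rw [Subgroup.map_sup, (Subgroup.map_eq_bot_iff (H := π.ker)).2 le_rfl, sup_bot_eq, map_top_of_surjective π h.1] at this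
  exact normalizer_eq_top_iff.1 (h.2 _ this)

theorem Mn.perfect [IsSimpleGroup S] (h : Mn π) (hS : ∃ a b : S, a * b ≠ b * a) : commutator H = ⊤ := by
  obtain ⟨a, b, ne⟩ := hS
  obtain ⟨a, rfl⟩ := h.1 a
  obtain ⟨b, rfl⟩ := h.1 b
  refine h.eq_top _ (commutator_mem_commutator (mem_top a) (mem_top b)) fun e => ne ?_
  rw [map_commutatorElement, commutatorElement_eq_one_iff_mul_comm] at e
  exact e

theorem Mn.central [IsSimpleGroup S] (h : Mn π) (T : Subgroup H) [T.Normal] {y : H} (h1 : π y ≠ 1)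
    (hy : ∀ t ∈ T, y * t = t * y) : T ≤ center H := by
  have := h.eq_top (centralizer (T : Set H)) (y := y) (mem_centralizer_iff.2 fun t ht => (hy t ht).symm) h1
  exact centralizer_eq_top_iff_subset.1 this

theorem cent_of_ord {T : Subgroup H} [T.Normal] {p a r n : ℕ} (hp : p.Prime) (hr : r.Prime) (ne : r ≠ p)
    (hT : Nat.card T = p ^ a) {y : H} (hy : y ^ r ^ n = 1) (h : ∀ j, 1 ≤ j → j ≤ a → ¬ p ^ j ≡ 1 [MOD r]) :
    ∀ t ∈ T, y * t = t * y := by
  have := Fact.mk hr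
  have hY : IsPGroup r (zpowers y) := by
    obtain ⟨m, -, e⟩ := (Nat.dvd_prime_pow hr).1 (orderOf_dvd_of_pow_eq_one hy)
    exact IsPGroup.of_card ((Nat.card_zpowers y).trans e)
  let : MulAction (zpowers y) T :=
    MulAction.compHom T ((MulAut.conjNormal (H := T)).comp (zpowers y).subtype)
  have sm : ∀ (g : zpowers y) (t : T), ((g • t : T) : H) = g * t * (g : H)⁻¹ := fun g t => rfl
  let C : Subgroup T := (centralizer ({y} : Set H)).subgroupOf T
  have fx : MulAction.fixedPoints (zpowers y) T = (C : Set T) := by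
    ext t
    simp only [MulAction.mem_fixedPoints, SetLike.mem_coe, C, mem_subgroupOf, mem_centralizer_singleton_iff]
    constructor
    · intro k
      have := congrArg Subtype.val (k ⟨y, mem_zpowers y⟩)
      rw [sm] at this
      exact (mul_inv_eq_iff_eq_mul.1 this).symm
    · rintro k ⟨_, m, rfl⟩
      apply Subtype.ext
      rw [sm]
      exact mul_inv_eq_iff_eq_mul.2 ((Commute.zpow_right k m).eq.symm)
  have c := hY.card_modEq_card_fixedPoints T
  rw [fx] at c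
  have d : Nat.card C ∣ p ^ a := hT ▸ card_subgroup_dvd_card C
  obtain ⟨b, hb, e⟩ := (Nat.dvd_prime_pow hp).1 d
  have c' : p ^ a ≡ p ^ b [MOD r] := by rw [← hT, ← e]; exact c
  have ab : a = b := by
    by_contra k
    obtain ⟨j, rfl⟩ := Nat.exists_eq_add_of_le hb
    refine h j (by omega) (by omega) ?_
    have co : Nat.Coprime r (p ^ b) := ((Nat.coprime_primes hr hp).2 ne).pow_right b
    refine Nat.ModEq.cancel_left_of_coprime (c := p ^ b) co ?_
    rw [mul_one, ← pow_add]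
    exact c'
  have : C = ⊤ := eq_top_of_card_eq C (by rw [e, hT, ab])
  intro t ht
  have k : (⟨t, ht⟩ : T) ∈ C := this ▸ mem_top _
  exact (mem_centralizer_singleton_iff.1 (mem_subgroupOf.1 k)).symm

theorem exists_pow_lift [Finite S] (hs : Function.Surjective π) {r : ℕ} (hr : r.Prime) (d : r ∣ Nat.card S) :
    ∃ (y : H) (n : ℕ), y ^ r ^ n = 1 ∧ π y ≠ 1 := by
  have := Fact.mk hr
  obtain ⟨s, e⟩ := exists_prime_orderOf_dvd_card' r d
  obtain ⟨x, rfl⟩ := hs s
  obtain ⟨n, m, hm, o⟩ := Nat.exists_eq_pow_mul_and_not_dvd (orderOf_pos x).ne' r hr.ne_one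
  refine ⟨x ^ m, n, ?_, fun k => hm ?_⟩
  · rw [← pow_mul, mul_comm, ← o, pow_orderOf_eq_one]
  · rw [map_pow] at k
    exact e ▸ orderOf_dvd_of_pow_eq_one k

theorem eq_top_of_sylow {K : Type*} [Group K] [Finite K] (D : Subgroup K)
    (h : ∀ (p : ℕ) [Fact p.Prime], ∃ P : Sylow p K, (P : Subgroup K) ≤ D) : D = ⊤ := by
  by_contra k
  obtain ⟨p, hp, d⟩ := Nat.exists_prime_and_dvd (mt index_eq_one.1 k)
  have := Fact.mk hp
  obtain ⟨P, hP⟩ := h p
  exact P.not_dvd_index (d.trans (index_dvd_of_le hP))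

theorem le_center_of_sylow {K : Subgroup H}
    (h : ∀ (p : ℕ) [Fact p.Prime] (P : Sylow p K), (P : Subgroup K).map K.subtype ≤ center H) :
    K ≤ center H := by
  have := eq_top_of_sylow ((center H).subgroupOf K) fun p _ =>
    ⟨default, map_le_iff_le_comap.1 (h p default)⟩
  exact subgroupOf_eq_top.1 this

theorem exists_decomp {K : Subgroup H} (T : Sylow 2 K) [((T : Subgroup K).map K.subtype).Normal]
    (h : ∀ (p : ℕ) [Fact p.Prime], p ≠ 2 → ∀ P : Sylow p K, (P : Subgroup K).map K.subtype ≤ center H) :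
    ∀ k ∈ K, ∃ t ∈ (T : Subgroup K).map K.subtype, k * t⁻¹ ∈ center H := by
  have := eq_top_of_sylow ((center H ⊔ (T : Subgroup K).map K.subtype).subgroupOf K) fun p _ => by
    by_cases e : p = 2
    · subst e
      exact ⟨T, map_le_iff_le_comap.1 le_sup_right⟩
    · exact ⟨default, map_le_iff_le_comap.1 ((h p e default).trans le_sup_left)⟩
  intro k hk
  have m := subgroupOf_eq_top.1 this hk
  rw [← SetLike.mem_coe, normal_mul] at m
  obtain ⟨c, hc, t, ht, rfl⟩ := m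
  exact ⟨t, ht, by simpa using hc⟩

omit [Finite H] in
theorem card_eq_ker_mul (hs : Function.Surjective π) : Nat.card H = Nat.card π.ker * Nat.card S := by
  rw [card_eq_card_quotient_mul_card_subgroup π.ker, mul_comm,
    Nat.card_congr (QuotientGroup.quotientKerEquivOfSurjective π hs).toEquiv]

theorem Mn.sylow_central [IsSimpleGroup S] (h : Mn π) {N p r : ℕ} [Fact p.Prime] (hN : Nat.card H ∣ N)
    (hr : r.Prime) (ne : r ≠ p) (d : r ∣ Nat.card S)
    (o : ∀ j, 1 ≤ j → p ^ j * Nat.card S ∣ N → ¬ p ^ j ≡ 1 [MOD r]) (P : Sylow p π.ker) :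
    (P : Subgroup π.ker).map π.ker.subtype ≤ center H := by
  have := h.normal P
  have : Finite S := Finite.of_surjective π h.1
  obtain ⟨y, n, hy, y1⟩ := exists_pow_lift h.1 hr d
  obtain ⟨a, ha⟩ := IsPGroup.iff_card.1 P.isPGroup'
  have c : Nat.card ((P : Subgroup π.ker).map π.ker.subtype) = p ^ a := by
    rw [card_map_of_injective π.ker.subtype_injective, ha]
  refine h.central _ y1 (cent_of_ord Fact.out hr ne c hy fun j h1 h2 => o j h1 (Dvd.dvd.trans ?_ hN))
  rw [card_eq_ker_mul h.1]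
  exact Nat.mul_dvd_mul_right ((pow_dvd_pow p h2).trans (ha ▸ card_subgroup_dvd_card _)) _

/-- the elements of order at most two of the centre of `T` -/
def om1 (T : Subgroup H) : Subgroup H where
  carrier := {t | t ∈ T ∧ t * t = 1 ∧ ∀ s ∈ T, s * t = t * s}
  one_mem' := ⟨one_mem _, one_mul _, fun s _ => by simp⟩
  mul_mem' := by
    rintro a b ⟨h1, h2, h3⟩ ⟨k1, k2, k3⟩
    refine ⟨mul_mem h1 k1, ?_, fun s hs => ?_⟩
    · calc a * b * (a * b) = a * (b * a) * b := by group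
        _ = a * a * (b * b) := by rw [h3 b k1]; group
        _ = 1 := by rw [h2, k2, one_mul]
    · rw [← mul_assoc, h3 s hs, mul_assoc, k3 s hs, mul_assoc]
  inv_mem' := by
    rintro a ⟨h1, h2, h3⟩
    have : a⁻¹ = a := inv_eq_of_mul_eq_one_right h2
    rw [this]
    exact ⟨h1, h2, h3⟩

omit [Finite H] in
theorem om1_normal (T : Subgroup H) [hT : T.Normal] : (om1 T).Normal := by
  refine ⟨?_⟩
  rintro a ⟨h1, h2, h3⟩ g
  refine ⟨hT.conj_mem a h1 g, ?_, fun s hs => ?_⟩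
  · calc g * a * g⁻¹ * (g * a * g⁻¹) = g * (a * a) * g⁻¹ := by group
      _ = 1 := by rw [h2]; group
  · have := h3 _ (hT.conj_mem' s hs g)
    calc s * (g * a * g⁻¹) = g * (g⁻¹ * s * g * a) * g⁻¹ := by group
      _ = g * a * g⁻¹ * s := by rw [this]; group

/-- the normal 2-subgroup `T` is trivial or contains an involution central in `H` -/
theorem Mn.exists_invol [IsSimpleGroup S] (h : Mn π) (T : Subgroup H) [T.Normal] (hT : IsPGroup 2 T)
    (rk : ∀ A : Subgroup H, IsMulCommutative A → (∀ a ∈ A, a ^ 2 = 1) → Nat.card A ≤ 2 ^ 15) {r : ℕ}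
    (hr : r = 19 ∨ r = 29) (d : r ∣ Nat.card S) :
    T = ⊥ ∨ ∃ t ∈ T, t ≠ 1 ∧ t * t = 1 ∧ t ∈ center H := by
  have : Finite S := Finite.of_surjective π h.1
  have := om1_normal T
  have rp : r.Prime := by rcases hr with rfl | rfl <;> norm_num
  obtain ⟨y, n, hy, y1⟩ := exists_pow_lift h.1 rp d
  have le : om1 T ≤ T := fun t ht => ht.1
  obtain ⟨a, ha⟩ := IsPGroup.iff_card.1 (hT.to_le le)
  have a15 : a ≤ 15 := by
    have := rk (om1 T) ⟨⟨fun u v => Subtype.ext (v.2.2.2 u u.2.1)⟩⟩ fun u hu => by rw [pow_two]; exact hu.2.1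
    rw [ha] at this
    exact (Nat.pow_le_pow_iff_right (by norm_num)).1 this
  have cen : om1 T ≤ center H := by
    refine h.central _ y1 (cent_of_ord Nat.prime_two rp (by omega) ha hy fun j h1 h2 => ?_)
    have : j ≤ 15 := h2.trans a15
    rcases hr with rfl | rfl <;> interval_cases j <;> decide
  refine T.bot_or_nontrivial.imp_right fun k => ?_
  have : Nontrivial T := k
  have := hT.center_nontrivial
  obtain ⟨m, hm⟩ := IsPGroup.iff_card.1 (hT.to_subgroup (center T))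
  have : 2 ∣ Nat.card (center T) := by
    rw [hm]
    refine dvd_pow_self 2 fun e => ?_
    rw [e, pow_zero] at hm
    exact (Finite.one_lt_card (α := center T)).ne' hm
  obtain ⟨t, ht⟩ := exists_prime_orderOf_dvd_card' 2 this
  have tt : t * t = 1 := by rw [← pow_two, ← ht, pow_orderOf_eq_one]
  have t1 : t ≠ 1 := fun e => by simp [e] at ht
  have tt' : ((t : T) : H) * ((t : T) : H) = 1 := congrArg (fun x : center T => ((x : T) : H)) tt
  refine ⟨(t : T), (t : T).2, fun e => t1 (Subtype.ext (Subtype.ext e)), tt', cen ⟨(t : T).2, tt', fun s hs => ?_⟩⟩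
  exact congrArg Subtype.val (mem_center_iff.1 t.2 ⟨s, hs⟩)

theorem exists_gen {H S : Type} [Group H] [Finite H] [Group S] {π : H →* S} (hs : Function.Surjective π)
    (hc : π.ker ≤ center H) (hp : commutator H = ⊤) {n : ℕ} (m : HasCyclicSchurMultiplier S n) :
    ∃ κ : H, κ ^ n = 1 ∧ π.ker = zpowers κ := by
  obtain ⟨f, hf⟩ := m.2 H π ⟨hs, hc, hp ▸ le_top⟩
  refine ⟨f (Multiplicative.ofAdd 1), ?_, le_antisymm (fun k hk => ?_) (zpowers_le_of_mem (f _).2)⟩
  · rw [← coe_pow, ← map_pow, ← ofAdd_nsmul, nsmul_one, ZMod.natCast_self, ofAdd_zero, map_one, coe_one]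
  · obtain ⟨x, e⟩ := hf ⟨k, hk⟩
    obtain ⟨i, hi⟩ := ZMod.intCast_surjective (Multiplicative.toAdd x)
    refine ⟨i, ?_⟩
    show ((f (Multiplicative.ofAdd 1) : π.ker) : H) ^ i = k
    rw [← coe_zpow, ← map_zpow, ← ofAdd_zsmul, zsmul_one, hi, ofAdd_toAdd, e]

omit [Finite H] in
theorem lift_unique {q : ℕ} (hc : π.ker ≤ center H) (he : ∀ k ∈ π.ker, k ^ q = 1) {a b : H} {m n : ℕ}
    (e : π a = π b) (ha : a ^ m = 1) (hb : b ^ n = 1) (hm : m.Coprime q) (hn : n.Coprime q) : a = b := by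
  have k : a * b⁻¹ ∈ π.ker := by rw [MonoidHom.mem_ker, map_mul, map_inv, e, mul_inv_cancel]
  have c : Commute (a * b⁻¹) b := (mem_center_iff.1 (hc k) b).symm
  have h1 : (a * b⁻¹ * b) ^ (m * n) = 1 := by rw [inv_mul_cancel_right, pow_mul, ha, one_pow]
  rw [c.mul_pow, mul_comm m n, pow_mul b, hb, one_pow, mul_one] at h1
  have := pow_gcd_eq_one.2 ⟨h1, he _ k⟩
  rw [(Nat.Coprime.mul_left hn hm : (n * m).Coprime q), pow_one] at this
  exact mul_inv_eq_one.1 this

theorem exists_lift (hs : Function.Surjective π) {q : ℕ} (hq : q.Prime) (hc : π.ker ≤ center H)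
    (he : ∀ k ∈ π.ker, k ^ q = 1) : ∃ ℓ : S → H, (∀ s, π (ℓ s) = s) ∧
      (∀ h n, h ^ n = 1 → n.Coprime q → ℓ (π h) = h) ∧ (∀ s n, s ^ n = 1 → n.Coprime q → ℓ s ^ n = 1) ∧
      ∀ (p : ℕ) (P : Subgroup S), p.Prime → p ≠ q → IsPGroup p P → ∀ a ∈ P, ∀ b ∈ P,
        ℓ (a * b) = ℓ a * ℓ b := by
  have ex : ∀ s : S, ∃ h : H, π h = s ∧
      ((∃ (h' : H) (n : ℕ), π h' = s ∧ h' ^ n = 1 ∧ n.Coprime q) → ∃ n : ℕ, h ^ n = 1 ∧ n.Coprime q) := by
    intro s
    by_cases k : ∃ (h' : H) (n : ℕ), π h' = s ∧ h' ^ n = 1 ∧ n.Coprime q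
    · obtain ⟨h, n, h1, h2⟩ := k
      exact ⟨h, h1, fun _ => ⟨n, h2⟩⟩
    · obtain ⟨h, h1⟩ := hs s
      exact ⟨h, h1, fun k' => absurd k' k⟩
  choose ℓ l1 l2 using ex
  have l3 : ∀ h n, h ^ n = 1 → n.Coprime q → ℓ (π h) = h := by
    intro h n h1 h2
    obtain ⟨m, k1, k2⟩ := l2 (π h) ⟨h, n, rfl, h1, h2⟩
    exact lift_unique hc he (l1 _) k1 h1 k2 h2
  refine ⟨ℓ, l1, l3, fun s n h1 h2 => ?_, fun p P hp ne hP a ha b hb => ?_⟩
  · obtain ⟨h, rfl⟩ := hs s
    have k : (h ^ n) ^ q = 1 := he _ (by rw [MonoidHom.mem_ker, map_pow, h1])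
    obtain ⟨u, hu⟩ := exists_pow_eq_self_of_coprime (x := π h)
      (h2.symm.coprime_dvd_right (orderOf_dvd_of_pow_eq_one h1))
    have k' : ((h ^ q) ^ u) ^ n = 1 := by
      rw [← pow_mul, mul_comm u n, pow_mul, ← pow_mul h q n, mul_comm q n, pow_mul h, k, one_pow]
    rw [← hu, ← map_pow, ← map_pow, l3 _ n k' h2, k']
  · have := Fact.mk hp
    have sj := π.subgroupComap_surjective_of_surjective P hs
    let R : Sylow p (P.comap π) := default
    have top : ((R.mapSurjective sj : Sylow p P) : Subgroup P) = ⊤ :=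
      ((R.mapSurjective sj).is_maximal' (hP.to_subgroup ⊤) le_top).symm
    rw [Sylow.coe_mapSurjective] at top
    obtain ⟨x, hx, e1⟩ : (⟨a, ha⟩ : P) ∈ (R : Subgroup (P.comap π)).map (π.subgroupComap P) := top ▸ mem_top _
    obtain ⟨y, hy, e2⟩ : (⟨b, hb⟩ : P) ∈ (R : Subgroup (P.comap π)).map (π.subgroupComap P) := top ▸ mem_top _
    have co : ∀ n, (p ^ n).Coprime q := fun n => ((Nat.coprime_primes hp hq).2 ne).pow_left n
    have key : ∀ w ∈ (R : Subgroup (P.comap π)), ℓ (π w) = w := by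
      intro w hw
      obtain ⟨n, hn⟩ := R.isPGroup' ⟨w, hw⟩
      exact l3 _ _ (congrArg (fun x : (R : Subgroup (P.comap π)) => ((x : P.comap π) : H)) hn) (co n)
    have ea : π x = a := congrArg Subtype.val e1
    have eb : π y = b := congrArg Subtype.val e2
    rw [← ea, ← eb, ← map_mul, key x hx, key y hy]
    exact key _ (mul_mem hx hy)

end H95.Ph
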