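import Cfsg.Agent.Lib.Prh.Cfg
import Cfsg.Agent.Lib.J3.Basic

/-! The configurations in the third Janko group. -/

set_option autoImplicit false
set_option maxRecDepth 100000

namespace H95.Ph

open Cfsg Subgroup H15.Mdl H15.J3M H54

namespace JX

/-- value of a word -/
def ev {G : Type*} [Group G] (l : List G) (w : List ℕ) : G := (w.map fun j => l.getD j 1).prod

section

variable {G : Type*} [Group G] {o : Ops} {R : G → ℕ → Prop}

theorem nth_rel {l : List G} {L : List ℕ} (h : List.Forall₂ R l L) : ∀ j < L.length, R (l.getD j 1) (nth L j) := by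
  induction h with
  | nil => simp
  | cons a _ ih => rintro (_ | j) hj; exacts [a, ih j (by simpa using hj)]

theorem ev_rel (S : Sound o R) {l : List G} {L : List ℕ} (h : List.Forall₂ R l L) :
    ∀ w : List ℕ, (∀ j ∈ w, j < L.length) → R (ev l w) (o.word L w)
  | [], _ => S.one
  | j :: w, k => S.mul (nth_rel h j (k j List.mem_cons_self)) (ev_rel S h w fun i hi => k i (List.mem_cons_of_mem _ hi))

theorem ev_eq (S : Sound o R) {l : List G} {L : List ℕ} (h : List.Forall₂ R l L) (v w : List ℕ)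
    (c : (decide (∀ j ∈ v ++ w, j < L.length) && o.eqv (o.word L v) (o.word L w)) = true) : ev l v = ev l w := by
  rw [Bool.and_eq_true, decide_eq_true_eq] at c
  exact (S.eqv_iff (ev_rel S h v fun j k => c.1 j (List.mem_append_left _ k))
    (ev_rel S h w fun j k => c.1 j (List.mem_append_right _ k))).1 c.2

theorem inv_rel (S : Sound o R) {g : G} {p q : ℕ} (a : R g p) (n : ℕ)
    (c : (o.isOne (o.pow p (n + 1)) && o.eqv (o.pow p n) q) = true) : R g⁻¹ q := by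
  rw [Bool.and_eq_true] at c
  rw [inv_eq_of_mul_eq_one_left ((pow_succ g n).symm.trans ((S.isOne_iff (S.pow a _)).1 c.1))]
  exact S.tr (S.pow a n) c.2

end

def LL : List ℕ := [0x71e1b8e4d923d9c4ad0216404f77d90badc1831a108d4e55da7fed24e6872755cdcbe2e1f73f2b8a8,
  0x7aabb9559fb6669b77a5ebd7e5ac0c6a0235b4f25b2879b849d931c45ea33e552477c73be480e7102,
  0x6058343d023cf04a2856203f4402c260607478047903310638c349b5975bdfb6102b4c052e4046703,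
  0x7511bbccda41fd70eaf4832b108c8ffa12a9c207e043a9c399e09d4691f35ce09fc01ea0319088dc1,
  0x686475373c337208b85088bc111fed96a6df65fd77eafca1ea14e56e1cb64e19aac1d5605f057e83f,
  0x6d90f6dc25a667d777f298a85d15e103e4c0e099641dfb12f98c6910d90c2dcd7a96f95f2e6c86761,
  0x156d0ff6c4c6ef2366095c01fe0ecd1e62ce7641fb70e4f34328b08f6612b74bbf5d9abe6d0bf6c1a,
  0x6be0b5a419e031e408af2c96861488871113a239d449ee7ec27a6019278dc79013200c84d4132f0c8,
  0x55607ff43f41bab0d907ad4396f49f3f1e8ae4276707b3d644af73d56eaff65d77fefbaaea5fe57ea,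
  0x53f4fcab2dd116eccf297185f8de4e8e725286ed1366c09de41ee7a084541336548f7f12ef2f26868,
  0x59dd7deef6819750df27310788cf07fe83aae7bc279a0ff522abc4936d1cb6ceaabe555a27f487ab1,
  0x56713f78c5bcb3da1873bb38998e97065f836d24f6c728ad8516d33c740a3b06801b500d019340dcb,
  0x1f3d4e8af05f043e836189b4d1d15cd4fe2f1afd0d6aca50217c04c50b23c186489b711d500c3c020,
  0x66677777bc6cd6362fc27ba0799237f84ba94e8332508e19724df85faa7e957217044f834d7c72fa3,
  0x125f4c7eb4382f09066e6bb675944ea7325756463f734f52e2bc64a815d50fe714db8f2d228284505,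
  0x7de0bae41dcf46e2b3eb1c658e3b8e51927c832010840ccbe621a70be401a70204b84319cd8c22d20,
  0x618ab4d1560e5f427e5765ffb7e4916f1cf64e15724ffdefe6e6a7385a893d5268e87525765ebb7e5,
  0x62cdb462d5f0ffe82a2d7186f8d94d19f2cd86ad1356c9bd0ddac243a7b097914708f3819e161e4f4,
  0x52ae3c5647ee7fa67af4636b34b48abb115981d790ef95a9fbd5e9b28b5851b56363f4b45202fc406,
  0x56713f78c5bcb3da1873bb38998e97065f836d24f6c728ad8516d33c740a3b06801b500d019340dcb,
  0x4394309f4d7372f8b91d51cefc95d41fef02e8306508a080141008e8f92529457933f9c5d033ec08,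
  0x71e1b8e4d923d9c4ad0216404f77d90badc1831a108d4e55da7fed24e6872755cdcbe2e1f73f2b8a8]

def L3 : List ℕ := [0x40003000010000c00004000300003000080000c000200003000080000800010000200004000080001,
  0x400030000300008000080001000010000c0000c000200002000040000400030000300008000080001,
  0x10000c00008000100080001000000c000200002000040020000400000200004000080001000800010,
  0x10000c00004000300040003000000800010000300008003000080000010000c0000c0002000c00020,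
  0x10000c00c000200000004000303000080040003000000040003000c000200200004000000300008,
  0x40003000008000100800010008000100000010000c000030000800004000310000c000020000400,
  0x10000c000000c000200030000800000800010040003008000100000300008000c0002000000300008,
  0x40003000010000c000040003000020000400008000100002000040000c000200003000080000c0002,
  0x4000300002000040000c0002000010000c000080001000030000800004000300002000040000c0002,
  0x4000300080001000010000c0000010000c003000080000400030000004000300040003000010000c,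
  0x4000300040003000010000c000002000040030000800008000100000080001000400030000200004,
  0x40003000003000082000040000200004000008000104000300000010000c0000080001040003000,
  0x10000c0000020000404000300000004000380001000000800010010000c000003000080000800010,
  0x10000c0800010000000300008000c000200080001000c00020003000080000000c0002010000c00]

def WW : List (List ℕ) := [[], [1, 1, 0, 0, 1, 0, 1, 0, 0, 1, 0, 1, 1, 1, 1], [1, 0, 1, 1, 1, 0, 0, 1, 0, 1, 0, 0,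
  0, 0], [1, 1, 1, 1, 0, 0, 1, 1, 1, 0, 0, 1, 0], [0, 0, 0, 1, 0, 0, 0, 1, 1, 1, 1, 0, 1, 0], [], [5, 3, 5, 3, 2, 5,
  2], [2], [5, 3, 5, 3, 2, 5], [5, 3, 2, 5, 4, 3, 5, 3], [1, 0, 1, 1, 0, 0, 1, 0, 1, 1, 0, 0, 0, 0], [5, 3, 2, 5, 4,
  3, 5, 2], [5, 3, 2, 5, 4, 3, 5], [1, 1, 1, 1, 1, 1, 1, 1, 0, 0, 1, 0, 1, 0, 0], [3, 5, 3, 2, 5, 4, 3, 5], [0, 1,
  1, 0, 1, 1, 0, 0, 1, 0, 1, 1, 0], [0, 0, 1, 0, 1, 0, 1, 0, 1, 1, 0, 0, 1, 1], [5, 3, 5, 3, 2, 5, 3], [3], [2, 5,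
  3, 5, 3, 2, 5], [], [4, 3, 1, 0, 1, 0, 1, 0, 1, 1, 1, 0, 0, 1, 0, 5, 3, 5, 3], [3, 2], [1, 0, 1, 0, 1, 0, 1, 1, 1,
  0, 0, 1, 0, 5, 3, 5, 3], [5, 3, 5, 3, 2], [1, 0, 1, 1, 0, 1, 0], [2], [3, 1, 0, 1, 0, 1, 0, 1, 1, 1, 0, 0, 1, 0,
  5, 3, 5, 3], [4, 1, 0, 1, 0, 1, 0, 1, 1, 1, 0, 0, 1, 0, 5, 3, 5, 3], [5, 3, 5, 3], [1, 0, 1, 1, 0, 0, 0, 0, 1, 1,
  0, 0, 0, 0, 0], [2, 4, 1, 0, 1, 0, 1, 0, 1, 1, 1, 0, 0, 1, 0], [1, 0, 1, 0, 1, 0, 1, 1, 1, 0, 0, 1, 0, 5, 3, 2, 5,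
  3], [3, 1, 0, 1, 0, 1, 0, 1, 1, 1, 0, 0, 1, 0], [1, 1, 1, 1, 0, 0, 1, 1, 1, 0], [4, 2, 1, 0, 1, 0, 1, 0, 1, 1, 1,
  0, 0, 1, 0], [0, 1, 0, 1, 0, 1, 0, 0, 0, 0, 1, 1, 0, 1, 0], [3, 1, 0, 1, 0, 1, 0, 1, 1, 1, 0, 0, 1, 0, 5, 3, 2, 5,
  3], [3, 4, 1, 0, 1, 0, 1, 0, 1, 1, 1, 0, 0, 1, 0, 5, 3, 2, 5, 3], [4, 1, 0, 1, 0, 1, 0, 1, 1, 1, 0, 0, 1, 0], [0,
  0, 1, 1, 0, 0, 0, 0, 0, 1, 0, 0, 1, 1], [2, 1, 0, 1, 0, 1, 0, 1, 1, 1, 0, 0, 1, 0, 5, 3, 2, 5, 3], [0, 1, 0, 1, 0,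
  0, 0, 0, 1, 0, 0, 0, 1, 0], [3, 2, 1, 0, 1, 0, 1, 0, 1, 1, 1, 0, 0, 1, 0], [4, 1, 0, 1, 0, 1, 0, 1, 1, 1, 0, 0, 1,
  0, 5, 3, 2, 5, 3], [4, 3, 1, 0, 1, 0, 1, 0, 1, 1, 1, 0, 0, 1, 0], [0, 1, 1, 0, 0, 1, 1, 1, 0, 0, 1, 0, 0, 1, 0],
  [5, 3, 2, 4, 5, 3, 5, 2], [1, 0, 1, 0, 1, 0, 1, 1, 1, 0, 0, 1, 0, 5, 3, 2, 5, 3, 2], [5, 3, 2, 4, 5, 3, 5], [0, 0,
  1, 1, 0, 1, 0, 0, 0, 1, 0, 1, 1, 0], [3, 5, 3, 2, 5, 3], [2, 1, 0, 1, 0, 1, 0, 1, 1, 1, 0, 0, 1, 0, 5, 3, 5, 3],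
  [3], [2, 5, 3, 5, 3, 2], [5, 3, 5, 3, 2, 5, 4, 1, 0, 1, 0, 1, 0, 1, 1, 1, 0, 0, 1, 0], [0, 1, 0, 1, 0, 0, 1, 0, 1,
  1, 1, 1], [5, 3, 2, 5, 3], [3, 2, 1, 0, 1, 0, 1, 0, 1, 1, 1, 0, 0, 1, 0, 5, 3, 5, 3], [3, 4, 2, 4, 3], [2, 5, 3,
  5, 4, 3, 2, 5], [2, 5, 3, 5, 3], [5, 3, 5, 4, 3, 2, 5, 2], [4, 2, 4, 3, 2], [5, 3, 2, 5, 3, 2], [1, 1, 1, 1, 1, 0,
  0, 1, 1, 0, 0, 0, 0, 0], [3, 2], [5, 3, 4, 5, 3, 2, 5, 3], [3, 2, 4, 3, 2], [4, 2, 1, 0, 1, 0, 1, 0, 1, 1, 1, 0,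
  0, 1, 0, 5, 3, 5, 3], [2, 4, 3], [5, 3, 4, 5, 3, 2, 5], [2, 5, 3, 2, 5, 3], [4, 5, 3, 5, 3, 2, 5, 3], [4, 3], [2,
  5, 4, 3, 5, 3, 2, 5], [5, 3, 4, 3, 5], [2, 5, 3, 4, 5, 3, 2, 5], [5, 3, 5, 4, 3, 2, 5], [2, 4, 3, 2], [4, 3, 2],
  [5, 3, 5, 3, 2, 5, 4, 3], [3, 2, 4, 3], [4, 2, 4, 3], [5, 3, 4, 5, 3, 2, 5, 2], [4, 3, 1, 0, 1, 0, 1, 0, 1, 1, 1,
  0, 0, 1, 0, 5, 3, 2, 5, 3], [1, 0, 1, 0, 1, 0, 1, 1, 1, 0, 0, 1, 0], [1, 0, 0, 0, 0, 1, 1, 0, 1], [5, 3, 2, 5, 3,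
  5], [3, 5, 3, 2], [0, 0, 0, 0, 0, 1, 0, 1, 1, 1, 0], [2, 5, 3], [5, 3, 2, 5, 3, 5, 2], [5, 3, 2, 4, 5, 3, 5, 1, 0,
  1, 0, 1, 0, 1, 1, 1, 0, 0, 1, 0], [5, 3, 2, 5, 3, 5, 4, 3], [5, 3], [4, 5, 3, 2, 5, 3, 5, 2], [0, 1, 0, 1, 1, 1,
  1, 1, 1, 1, 1, 0, 0], [3, 5, 3, 2, 5, 3, 5], [3, 4, 5, 3, 2, 5, 3, 5], [5, 3, 2], [2, 5, 3, 2], [5, 3, 2, 5, 3, 4,
  5, 3], [3, 2, 5, 3], [1, 1, 0, 0, 0, 1, 0, 0, 1, 0, 1, 0, 1, 0], [5, 3, 2, 5, 3, 5, 3], [2, 1, 0, 1, 0, 1, 0, 1,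
  1, 1, 0, 0, 1, 0], [3, 5, 3], [3, 2, 5, 3, 2], [4, 5, 3, 2, 5, 3, 5], [3, 5, 3, 2, 4, 5, 3, 5], [1, 0, 1, 0, 1, 0,
  1, 0, 0, 1, 0, 1, 0, 1, 0], [1, 0, 1, 1, 0, 0, 1, 0, 0, 0, 0, 1, 0, 0], [1, 0, 0, 1, 1, 0, 0, 1, 0], [1, 0, 0, 0,
  1, 1, 0, 1, 1, 0, 1, 1, 0, 0, 0, 0], [0, 0, 1, 0, 0, 0, 1, 0, 1, 1, 1, 0], [3, 4, 3], [3, 4, 3, 2], [5, 4, 3, 5,
  3, 2, 5, 2], [5, 4, 3, 5, 3, 2, 5], [], [1, 0, 1, 0, 1, 1, 0, 0, 0, 0, 0, 1, 0, 0], [0, 1, 1, 1, 0, 1, 0, 1, 0, 1,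
  0, 0, 0, 0, 1, 0], [0, 0, 1, 1, 1, 0, 1, 1, 1, 0, 1, 1, 1, 0, 1, 0], [1, 0, 1, 0, 1, 0, 1, 1, 1, 0, 0, 1, 0], [0,
  0, 0, 0, 1, 1, 1, 1, 0, 0, 0, 1, 1], [1, 1, 1, 0, 0, 1, 1, 1, 1, 0, 1, 0, 1, 1], [0, 0, 1, 1, 1, 1, 1, 0, 1, 0, 0,
  0]]

def CL : List ℕ := [0, 1, 1, 1, 1, 3, 3, 3, 3, 3, 1, 3, 3, 1, 3, 1, 1, 3, 3, 3, 2, 2, 3, 2, 2, 1, 2, 2, 2, 2, 1, 2,
  2, 2, 1, 2, 1, 2, 2, 2, 1, 2, 1, 2, 2, 2, 1, 3, 2, 3, 1, 2, 2, 2, 2, 2, 1, 2, 2, 3, 3, 2, 3, 3, 2, 1, 2, 3, 3, 2,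
  3, 3, 2, 3, 3, 3, 3, 3, 3, 3, 3, 3, 3, 3, 3, 2, 2, 1, 3, 2, 1, 2, 3, 2, 3, 2, 3, 1, 3, 3, 2, 2, 3, 2, 1, 3, 2, 2,
  2, 3, 3, 1, 1, 1, 1, 1, 3, 3, 3, 3, 1, 1, 1, 1, 1, 1, 1, 1]

theorem chk : allLt (fun i => decide (∀ j ∈ WW.getD i [], j < 6) && decide (nth CL i < 4) &&
    ops.cj (ops.word (G_S ++ C_S) (WW.getD i [])) (nth [ops.one, nth LL 0, nth LL 1, nth LL 5] (nth CL i))
      (S_T i)) 128 = true := by decide +kernel

theorem sum_cl (f : ℕ → ℝ) : ∑ i : Fin 128, f (nth CL i) = f 0 + 35 * f 1 + 44 * f 2 + 48 * f 3 := by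
  have h : ∀ i : Fin 128, nth CL i < 4 := by decide +kernel
  have e : ∀ i : Fin 128, f (nth CL i) = ∑ k ∈ Finset.range 4, if nth CL i = k then f k else 0 := fun i => by
    rw [Finset.sum_ite_eq, if_pos (Finset.mem_range.2 (h i))]
  have c : ∀ k < 4, (Finset.univ.filter fun i : Fin 128 => nth CL i = k).card = [1, 35, 44, 48].getD k 0 := by
    decide +kernel
  rw [Finset.sum_congr rfl fun i _ => e i, Finset.sum_comm,
    Finset.sum_congr rfl fun k hk => by rw [← Finset.sum_filter, Finset.sum_const, c k (Finset.mem_range.1 hk)]]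
  simp [Finset.sum_range_succ]

end JX

open JX

variable {F : Type} [Field F] {ω : F}

theorem exists_cj (X : H15.Mdl.Is4 F ω) : CJ (Spor.J3 F ω) := by
  have S := snd X
  have m1 : AllIn (R ω) (grp (R ω) S_S) (LL.take 8) := (vS X).grp_self.of_wordsChk S
    [[2, 0, 2, 0, 2, 0, 2, 0], [2, 0, 2, 0], [0, 2, 1, 0, 2, 1], [0, 2, 1, 2, 1, 0], [2, 1, 0, 2, 0, 2, 1], [2, 0], [1, 2, 1, 0, 2, 1, 0], [1, 0, 2, 1, 2]] _ (by decide +kernel)
  have m2 : AllIn (R ω) ⊤ ((LL.drop 8).take 5) := ((vG X).append (vC X)).of_wordsChk S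
    [[5, 3, 4, 5, 3], [5, 3, 2, 4, 5, 3, 4, 5, 2], [1, 0, 1, 0, 1, 0, 1, 1, 1, 0, 0, 1, 0], [5, 3, 4, 3, 5], [4,
    2, 4, 2, 4, 2, 4, 2, 0, 4, 2, 4, 2, 4, 2, 4, 2, 0, 0, 0, 0, 0, 0, 0, 0, 0, 0, 0, 0, 0, 0, 0, 0]] _ (by decide +kernel)
  obtain ⟨z, hz, rz⟩ := m1 (nth LL 0) (by decide +kernel)
  obtain ⟨a, ha, ra⟩ := m1 (nth LL 1) (by decide +kernel)
  obtain ⟨b, hb, rb⟩ := m1 (nth LL 2) (by decide +kernel)
  obtain ⟨c, hc, rc⟩ := m1 (nth LL 3) (by decide +kernel)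
  obtain ⟨d, hd, rd⟩ := m1 (nth LL 4) (by decide +kernel)
  obtain ⟨e, he, re⟩ := m1 (nth LL 5) (by decide +kernel)
  obtain ⟨t1, ht1, rt1⟩ := m1 (nth LL 6) (by decide +kernel)
  obtain ⟨t2, ht2, rt2⟩ := m1 (nth LL 7) (by decide +kernel)
  obtain ⟨u, -, ru⟩ := m2 (nth LL 8) (by decide +kernel)
  obtain ⟨p, -, rp⟩ := m2 (nth LL 9) (by decide +kernel)
  obtain ⟨g, -, rg⟩ := m2 (nth LL 10) (by decide +kernel)
  obtain ⟨h, -, rh⟩ := m2 (nth LL 11) (by decide +kernel)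
  obtain ⟨y, -, ry⟩ := m2 (nth LL 12) (by decide +kernel)
  have q := ev_eq S (l := [z, a, b, c, d, e, t1, t2, u, p, g, h, y, d⁻¹, t1⁻¹, t2⁻¹, u⁻¹, p⁻¹, g⁻¹, h⁻¹, y⁻¹, z⁻¹])
    (L := LL) (.cons rz (.cons ra (.cons rb (.cons rc (.cons rd (.cons re (.cons rt1 (.cons rt2 (.cons ru (.cons rp (.cons rg (.cons rh (.cons ry (
    .cons (inv_rel S rd 3 (by decide +kernel)) (
    .cons (inv_rel S rt1 3 (by decide +kernel)) (
    .cons (inv_rel S rt2 3 (by decide +kernel)) (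
    .cons (inv_rel S ru 4 (by decide +kernel)) (
    .cons (inv_rel S rp 2 (by decide +kernel)) (
    .cons (inv_rel S rg 5 (by decide +kernel)) (
    .cons (inv_rel S rh 1 (by decide +kernel)) (
    .cons (inv_rel S ry 16 (by decide +kernel)) (
    .cons (inv_rel S rz 1 (by decide +kernel)) (
    .nil)))))))))))))))))))))))
  have R' : RR z a b c d := ⟨by simpa [ev, mul_assoc] using q [0, 0] [] (by decide +kernel),
    by simpa [ev, mul_assoc] using q [1, 1] [0] (by decide +kernel),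
    by simpa [ev, mul_assoc] using q [2, 2] [0] (by decide +kernel),
    by simpa [ev, mul_assoc] using q [3, 3] [0] (by decide +kernel),
    by simpa [ev, mul_assoc] using q [4, 4] [0] (by decide +kernel),
    by simpa [ev, mul_assoc] using q [1, 2] [2, 1, 0] (by decide +kernel),
    by simpa [ev, mul_assoc] using q [1, 3] [3, 1, 0] (by decide +kernel),
    by simpa [ev, mul_assoc] using q [1, 4] [4, 1, 0] (by decide +kernel),
    by simpa [ev, mul_assoc] using q [2, 3] [3, 2, 0] (by decide +kernel),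
    by simpa [ev, mul_assoc] using q [2, 4] [4, 2, 0] (by decide +kernel),
    by simpa [ev, mul_assoc] using q [3, 4] [4, 3, 0] (by decide +kernel)⟩
  have T' : TT z a b c d e t1 t2 := ⟨by simpa [ev, mul_assoc] using q [5, 5] [1] (by decide +kernel),
    by simpa [ev, mul_assoc] using q [6, 0] [0, 6] (by decide +kernel),
    by simpa [ev, mul_assoc] using q [7, 0] [0, 7] (by decide +kernel),
    by simpa [ev, mul_assoc] using q [4, 6, 13, 14, 4, 6, 13, 14] [0] (by decide +kernel),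
    by simpa [ev, mul_assoc] using q [4, 7, 13, 15, 4, 7, 13, 15] [0] (by decide +kernel),
    by simpa [ev, mul_assoc] using q [4, 6, 7, 13, 15, 14, 4, 6, 7, 13, 15, 14] [0] (by decide +kernel),
    by simpa [ev, mul_assoc] using q [4, 6, 13, 14, 7, 6, 4, 14, 13, 15] [1, 2, 3, 0] (by decide +kernel)⟩
  have A' : AA z a b c d u p := ⟨by simpa [ev, mul_assoc] using q [8, 0] [0, 8] (by decide +kernel),
    by simpa [ev, mul_assoc] using q [9, 0] [0, 9] (by decide +kernel),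
    by simpa [ev, mul_assoc, pow_succ] using q [8, 8, 8, 8, 8] [] (by decide +kernel),
    by simpa [ev, mul_assoc, pow_succ] using q [8, 9, 8, 9, 8, 9, 8, 9, 8, 9] [] (by decide +kernel),
    Or.inr (by simpa [ev, mul_assoc] using q [8, 1, 16] [1, 2, 0] (by decide +kernel)),
    Or.inl (by simpa [ev, mul_assoc] using q [8, 2, 16] [1, 3] (by decide +kernel)),
    Or.inl (by simpa [ev, mul_assoc] using q [8, 3, 16] [1, 4] (by decide +kernel)),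
    Or.inr (by simpa [ev, mul_assoc] using q [8, 4, 16] [1, 0] (by decide +kernel)),
    Or.inl (by simpa [ev, mul_assoc] using q [9, 1, 17] [2] (by decide +kernel)),
    Or.inr (by simpa [ev, mul_assoc] using q [9, 2, 17] [3, 0] (by decide +kernel)),
    Or.inr (by simpa [ev, mul_assoc] using q [9, 3, 17] [1, 0] (by decide +kernel)),
    Or.inl (by simpa [ev, mul_assoc] using q [9, 4, 17] [4] (by decide +kernel))⟩
  have F' : FF z a b c e t1 t2 g h y := ⟨by simpa [ev, mul_assoc] using q [10, 0, 18] [1, 2, 3] (by decide +kernel),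
    by simpa [ev, mul_assoc] using q [10, 1, 18] [6] (by decide +kernel),
    by simpa [ev, mul_assoc] using q [10, 2, 18] [7] (by decide +kernel),
    by simpa [ev, mul_assoc] using q [11, 5, 19] [5, 0] (by decide +kernel),
    by simpa [ev, mul_assoc, pow_succ] using q [12, 12, 12, 12, 12, 12, 12, 12, 12, 12, 12, 12, 12, 12, 12, 12, 12] [] (by decide +kernel),
    fun k => (S.ne_of ry S.one (by decide +kernel)) k,
    by simpa [ev, mul_assoc] using q [0, 12, 21] [20] (by decide +kernel)⟩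
  have en := enS X
  have := en.finite S
  let _ := Fintype.ofFinite (grp (R ω) S_S)
  have cd : Fintype.card (grp (R ω) S_S) = 128 := by rw [← Nat.card_eq_fintype_card, en.card S]
  refine ⟨grp (R ω) S_S, inferInstance, inferInstance, Subgroup.subtype _, ⟨z, hz⟩, ⟨a, ha⟩, ⟨b, hb⟩, ⟨c, hc⟩,
    ⟨d, hd⟩, ⟨e, he⟩, ⟨t1, ht1⟩, ⟨t2, ht2⟩, u, p, g, h, y, ?_, ?_, ⟨cd, fun f hf => ?_⟩,
    S.ne_of rz S.one (by decide +kernel), A', F'⟩
  · obtain ⟨_, _, _, _, _, _, _, _, _, _, _⟩ := R'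
    constructor <;> exact Subtype.ext ‹_›
  · obtain ⟨_, _, _, _, _, _, _⟩ := T'
    constructor <;> exact Subtype.ext ‹_›
  obtain ⟨i, hi, ri⟩ := en.mem.exists_inj en.dist
  rw [← (Equiv.ofBijective i ((Fintype.bijective_iff_injective_and_card i).2 ⟨hi, by simp [cd]⟩)).sum_comp]
  refine (Finset.sum_congr rfl fun j _ => ?_).trans (sum_cl fun k => f ([1, z, a, e].getD k 1))
  have k := (allLt_iff _ _).1 chk j j.2
  simp only [Bool.and_eq_true, decide_eq_true_eq] at k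
  obtain ⟨x, -, rx⟩ := In.word S ((vG X).append (vC X)) _ k.1.1
  have := (S.cj_iff rx (nth_rel (l := [1, z, a, e]) (.cons S.one (.cons rz (.cons ra (.cons re .nil)))) _ k.1.2)
    (ri j)).1 k.2
  exact (congrArg f (mul_inv_eq_iff_eq_mul.2 this)).symm.trans (hf x _)

theorem exists_c3 (X : H15.Mdl.Is4 F ω) :
    ∃ (w w' k s g₁ g₂ g₃ : Spor.J3 F ω) (P : Subgroup (Spor.J3 F ω)), C3 w w' k s g₁ g₂ g₃ P := by
  have S := snd X
  have m1 : AllIn (R ω) (grp (R ω) P_S) (L3.take 4) := (vP X).grp_self.of_wordsChk S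
    [[0, 0, 0], [1, 0, 0, 1, 0, 0, 1, 0, 0], [0], [1, 1, 0, 1]] _ (by decide +kernel)
  have m2 : AllIn (R ω) ⊤ ((L3.drop 4).take 3) := (vG X).of_wordsChk S
    [[0, 1, 1, 1, 0, 0, 0, 1, 1, 0, 1, 0, 1, 1, 1, 0, 0, 0], [1, 0, 0, 0, 1, 1, 0, 0, 1, 1, 1, 0, 0], [1, 0, 1, 1,
  0, 1, 0, 1, 0, 1, 0, 0, 1, 0, 1]] _ (by decide +kernel)
  obtain ⟨w, hw, rw'⟩ := m1 (nth L3 0) (by decide +kernel)
  obtain ⟨v, hv, rv⟩ := m1 (nth L3 1) (by decide +kernel)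
  obtain ⟨k, hk, rk⟩ := m1 (nth L3 2) (by decide +kernel)
  obtain ⟨s, hs, rs⟩ := m1 (nth L3 3) (by decide +kernel)
  obtain ⟨g1, -, rg1⟩ := m2 (nth L3 4) (by decide +kernel)
  obtain ⟨g2, -, rg2⟩ := m2 (nth L3 5) (by decide +kernel)
  obtain ⟨g3, -, rg3⟩ := m2 (nth L3 6) (by decide +kernel)
  have q := ev_eq S (l := [w, v, k, s, g1, g2, g3, w⁻¹, v⁻¹, k⁻¹, s⁻¹, g1⁻¹, g2⁻¹, g3⁻¹])
    (L := L3) (.cons rw' (.cons rv (.cons rk (.cons rs (.cons rg1 (.cons rg2 (.cons rg3 (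
    .cons (inv_rel S rw' 2 (by decide +kernel)) (
    .cons (inv_rel S rv 2 (by decide +kernel)) (
    .cons (inv_rel S rk 8 (by decide +kernel)) (
    .cons (inv_rel S rs 8 (by decide +kernel)) (
    .cons (inv_rel S rg1 3 (by decide +kernel)) (
    .cons (inv_rel S rg2 7 (by decide +kernel)) (
    .cons (inv_rel S rg3 7 (by decide +kernel)) (
    .nil)))))))))))))))
  refine ⟨w, v, k, s, g1, g2, g3, grp (R ω) P_S, by simpa [ev, mul_assoc, pow_succ] using q [0, 0, 0] [] (by decide +kernel),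
    by simpa [ev, mul_assoc] using q [0, 1] [1, 0] (by decide +kernel), S.ne_of rw' S.one (by decide +kernel),
    S.ne_of rv rw' (by decide +kernel),
    S.ne_of rv (inv_rel S rw' 2 (q := nth L3 7) (by decide +kernel)) (by decide +kernel),
    by simpa [ev, mul_assoc] using q [4, 0, 11] [1] (by decide +kernel),
    by simpa [ev, mul_assoc] using q [5, 0, 12] [0, 1] (by decide +kernel),
    by simpa [ev, mul_assoc] using q [6, 0, 13] [0, 8] (by decide +kernel),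
    IsPGroup.of_card (n := 5) ((enP X).card S), hk, hs, fun x hx => ?_,
    by simpa [ev, mul_assoc] using q [2, 3, 9, 10] [1] (by decide +kernel)⟩
  obtain ⟨p, r, c⟩ := (enP X).cov.forall (P := fun p => ops.comm p (nth L3 0) && ops.comm p (nth L3 1))
    (by decide +kernel) x hx
  rw [Bool.and_eq_true] at c
  exact ⟨(S.comm_iff r rw').1 c.1, (S.comm_iff r rv).1 c.2⟩

end H95.Ph
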