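import Cfsg.Agent.Lib.Prh.Defs
import Cfsg.Agent.Lib.MRec.Two

/-! Elements of the centraliser of the four-group lying over sign changes. -/

set_option autoImplicit false
set_option linter.unusedSectionVars false

namespace H95.Ph

open Cfsg Subgroup H15 H16 H7.ML
open scoped symmDiff Pointwise

namespace JB

theorem cong_of {d : Finset GolayPt} (hd : d ∈ code) (h0 : d ≠ ∅) (h1 : d ≠ Finset.univ) {v t : leechLattice}
    (ht : ∀ i, (8 : ℤ) ∣ (t : GolayPt → ℤ) i) (h : Cg (eps d hd • v + t + v) 0) :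
    ∃ e ∈ code, Cong v 0 e ∧ d ∩ e ∈ code := by
  obtain ⟨u, hu⟩ := exists_of_cg h
  simp only [AddSubgroup.coe_add, Pi.add_apply, eps_smul_apply, AddSubgroup.coe_zero, Pi.zero_apply] at hu
  have a1 : ∀ i ∈ d, (4 : ℤ) ∣ (u : GolayPt → ℤ) i := fun i hi => by
    have := hu i
    have := ht i
    simp only [if_pos hi] at *
    omega
  have a2 : ∀ i, i ∉ d → (4 : ℤ) ∣ (v : GolayPt → ℤ) i - (u : GolayPt → ℤ) i := fun i hi => by
    have := hu i
    have := ht i
    simp only [if_neg hi] at *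
    omega
  obtain ⟨i, hi⟩ := Finset.nonempty_iff_ne_empty.2 h0
  obtain ⟨j, hj⟩ : ∃ j, j ∉ d := by
    by_contra! n
    exact h1 (Finset.eq_univ_of_forall n)
  rcases (mem_leech_iff' _).1 u.2 with ⟨c, hc, e⟩ | ⟨c, hc, e⟩
  swap
  · have := e.1 i
    have := a1 i hi
    omega
  rcases (mem_leech_iff' _).1 v.2 with ⟨e', he, f⟩ | ⟨e', he, f⟩
  swap
  · have := e.1 j
    have := f.1 j
    have := a2 j hj
    omega
  refine ⟨e', he, f, ?_⟩
  convert symmDiff_mem_code hc he using 1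
  ext k
  have a := e.1 k
  have b := f.1 k
  rw [Finset.mem_inter, Finset.mem_symmDiff]
  rw [ind_apply] at a b
  by_cases n : k ∈ d
  · have := a1 k n
    split_ifs at a b <;> first | omega | tauto
  · have := a2 k n
    split_ifs at a b <;> first | omega | tauto

theorem cong_perm (σ : M24) {v : leechLattice} {e : Finset GolayPt} (h : Cong v 0 e) :
    Cong (permHom σ • v : leechLattice) 0 ((σ : Equiv.Perm GolayPt) • e) := by
  refine ⟨fun i => ?_, ?_⟩
  · have := h.1 ((σ : Equiv.Perm GolayPt)⁻¹ i)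
    rwa [permHom_smul_apply', ind_apply, if_congr Finset.inv_smul_mem_iff.symm rfl rfl]
  · simp only [permHom_smul_apply']
    rw [Equiv.sum_comp ((σ : Equiv.Perm GolayPt)⁻¹) (v : GolayPt → ℤ)]
    exact h.2

end JB

variable {G : Type*} [Group G] [Finite G] {z s : G} {Q Q' : Subgroup G}
  {φ : centralizer ({z} : Set G) →* Spor.Co1} {cls : leechLattice → G → Prop} (S : St z s Q Q' φ cls)
  {x y : G} {d e d' e' : Finset GolayPt}
include S

theorem exists_dec (hd : d ∈ code) (h : Ov φ x (eps d hd)) (h0 : d ≠ ∅) (h1 : d ≠ Finset.univ)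
    (xx : x * x = 1 ∨ x * x = z) : ∃ e, Dec Q' φ cls x d e ∧ d ∩ e ∈ code := by
  obtain ⟨⟨b, bz⟩, hb, e⟩ := S.lift_eps hd
  have o : Ov φ b (eps d hd) := ⟨bz, e⟩
  obtain ⟨v, hv⟩ := S.M.ex_cls _ (o.mul_mem S.M h)
  obtain ⟨t, ht, c⟩ : ∃ t : leechLattice, (∀ i, (8 : ℤ) ∣ (t : GolayPt → ℤ) i) ∧ cls t (b * b) := by
    rcases S.pair.h'.sq_mem hb with a | a <;> rw [a]
    · exact ⟨0, fun _ => dvd_zero _, S.M.cls_zero⟩
    · exact ⟨_, fun i => by rw [coe_e8, Pi.single_apply]; split_ifs <;> norm_num, S.hs⟩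
  have c1 := S.M.add (S.M.add (o.smul S.M hv) c) hv
  obtain ⟨e', he, f, k⟩ := JB.cong_of hd h0 h1 ht ((S.M.cg_zero_iff c1).2 (by
    rwa [show b * (b⁻¹ * x) * b⁻¹ * (b * b) * (b⁻¹ * x) = x * x by group])).symm
  exact ⟨e', ⟨hd, he, b, _, v, hb, o, hv, f, by group⟩, k⟩

theorem Dec.mul (h : Dec Q' φ cls x d e) (k : Dec Q' φ cls y d' e') :
    Dec Q' φ cls (x * y) (d ∆ d') (e ∆ e') := by
  obtain ⟨hd, he, b, q, v, hb, o, hv, c, rfl⟩ := h
  obtain ⟨hd', he', b', q', v', hb', o', hv', c', rfl⟩ := k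
  refine ⟨symmDiff_mem_code hd hd', symmDiff_mem_code he he', b * b', _, _, mul_mem hb hb',
    eps_mul_eps hd hd' ▸ o.mul o', S.M.add (o'.inv.smul S.M hv) hv', ?_, by group⟩
  rw [H74.Co1.eps_inv, AddSubgroup.coe_add, coe_eps_smul]
  exact (c.sgn_zero hd' he).add c'

theorem Dec.uniq (h : Dec Q' φ cls x d e) (k : Dec Q' φ cls x d' e') : e' = e ∨ e' = eᶜ := by
  obtain ⟨hd, he, b, q, v, hb, o, hv, c, e1⟩ := h
  obtain ⟨hd', he', b', q', v', hb', o', hv', c', e2⟩ := k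
  obtain ⟨τ, hτ⟩ := exists_tau S.pair
  have c1 := S.M.add hv' (cls_inv S.M hv)
  have m : q' * q⁻¹ ∈ Q' := by
    rw [show q' * q⁻¹ = b'⁻¹ * (b' * q') * q⁻¹ by group, ← e2, e1, show b'⁻¹ * (b * q) * q⁻¹ = b'⁻¹ * b by group]
    exact mul_mem (inv_mem hb') hb
  have := (H74.Co1.mk1_eps_eq_one (symmDiff_mem_code he' he)).1 ((S.tw hτ c1 _ (c'.add c)).trans
    ((S.M.ker _).2 (S.pair.conj_mem_E hτ.mem ⟨S.M.mem c1, m⟩).1))
  refine this.imp (fun a => symmDiff_eq_bot.1 a) fun a => ?_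
  rw [← symmDiff_symmDiff_cancel_right e e', a]
  ext i
  simp [Finset.mem_symmDiff]

theorem Dec.compl (h : Dec Q' φ cls x d e) : Dec Q' φ cls x d eᶜ := by
  obtain ⟨hd, he, b, q, v, hb, o, hv, c, rfl⟩ := h
  refine ⟨hd, compl_mem_code he, b, q, _, hb, o,
    S.M.congr hv (cg_add_self ⟨_, (cong_odd3 none).mem empty_mem_code⟩ v).symm, ?_, rfl⟩
  have := (c.add ((cong_odd3 none).add (cong_odd3 none))).shift_compl (n := 0) (by norm_num)
  rwa [symmDiff_self, symmDiff_bot] at this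

theorem Dec.ez (h : Dec Q' φ cls x d e) (k : Ez z x y) : Dec Q' φ cls y d e := by
  rcases k with rfl | k
  · exact h
  obtain ⟨hd, he, b, q, v, hb, o, hv, c, e1⟩ := h
  exact ⟨hd, he, b, _, v, hb, o, S.M.mul_z hv, c, by rw [← mul_assoc, ← e1, k, mul_assoc, S.M.h.sq, mul_one]⟩

theorem Dec.sq_ne (h : Dec Q' φ cls x d e) (k : e = ∅ ∨ e = Finset.univ ∨ e = d ∨ e = dᶜ) : x * x ≠ z := by
  obtain ⟨hd, he, b, q, v, hb, o, hv, c, rfl⟩ := h
  have fin : ∀ x ∈ Q', x * x ≠ z := fun x hx f => (S.pair.h'.sq_mem hx).elim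
    (fun a => S.M.h.ne_one (f.symm.trans a)) fun a => S.pair.ne (a.symm.trans f)
  rcases or_assoc.2 k with k | k
  · exact fin _ (mul_mem hb (H31.MT.mem_Q' S hv he c k))
  obtain ⟨u, hu⟩ := S.M.ex_elt ⟨_, (cong_odd3 none).mem empty_mem_code⟩
  have c2 := S.M.add (S.M.add hu (o.inv.smul S.M (cls_inv S.M hu))) hv
  have c3 := H31.MT.mem_Q' S c2 (symmDiff_mem_code (compl_mem_code hd) he) (by
    have := ((cong_odd3 none).add ((cong_odd3 none).sgn_one hd empty_mem_code)).shift_compl (n := 0) (by norm_num)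
    have := this.add c
    simp only [← Finset.bot_eq_empty, symmDiff_bot, bot_symmDiff, add_zero] at this
    rwa [H74.Co1.eps_inv, AddSubgroup.coe_add, AddSubgroup.coe_add, coe_eps_smul]) (by
      rcases k with rfl | rfl
      · exact Or.inr (by ext i; simp)
      · exact Or.inl (symmDiff_self _))
  have c4 := S.pair.conj_mem_E (mem_sup_left (Q.inv_mem (S.M.mem hu))) ⟨S.M.mem c2, c3⟩
  intro f
  refine fin _ (Q'.mul_mem hb c4.2) ?_
  calc _ = u⁻¹ * (b * q * (b * q)) * u := by group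
    _ = z := by rw [f, mul_assoc, ← S.M.h.central u (S.M.mem hu), inv_mul_cancel_left]

theorem Dec.conj (h : Dec Q' φ cls x d e) {k : G} (ks : k * s = s * k) {c : Finset GolayPt} (hc : c ∈ code)
    {σ : M24} (hk : Ov φ k (eps c hc * permHom σ)) :
    Dec Q' φ cls (k * x * k⁻¹) ((σ : Equiv.Perm GolayPt) • d) ((σ : Equiv.Perm GolayPt) • e) := by
  obtain ⟨hd, he, b, q, v, hb, o, hv, f, rfl⟩ := h
  refine ⟨smul_mem_code σ.2 hd, smul_mem_code σ.2 he, k * b * k⁻¹, _, _,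
    (mem_normalizer_iff.1 (S.pair.h'.norm k ks) b).1 hb, ?_, hk.smul S.M hv, ?_, by group⟩
  · have := hk.conj o
    rwa [show eps c hc * permHom σ * eps d hd * (eps c hc * permHom σ)⁻¹ =
      eps c hc * (permHom σ * eps d hd * (permHom σ)⁻¹) * (eps c hc)⁻¹ by group, H74.Co1.conj_eps,
      H74.Co1.eps_comm, mul_inv_cancel_right] at this
  · rw [mul_smul, coe_eps_smul]
    exact (JB.cong_perm σ f).sgn_zero hc (smul_mem_code σ.2 he)

theorem trio {O : Finset GolayPt} (hO : O ∈ octads) (h : Ov φ x (eps O hO.1)) (xx : x * x = z) :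
    ∃ e ∈ octads, Disjoint e O ∧ Dec Q' φ cls x O e := by
  have h8 : O.card = 8 := hO.2
  obtain ⟨e, k, m⟩ := exists_dec S hO.1 h (by rintro rfl; simp at h8) (H74.Co1.ne_univ_of_card (by omega)) (Or.inr xx)
  obtain ⟨e, k, m⟩ : ∃ e, Dec Q' φ cls x O e ∧ Disjoint e O := by
    by_cases n : (O ∩ e).card < 8
    · exact ⟨e, k, (Finset.disjoint_iff_inter_eq_empty.2 (eq_empty_of_card_lt m n)).symm⟩
    · exact ⟨_, k.compl S, disjoint_compl_left_iff.2 (Finset.inter_eq_left.1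
        (Finset.eq_of_subset_of_card_le Finset.inter_subset_left (by omega)))⟩
  have he : e ∈ code := k.2.1
  refine ⟨e, ⟨he, ?_⟩, m, k⟩
  have a1 := H16.card_symmDiff_add e O
  have a2 := card_of_mem_code (symmDiff_mem_code he hO.1)
  have a3 := card_of_mem_code he
  rw [Finset.disjoint_iff_inter_eq_empty.1 m, Finset.card_empty] at a1
  have a4 : e.card ≠ 0 := fun n => k.sq_ne S (Or.inl (Finset.card_eq_zero.1 n)) xx
  have a5 : e.card ≠ 16 := fun n => k.sq_ne S (Or.inr (Or.inr (Or.inr (Finset.eq_of_subset_of_card_le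
    (le_compl_iff_disjoint_right.2 m) (by rw [card_compl_octad hO, n]))))) xx
  change e.card = 8
  omega

theorem no_dod {D : Finset GolayPt} (hD : D ∈ dodecads) (h : Ov φ x (eps D hD.1)) : x * x ≠ z := by
  intro xx
  have h12 : D.card = 12 := hD.2
  obtain ⟨e, k, m⟩ := exists_dec S hD.1 h (by rintro rfl; simp at h12) (H74.Co1.ne_univ_of_card (by omega))
    (Or.inr xx)
  have fin : ∀ e, Dec Q' φ cls x D e → Disjoint e D → False := fun e k m =>
    k.sq_ne S ((H31.MT.dod_sub (compl_mem_dodecads hD) k.2.1 (le_compl_iff_disjoint_right.2 m)).imp_right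
      fun a => Or.inr (Or.inr a)) xx
  rcases H31.MT.dod_sub hD m Finset.inter_subset_left with a | a
  · exact fin e k (Finset.disjoint_iff_inter_eq_empty.2 a).symm
  · exact fin _ (k.compl S) (disjoint_compl_left_iff.2 (Finset.inter_eq_left.1 a))

end H95.Ph
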