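import Cfsg.Agent.Lib.Prh.Lee3
import Cfsg.Agent.Lib.Std.Co0

/-! Simultaneous diagonalisation of commuting involutions of trace 8. -/

set_option autoImplicit false

namespace H95.Ph

open Cfsg Subgroup H15 H16 H7.ML
open scoped symmDiff Pointwise

namespace JD

variable {a b c g δ : Co0} {A B : Finset GolayPt} {v : leechLattice} {i : GolayPt}

theorem sq (h : a * a = 1) (g : Co0) : g * a * g⁻¹ * (g * a * g⁻¹) = 1 := by
  rw [conj_mul, h, mul_one, mul_inv_cancel]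

theorem cm (h : a * b = b * a) (g : Co0) : g * a * g⁻¹ * (g * b * g⁻¹) = g * b * g⁻¹ * (g * a * g⁻¹) := by
  rw [conj_mul, conj_mul, h]

theorem t1 {n : ℤ} (h : tq a = n) (g : Co0) : tq (g * a * g⁻¹) = n := (tq_conj g a).trans h

theorem t2 {n : ℤ} (h : tq (a * b) = n) (g : Co0) : tq (g * a * g⁻¹ * (g * b * g⁻¹)) = n := by
  rw [conj_mul, tq_conj, h]

theorem te (hA : A ∈ octads) : tq (eps A hA.1) = 8 := by
  rw [tq_eps, hA.2]
  norm_num

theorem app (e : δ • v = e8 i) (g : Co0) : (δ * g * δ⁻¹) • e8 i = δ • g • v := by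
  rw [← e, mul_smul, mul_smul, inv_smul_smul]

theorem oct (h : g * g = 1) (t : tq g = 8) (n : g • v = -v) (e : δ • v = e8 i) :
    ∃ O, ∃ hO : O ∈ octads, δ * g * δ⁻¹ = eps O hO.1 := by
  obtain ⟨O, hO, -, k⟩ := kl (sq h δ) (t1 t δ) (i := i) (by rw [app e, n, smul_neg, e])
  exact ⟨O, hO, k⟩

theorem on_pres (hA : A ∈ code) (h : eps A hA * c = c * eps A hA) (k : On A v) : On A (c • v) := by
  rw [on_iff hA] at k ⊢
  rw [← mul_smul, h, mul_smul, k, smul_neg]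

theorem on_inter : On (A ∩ B) v ↔ On A v ∧ On B v :=
  ⟨fun h => ⟨fun i n => h i fun k => n (Finset.mem_inter.1 k).1, fun i n => h i fun k => n (Finset.mem_inter.1 k).2⟩,
    fun h i n => by
      by_cases k : i ∈ A
      · exact h.2 i fun k' => n (Finset.mem_inter.2 ⟨k, k'⟩)
      · exact h.1 i k⟩

theorem four (hA : A ∈ octads) (hB : B ∈ octads) (t : tq (eps A hA.1 * eps B hB.1) = 8) : (A ∩ B).card = 4 := by
  rw [eps_mul_eps, tq_eps] at t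
  have := H15.card_symmDiff_add A B
  rw [hA.2, hB.2] at this
  omega

theorem d1 (aa : a * a = 1) (ta : tq a = 8) : ∃ (g : Co0) (O : Finset GolayPt) (hO : O ∈ octads),
    g * a * g⁻¹ = eps O hO.1 := by
  rcases H74.Co1.classes_co0 (Or.inl aa) with ⟨g, d, hd, e⟩ | ⟨g, e | e⟩
  · have := t1 ta g
    rw [e, tq_eps] at this
    exact ⟨g, d, ⟨hd, by omega⟩, e⟩
  · have := sq aa g
    rw [e, H74.Co1.eB_sq] at this
    exact (negCo0_ne_one this).elim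
  · have := sq aa g
    rw [e, H74.Co1.neg_mul_sq, H74.Co1.eB_sq] at this
    exact (negCo0_ne_one this).elim

theorem mono (hA : A ∈ octads) (bb : b * b = 1) (ab : eps A hA.1 * b = b * eps A hA.1) :
    ∃ k : Co0, k * eps A hA.1 * k⁻¹ = eps A hA.1 ∧ k * b * k⁻¹ ∈ monoGroup := by
  have hb : b ∈ centralizer ({eps A hA.1} : Set Co0) := mem_centralizer_singleton_iff.2 ab.symm
  have hP : IsPGroup 2 (zpowers (⟨b, hb⟩ : centralizer ({eps A hA.1} : Set Co0))) := by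
    rintro ⟨_, n, rfl⟩
    refine ⟨1, Subtype.ext (Subtype.ext ?_)⟩
    show (b ^ n) ^ (2 ^ 1) = 1
    rw [pow_one, pow_two, ← Commute.mul_zpow rfl, bb, one_zpow]
  obtain ⟨k, hk⟩ := H74.Co1.exists_conj_mem_of_index Nat.prime_two hP
    (S := monoGroup.subgroupOf (centralizer ({eps A hA.1} : Set Co0))) fun h => H10.Std.C0.odd_index hA (by
      rw [← relIndex_mul_index (inf_le_right (a := monoGroup)), inf_relIndex_right]
      exact Dvd.dvd.mul_right h _)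
  exact ⟨k, mul_inv_eq_iff_eq_mul.2 (mem_centralizer_singleton_iff.1 k.2), hk _ (mem_zpowers _)⟩

theorem d2 (hA : A ∈ octads) (hb : b ∈ monoGroup) (bb : b * b = 1) (ab : eps A hA.1 * b = b * eps A hA.1)
    (tb : tq b = 8) (tab : tq (eps A hA.1 * b) = 8) :
    ∃ (δ : Co0) (A' B : Finset GolayPt) (hA' : A' ∈ octads) (hB : B ∈ octads),
      δ * eps A hA.1 * δ⁻¹ = eps A' hA'.1 ∧ δ * b * δ⁻¹ = eps B hB.1 := by
  have t := trT_one hA.1 b
  rw [← ab, tb, tab] at t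
  obtain ⟨v, hv, o, n⟩ := exists_neg hb bb (T := A) (by rw [hA.2]; norm_num) (fun v => on_pres hA.1 ab) (by omega)
  obtain ⟨δ, i, e⟩ := exists_frame hv
  obtain ⟨A', hA', e1⟩ := oct (eps_mul_self hA.1) (te hA) ((on_iff hA.1).1 o) e
  obtain ⟨B, hB, e2⟩ := oct bb tb n e
  exact ⟨δ, A', B, hA', hB, e1, e2⟩

theorem pres (hA : A ∈ octads) (hB : B ∈ octads) (ac : eps A hA.1 * c = c * eps A hA.1)
    (bc : eps B hB.1 * c = c * eps B hB.1) (v : leechLattice) (h : On (A ∩ B) v) : On (A ∩ B) (c • v) :=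
  on_inter.2 ⟨on_pres hA.1 ac (on_inter.1 h).1, on_pres hB.1 bc (on_inter.1 h).2⟩

theorem d3 (hA : A ∈ octads) (hB : B ∈ octads) (hc : c ∈ monoGroup) (cc : c * c = 1)
    (ac : eps A hA.1 * c = c * eps A hA.1) (bc : eps B hB.1 * c = c * eps B hB.1) (tc : tq c = 8)
    (tab : tq (eps A hA.1 * eps B hB.1) = 8) (tac : tq (eps A hA.1 * c) = 8) (tbc : tq (eps B hB.1 * c) = 8)
    (h1 : eps A hA.1 * eps B hB.1 * c ≠ 1) :
    ∃ (δ : Co0) (A' B' C : Finset GolayPt) (hA' : A' ∈ octads) (hB' : B' ∈ octads) (hC : C ∈ octads),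
      δ * eps A hA.1 * δ⁻¹ = eps A' hA'.1 ∧ δ * eps B hB.1 * δ⁻¹ = eps B' hB'.1 ∧ δ * c * δ⁻¹ = eps C hC.1 := by
  have t := trT_two hA.1 hB.1 c
  have k : c * (eps A hA.1 * eps B hB.1) = eps A hA.1 * eps B hB.1 * c := by
    rw [← mul_assoc, ← ac, mul_assoc, ← bc, mul_assoc]
  have s : eps A hA.1 * eps B hB.1 * c * (eps A hA.1 * eps B hB.1 * c) = 1 := by
    rw [mul_assoc _ c, ← mul_assoc c, k, mul_assoc _ c, cc, mul_one, eps_mul_eps, eps_mul_self]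
  have s1 := tq_of_sq s
  have s2 : tq (eps A hA.1 * eps B hB.1 * c) ≠ 24 := fun e => h1 (eq_one_of_tq e)
  rw [← ac, ← bc, k, tc, tac, tbc] at t
  obtain ⟨v, hv, o, n⟩ := exists_neg hc cc (T := A ∩ B) (by rw [four hA hB tab]; norm_num) (pres hA hB ac bc)
    (by omega)
  obtain ⟨δ, i, e⟩ := exists_frame hv
  obtain ⟨A', hA', e1⟩ := oct (eps_mul_self hA.1) (te hA) ((on_iff hA.1).1 (on_inter.1 o).1) e
  obtain ⟨B', hB', e2⟩ := oct (eps_mul_self hB.1) (te hB) ((on_iff hB.1).1 (on_inter.1 o).2) e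
  obtain ⟨C, hC, e3⟩ := oct cc tc n e
  exact ⟨δ, A', B', C, hA', hB', hC, e1, e2, e3⟩

theorem d3' (hA : A ∈ octads) (hB : B ∈ octads) (cc : c * c = 1)
    (ac : eps A hA.1 * c = c * eps A hA.1) (bc : eps B hB.1 * c = c * eps B hB.1)
    (tab : tq (eps A hA.1 * eps B hB.1) = 8) :
    ∃ (δ : Co0) (A' B' : Finset GolayPt) (hA' : A' ∈ octads) (hB' : B' ∈ octads),
      δ * eps A hA.1 * δ⁻¹ = eps A' hA'.1 ∧ δ * eps B hB.1 * δ⁻¹ = eps B' hB'.1 ∧ δ * c * δ⁻¹ ∈ monoGroup := by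
  obtain ⟨v, hv, o, n⟩ := tet_two cc (four hA hB tab) (pres hA hB ac bc)
  obtain ⟨δ, i, e⟩ := exists_frame hv
  obtain ⟨A', hA', e1⟩ := oct (eps_mul_self hA.1) (te hA) ((on_iff hA.1).1 (on_inter.1 o).1) e
  obtain ⟨B', hB', e2⟩ := oct (eps_mul_self hB.1) (te hB) ((on_iff hB.1).1 (on_inter.1 o).2) e
  refine ⟨δ, A', B', hA', hB', e1, e2, mono_of_cg (i := i) ?_⟩
  rw [app e, ← e]
  exact n.smul δ

end JD

theorem diag2 {a b : Co0} (aa : a * a = 1) (bb : b * b = 1) (ab : a * b = b * a) (ta : tq a = 8)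
    (tb : tq b = 8) (tab : tq (a * b) = 8) :
    ∃ (δ : Co0) (A B : Finset GolayPt) (hA : A ∈ octads) (hB : B ∈ octads),
      δ * a * δ⁻¹ = eps A hA.1 ∧ δ * b * δ⁻¹ = eps B hB.1 := by
  obtain ⟨g, O, hO, e⟩ := JD.d1 aa ta
  obtain ⟨k, k1, k2⟩ := JD.mono hO (JD.sq bb g) (e ▸ JD.cm ab g)
  have e' := H74.Co1.conj_trans e k1
  have k3 : k * g * b * (k * g)⁻¹ ∈ monoGroup := by
    rw [H74.Co1.conj_trans rfl rfl]
    exact k2
  obtain ⟨δ, A, B, hA, hB, e1, e2⟩ := JD.d2 hO k3 (JD.sq bb _) (e' ▸ JD.cm ab _) (JD.t1 tb _) (e' ▸ JD.t2 tab _)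
  exact ⟨δ * (k * g), A, B, hA, hB, H74.Co1.conj_trans e' e1, H74.Co1.conj_trans rfl e2⟩

theorem diag3 {a b c : Co0} (aa : a * a = 1) (bb : b * b = 1) (cc : c * c = 1) (ab : a * b = b * a)
    (ac : a * c = c * a) (bc : b * c = c * b) (ta : tq a = 8) (tb : tq b = 8) (tc : tq c = 8)
    (tab : tq (a * b) = 8) (tac : tq (a * c) = 8) (tbc : tq (b * c) = 8) (h1 : a * b * c ≠ 1) :
    ∃ (δ : Co0) (A B C : Finset GolayPt) (hA : A ∈ octads) (hB : B ∈ octads) (hC : C ∈ octads),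
      δ * a * δ⁻¹ = eps A hA.1 ∧ δ * b * δ⁻¹ = eps B hB.1 ∧ δ * c * δ⁻¹ = eps C hC.1 := by
  obtain ⟨g, A, B, hA, hB, e1, e2⟩ := diag2 aa bb ab ta tb tab
  obtain ⟨k, A', B', hA', hB', k1, k2, k3⟩ := JD.d3' hA hB (JD.sq cc g) (e1 ▸ JD.cm ac g) (e2 ▸ JD.cm bc g)
    (e1 ▸ e2 ▸ JD.t2 tab g)
  have f1 := H74.Co1.conj_trans e1 k1
  have f2 := H74.Co1.conj_trans e2 k2
  have f3 : k * g * c * (k * g)⁻¹ ∈ monoGroup := by
    rw [H74.Co1.conj_trans rfl rfl]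
    exact k3
  obtain ⟨δ, A'', B'', C, hA'', hB'', hC, l1, l2, l3⟩ := JD.d3 hA' hB' f3 (JD.sq cc _) (f1 ▸ JD.cm ac _)
    (f2 ▸ JD.cm bc _) (JD.t1 tc _) (f1 ▸ f2 ▸ JD.t2 tab _) (f1 ▸ JD.t2 tac _) (f2 ▸ JD.t2 tbc _) (by
      rw [← f1, ← f2, conj_mul, conj_mul]
      exact fun e => h1 (conj_eq_one_iff.1 e))
  exact ⟨δ * (k * g), A'', B'', C, hA'', hB'', hC, H74.Co1.conj_trans f1 l1, H74.Co1.conj_trans f2 l2,
    H74.Co1.conj_trans rfl l3⟩

theorem diag4 {A B : Finset GolayPt} (hA : A ∈ octads) (hB : B ∈ octads) (h4 : (A ∩ B).card = 4) {d : Co0}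
    (dd : d * d = 1) (td : tq d = 8) (ta : tq (d * eps A hA.1) = 8) (tb : tq (d * eps B hB.1) = 8)
    (t : tq (d * (eps A hA.1 * eps B hB.1)) = -8) :
    ∃ D, ∃ hD : D ∈ octads, A ∩ B ⊆ D ∧ d = eps D hD.1 := by
  have k := trT_two hA.1 hB.1 d
  rw [td, ta, tb, t] at k
  have k' : trT (A ∩ B) d = -8 * (A ∩ B).card := by omega
  obtain ⟨i, hi⟩ := Finset.card_pos.1 (show 0 < (A ∩ B).card by omega)
  obtain ⟨D, hD, -, e⟩ := kl dd td (neg_of_trT k' hi)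
  refine ⟨D, hD, fun j hj => by_contra fun n => ?_, e⟩
  have := neg_of_trT k' hj
  rw [e, eps_smul_e8, if_neg n] at this
  exact e8_ne_neg j j this

end H95.Ph
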