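import Cfsg.Agent.Lib.Prh.JB

/-! The combinatorial end of the octad case. -/

set_option autoImplicit false
set_option linter.unusedSectionVars false

namespace H95.Ph

open Cfsg Subgroup H15 H16 H7.ML
open scoped symmDiff Pointwise

theorem JE.sq2 {G : Type*} [Group G] {z a b : G} (zz : z * z = 1) (aa : a * a = z) (bb : b * b = z)
    (ab : a * b = b * a * z) : a * b * (a * b) = z := by
  have : z * a = a * z := by rw [← aa, mul_assoc]
  calc a * b * (a * b) = b * a * (z * a) * b := by nth_rewrite 1 [ab]; group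
    _ = b * (a * a * z) * b := by rw [this]; group
    _ = z := by rw [aa, zz, mul_one, bb]

theorem JE.le (s : Finset GolayPt) : s.card ≤ 24 := Finset.card_le_univ s

theorem JE.ex {A B C : Finset GolayPt} (h : (A ∩ B ∩ C).card < (B ∩ C).card) : ∃ x ∈ B, x ∈ C ∧ x ∉ A := by
  obtain ⟨x, h1, h2⟩ := Finset.exists_mem_notMem_of_card_lt_card h
  simp only [Finset.mem_inter] at h1 h2
  exact ⟨x, h1.1, h1.2, fun k => h2 ⟨⟨k, h1.1⟩, h1.2⟩⟩

variable {G : Type*} [Group G] [Finite G] {z s : G} {Q Q' : Subgroup G}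
  {φ : centralizer ({z} : Set G) →* Spor.Co1} {cls : leechLattice → G → Prop} (S : St z s Q Q' φ cls)
  {a b c d : G} {A B C D : Finset GolayPt}
include S

theorem JE.ov {e : Finset GolayPt} (h : Dec Q' φ cls a A e) (hA : A ∈ code) : Ov φ a (eps A hA) := by
  obtain ⟨_, -, b, q, v, -, k, hq, -, rfl⟩ := h
  simpa using k.mul (ov_of_mem S.M (S.M.mem hq))

theorem JE.eq {e : Finset GolayPt} (h : Dec Q' φ cls a A e) (hA : A ∈ octads) (hB : B ∈ octads)
    (k : Ov φ a (eps B hB.1)) : A = B := by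
  rcases (JE.ov S h hA.1).eq k with e | e
  · exact H74.Co1.eps_inj e
  · rw [H74.Co1.neg_mul_eps] at e
    have := congrArg Finset.card (H74.Co1.eps_inj e)
    rw [Finset.card_compl, hA.2, hB.2] at this
    exact absurd this (by decide)

theorem tri_inter (hA : A ∈ octads) (hB : B ∈ octads) (h4 : (A ∩ B).card = 4) {e f : Finset GolayPt}
    (ha : Dec Q' φ cls a A e) (hb : Dec Q' φ cls b B f) (he : e ∈ octads) (hf : f ∈ octads)
    (eA : Disjoint e A) (fB : Disjoint f B) (ab : a * b * (a * b) = z) :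
    (Disjoint e B ∧ Disjoint f A ∧ (e ∩ f).card = 4) ∨ (B \ A ⊆ e ∧ A \ B ⊆ f ∧ Disjoint e f) := by
  have hO := symmDiff_mem_octads hA hB h4
  have m := ha.mul S hb
  obtain ⟨g, hg, dj, k⟩ := trio S hO (JE.ov S m hO.1) ab
  have cs := H15.card_symmDiff_add e f
  rw [he.2, hf.2] at cs
  rw [Finset.disjoint_left] at eA fB dj
  rcases m.uniq S k with rfl | rfl
  · refine Or.inl ⟨Finset.disjoint_left.2 fun x h1 h2 => ?_, Finset.disjoint_left.2 fun x h1 h2 => ?_, ?_⟩
    · exact dj (Finset.mem_symmDiff.2 (Or.inl ⟨h1, fun k => fB k h2⟩)) (Finset.mem_symmDiff.2 (Or.inr ⟨h2, eA h1⟩))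
    · exact dj (Finset.mem_symmDiff.2 (Or.inr ⟨h1, fun k => eA k h2⟩)) (Finset.mem_symmDiff.2 (Or.inl ⟨h2, fB h1⟩))
    · have := hg.2
      omega
  · have key : ∀ x ∈ A ∆ B, x ∈ e ∆ f := fun x hx => by_contra fun n => dj (Finset.mem_compl.2 n) hx
    refine Or.inr ⟨fun x hx => ?_, fun x hx => ?_, ?_⟩
    · rw [Finset.mem_sdiff] at hx
      rcases Finset.mem_symmDiff.1 (key x (Finset.mem_symmDiff.2 (Or.inr hx))) with k | k
      exacts [k.1, (fB k.1 hx.1).elim]
    · rw [Finset.mem_sdiff] at hx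
      rcases Finset.mem_symmDiff.1 (key x (Finset.mem_symmDiff.2 (Or.inl hx))) with k | k
      exacts [(eA k.1 hx.1).elim, k.1]
    · have := hg.2
      rw [Finset.card_compl, show Fintype.card GolayPt = 24 from rfl] at this
      rw [Finset.disjoint_iff_inter_eq_empty, ← Finset.card_eq_zero]
      omega

theorem end_lt (hA : A ∈ octads) (hB : B ∈ octads) (hC : C ∈ octads) (ha : Ov φ a (eps A hA.1))
    (hb : Ov φ b (eps B hB.1)) (hc : Ov φ c (eps C hC.1)) (R : RR z a b c d) (ab : (A ∩ B).card = 4)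
    (ac : (A ∩ C).card = 4) (bc : (B ∩ C).card = 4) (m0 : (A ∩ B ∩ C).card ≠ 0) :
    (A ∩ B ∩ C).card = 4 := by
  refine le_antisymm (ab ▸ Finset.card_le_card Finset.inter_subset_left) (not_lt.1 fun m => ?_)
  obtain ⟨e, he, eA, De⟩ := trio S hA ha R.aa
  obtain ⟨f, hf, fB, Df⟩ := trio S hB hb R.bb
  obtain ⟨g, hg, gC, Dg⟩ := trio S hC hc R.cc
  have t1 := tri_inter S hA hB ab De Df he hf eA fB (JE.sq2 R.zz R.aa R.bb R.ab)
  have t2 := tri_inter S hA hC ac De Dg he hg eA gC (JE.sq2 R.zz R.aa R.cc R.ac)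
  have t3 := tri_inter S hB hC bc Df Dg hf hg fB gC (JE.sq2 R.zz R.bb R.cc R.bc)
  obtain ⟨x, xB, xC, xA⟩ := JE.ex (A := A) (B := B) (C := C) (by omega)
  obtain ⟨y, yA, yC, yB⟩ := JE.ex (A := B) (B := A) (C := C) (by rw [Finset.inter_comm B]; omega)
  obtain ⟨w, wC, wn⟩ : ∃ w ∈ C, w ∉ A ∩ C ∪ B ∩ C := Finset.exists_mem_notMem_of_card_lt_card (by
    have := Finset.card_union_add_card_inter (A ∩ C) (B ∩ C)
    rw [Finset.inter_inter_inter_comm, Finset.inter_self] at this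
    have := hC.2
    omega)
  have wA : w ∉ A := fun k => wn (Finset.mem_union_left _ (Finset.mem_inter.2 ⟨k, wC⟩))
  have wB : w ∉ B := fun k => wn (Finset.mem_union_right _ (Finset.mem_inter.2 ⟨k, wC⟩))
  rcases t1 with ⟨eB, fA, ef⟩ | ⟨Be, Af, ef⟩
  · have eC : Disjoint e C := (t2.resolve_right fun k =>
      Finset.disjoint_left.1 eB (k.1 (Finset.mem_sdiff.2 ⟨xC, xA⟩)) xB).1
    have fC : Disjoint f C := (t3.resolve_right fun k =>
      Finset.disjoint_left.1 fA (k.1 (Finset.mem_sdiff.2 ⟨yC, yB⟩)) yA).1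
    have c1 := Finset.card_union_add_card_inter e f
    have c2 := Finset.card_union_add_card_inter A B
    have c3 := Finset.card_union_of_disjoint (s := e ∪ f) (t := A ∪ B) (by
      simp only [Finset.disjoint_union_left, Finset.disjoint_union_right]
      exact ⟨⟨eA, fA⟩, eB, fB⟩)
    have c4 := Finset.card_insert_of_notMem (a := w) (s := e ∪ f ∪ (A ∪ B)) (by
      simp only [Finset.mem_union, not_or]
      exact ⟨⟨Finset.disjoint_right.1 eC wC, Finset.disjoint_right.1 fC wC⟩, wA, wB⟩)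
    have c5 := JE.le (insert w (e ∪ f ∪ (A ∪ B)))
    have := he.2
    have := hf.2
    have := hA.2
    have := hB.2
    omega
  · have Ce : C \ A ⊆ e := (t2.resolve_left fun k =>
      Finset.disjoint_left.1 k.1 (Be (Finset.mem_sdiff.2 ⟨xB, xA⟩)) xC).1
    have Cf : C \ B ⊆ f := (t3.resolve_left fun k =>
      Finset.disjoint_left.1 k.1 (Af (Finset.mem_sdiff.2 ⟨yA, yB⟩)) yC).1
    exact Finset.disjoint_left.1 ef (Ce (Finset.mem_sdiff.2 ⟨wC, wA⟩)) (Cf (Finset.mem_sdiff.2 ⟨wC, wB⟩))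

theorem end_four (hA : A ∈ octads) (hB : B ∈ octads) (hC : C ∈ octads) (hD : D ∈ octads)
    (ha : Ov φ a (eps A hA.1)) (hb : Ov φ b (eps B hB.1)) (hc : Ov φ c (eps C hC.1))
    (hd : Ov φ d (eps D hD.1)) (R : RR z a b c d) {T : Finset GolayPt} (hT : T.card = 4)
    (ab : A ∩ B = T) (ac : A ∩ C = T) (ad : A ∩ D = T) (bc : B ∩ C = T) (bd : B ∩ D = T) (cd : C ∩ D = T)
    {p : G} {π : Co0} (hp : Ov φ p π) (ps : p * s = s * p) (pa : Ez z (p * a * p⁻¹) b)
    (pb : Ez z (p * b * p⁻¹) c) (pd : Ez z (p * d * p⁻¹) d) : False := by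
  obtain ⟨σ, hσ, k, hk, e0⟩ := S.exists_mono ⟨p, hp.1⟩ ps
  have hp' : Ov φ p (eps k hk * permHom ⟨σ, hσ⟩) := ⟨hp.1, mono_eq_eps_mul hσ hk ▸ e0⟩
  obtain ⟨e, he, eA, De⟩ := trio S hA ha R.aa
  obtain ⟨f, -, -, Df⟩ := trio S hB hb R.bb
  obtain ⟨h, hh, hD', Dh⟩ := trio S hD hd R.dd
  have s1 : σ • A = B := JE.eq S ((De.conj S ps hk hp').ez S pa) (H15.smul_mem_octads hσ hA) hB hb
  have s2 : σ • B = C := JE.eq S ((Df.conj S ps hk hp').ez S pb) (H15.smul_mem_octads hσ hB) hC hc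
  have D' := (Dh.conj S ps hk hp').ez S pd
  have s3 : σ • D = D := JE.eq S D' (H15.smul_mem_octads hσ hD) hD hd
  have s4 : σ • h = h := (Dh.uniq S D').resolve_right fun e => by
    have := congrArg Finset.card e
    rw [Finset.card_compl, H15.card_smul, hh.2] at this
    exact absurd this (by decide)
  have dj : ∀ {X Y : Finset GolayPt}, X ∩ Y = T → X ∩ D = T → Disjoint (X \ D) (Y \ D) := fun h1 h2 =>
    Finset.disjoint_left.2 fun x k1 k2 => (Finset.mem_sdiff.1 k1).2 (Finset.mem_inter.1 ((h1.trans h2.symm).le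
      (Finset.mem_inter.2 ⟨(Finset.mem_sdiff.1 k1).1, (Finset.mem_sdiff.1 k2).1⟩))).2
  have c4 : ∀ {X : Finset GolayPt}, X ∈ octads → X ∩ D = T → (X \ D).card = 4 := fun {X} h1 h2 => by
    have := Finset.card_sdiff_add_card_inter X D
    rw [h2, h1.2] at this
    omega
  have cU : (A \ D ∪ B \ D ∪ C \ D).card = 12 := by
    rw [Finset.card_union_of_disjoint (Finset.disjoint_union_left.2 ⟨dj ac ad, dj bc bd⟩),
      Finset.card_union_of_disjoint (dj ab ad), c4 hA ad, c4 hB bd, c4 hC cd]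
  have h8 := hh.2
  rcases tri_inter S hA hD (ad ▸ hT) De Dh he hh eA hD' (JE.sq2 R.zz R.aa R.dd R.ad) with ⟨-, k1, -⟩ | ⟨-, k1, -⟩
  · have st : ∀ X : Finset GolayPt, Disjoint h X → Disjoint h (σ • X) := fun X k => by
      rw [Finset.disjoint_iff_inter_eq_empty] at k ⊢
      rw [← s4, ← H15.smul_inter, k, Finset.smul_finset_empty]
    have k2 : Disjoint h B := s1 ▸ st A k1
    have k3 : Disjoint h C := s2 ▸ st B k2
    have c1 := Finset.card_union_of_disjoint (s := A \ D ∪ B \ D ∪ C \ D) (t := D) (by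
      simp only [Finset.disjoint_union_left]
      exact ⟨⟨Finset.sdiff_disjoint, Finset.sdiff_disjoint⟩, Finset.sdiff_disjoint⟩)
    have c2 := Finset.card_union_of_disjoint (s := h) (t := A \ D ∪ B \ D ∪ C \ D ∪ D) (by
      simp only [Finset.disjoint_union_right]
      exact ⟨⟨⟨k1.mono_right Finset.sdiff_subset, k2.mono_right Finset.sdiff_subset⟩,
        k3.mono_right Finset.sdiff_subset⟩, hD'⟩)
    have c3 := JE.le (h ∪ (A \ D ∪ B \ D ∪ C \ D ∪ D))
    have := hD.2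
    omega
  · have st : ∀ X : Finset GolayPt, X \ D ⊆ h → (σ • X) \ D ⊆ h := fun X k => by
      rw [← s4, ← s3, ← H15.smul_sdiff, H15.smul_subset_smul_iff]
      exact k
    have k2 : B \ D ⊆ h := s1 ▸ st A k1
    have k3 : C \ D ⊆ h := s2 ▸ st B k2
    have := Finset.card_le_card (Finset.union_subset (Finset.union_subset k1 k2) k3)
    omega

end H95.Ph
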