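import Cfsg.Agent.Lib.Prh.JD
import Cfsg.Agent.Lib.Prh.JE
import Cfsg.Agent.Lib.Co1.Inv

/-! The octad and dodecad cases. -/

set_option autoImplicit false

namespace H95.Ph

open Cfsg Subgroup H15 H16 H7.ML
open scoped symmDiff Pointwise

variable {G : Type*} [Group G] {z s : G} {Q Q' : Subgroup G}
  {φ : centralizer ({z} : Set G) →* Spor.Co1} {cls : leechLattice → G → Prop}

/-- the lift which is an involution of trace 8 -/
structure Nl (φ : centralizer ({z} : Set G) →* Spor.Co1) (x : G) (g : Co0) : Prop where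
  o : Ov φ x g
  sq : g * g = 1
  t : tq g = 8

theorem Nl.uniq {x : G} {g g' : Co0} (h : Nl φ x g) (o : Ov φ x g') (t : tq g' = 8) : g = g' :=
  (h.o.eq o).resolve_right fun e => by
    have := h.t
    rw [e, tq_neg, t] at this
    omega

theorem Nl.conj (M : Mon z Q φ cls) {k x y : G} {g κ : Co0} (h : Nl φ x g) (o : Ov φ k κ)
    (e : Ez z (k * x * k⁻¹) y) : Nl φ y (κ * g * κ⁻¹) :=
  ⟨(o.conj h.o).of_ez M e, by rw [conj_mul, h.sq, mul_one, mul_inv_cancel], (tq_conj _ _).trans h.t⟩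

theorem Nl.twist {x : G} {g : Co0} (h : Nl φ x g) (δ : Co0) : Nl (twφ φ δ) x (δ * g * δ⁻¹) :=
  ⟨h.o.twist δ, by rw [conj_mul, h.sq, mul_one, mul_inv_cancel], (tq_conj _ _).trans h.t⟩

theorem comm_of_nl {x y : G} {g h k : Co0} (hx : Nl φ x g) (hy : Nl φ y h) (e : Nl φ (x * y) k) :
    g * h = h * g ∧ (k = g * h ∧ tq (g * h) = 8 ∨ k = negCo0 * (g * h) ∧ tq (g * h) = -8) := by
  have i : ∀ {x : Co0}, x * x = 1 → x⁻¹ = x := fun e => inv_eq_of_mul_eq_one_right e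
  have c : g * h * (g * h) = 1 → g * h = h * g := fun e => by rw [← i e, mul_inv_rev, i hx.sq, i hy.sq]
  have t := e.t
  rcases e.o.eq (hx.o.mul hy.o) with q | q
  · exact ⟨c (q ▸ e.sq), Or.inl ⟨q, q ▸ t⟩⟩
  · refine ⟨c (by rw [← H74.Co1.neg_mul_sq, ← q, e.sq]), Or.inr ⟨q, ?_⟩⟩
    rw [q, tq_neg] at t
    omega

/-- the relations between the normalised lifts -/
structure Rel (α β γ δ υ π : Co0) : Prop where
  u5 : υ ^ 5 = 1
  w5 : (υ * π) ^ 5 = 1
  ab : α * β = β * α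
  ac : α * γ = γ * α
  bc : β * γ = γ * β
  tab : tq (α * β) = 8
  tac : tq (α * γ) = 8
  tbc : tq (β * γ) = 8
  tad : tq (δ * α) = 8
  tbd : tq (δ * β) = 8
  tcd : tq (δ * γ) = 8
  ne : α * β * γ ≠ 1
  t3 : tq (δ * (α * β)) = tq (α * β * γ)
  ua : υ * α * υ⁻¹ = α * β
  ub : υ * β * υ⁻¹ = α * γ
  uc : υ * γ * υ⁻¹ = α * δ
  ud : υ * δ * υ⁻¹ = α
  pa : π * α * π⁻¹ = β
  pb : π * β * π⁻¹ = γ
  pc : π * γ * π⁻¹ = α
  pd : π * δ * π⁻¹ = δ

theorem rels (M : Mon z Q φ cls) {a b c d u p : G} (A : AA z a b c d u p) {α : Co0} (ha : Nl φ a α) :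
    ∃ β γ δ υ π, Nl φ b β ∧ Nl φ c γ ∧ Nl φ d δ ∧ Ov φ u υ ∧ Ov φ p π ∧ Rel α β γ δ υ π := by
  obtain ⟨υ, ou, u5⟩ := exists_ov_odd φ A.uz (by decide) A.u5
  obtain ⟨ω, ow, w5⟩ := exists_ov_odd φ (y := u * p) (by rw [mul_assoc, A.pz, ← mul_assoc, A.uz, mul_assoc])
    (by decide) A.up5
  obtain ⟨π, rfl⟩ : ∃ π, ω = υ * π := ⟨υ⁻¹ * ω, by group⟩
  have op : Ov φ p π := by simpa using ou.inv.mul ow
  obtain ⟨β, pa⟩ : ∃ β, π * α * π⁻¹ = β := ⟨_, rfl⟩
  obtain ⟨γ, pb⟩ : ∃ γ, π * β * π⁻¹ = γ := ⟨_, rfl⟩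
  obtain ⟨δ, ud⟩ : ∃ δ, υ * δ * υ⁻¹ = α := ⟨υ⁻¹ * α * υ, by group⟩
  have hb : Nl φ b β := pa ▸ ha.conj M op A.pa
  have hc : Nl φ c γ := pb ▸ hb.conj M op A.pb
  have hd : Nl φ d δ := by
    have := (Nl.mk (ha.o.ez M A.ud) ha.sq ha.t).conj M ou.inv (y := d) (Or.inl (by group))
    rwa [← ud, show υ⁻¹ * (υ * δ * υ⁻¹) * υ⁻¹⁻¹ = δ by group] at this
  have pc := (hc.conj M op A.pc).uniq ha.o ha.t
  have pd := (hd.conj M op A.pd).uniq hd.o hd.t
  obtain ⟨ab, e1⟩ := comm_of_nl ha hb (ha.conj M ou A.ua)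
  obtain ⟨ac, e2⟩ := comm_of_nl ha hc (hb.conj M ou A.ub)
  obtain ⟨ad, e3⟩ := comm_of_nl ha hd (hc.conj M ou A.uc)
  have bc : β * γ = γ * β := by rw [← pb, ← pa, conj_mul, pa, ab, ← conj_mul, pa]
  have bd : β * δ = δ * β := by rw [← pa, ← pd, conj_mul, ad, conj_mul]
  have cd : γ * δ = δ * γ := by rw [← pb, ← pd, conj_mul, bd, conj_mul]
  have t1 : tq (β * γ) = tq (α * β) := by rw [← tq_conj π (α * β), ← conj_mul, pa, pb]
  have t2 : tq (α * γ) = tq (α * β) := by rw [← t1, ← tq_conj π (β * γ), ← conj_mul, pb, pc, ac]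
  have t3 : tq (δ * β) = tq (δ * α) := by rw [← tq_conj π (δ * α), ← conj_mul, pa, pd]
  have t4 : tq (δ * γ) = tq (δ * α) := by rw [← t3, ← tq_conj π (δ * β), ← conj_mul, pb, pd]
  have t5 : tq (δ * α) = tq (α * (υ * α * υ⁻¹)) := by rw [← tq_conj υ (δ * α), ← conj_mul, ud]
  have aa : ∀ x, α * (α * x) = x := fun x => by rw [← mul_assoc, ha.sq, one_mul]
  have nc : ∀ x y, x * (negCo0 * y) = negCo0 * (x * y) := fun x y => by
    rw [← mul_assoc, ← neg_mul_comm, mul_assoc]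
  rcases e1 with ⟨ua, t⟩ | ⟨ua, t⟩
  · rw [ua, aa, hb.t] at t5
    have ub := (e2.resolve_right fun e => by omega).1
    have uc := (e3.resolve_right fun e => by rw [ad] at e; omega).1
    have k1 : υ * (α * β * γ) * υ⁻¹ = α * β * γ * δ := by
      rw [← conj_mul, ← conj_mul, ua, ub, uc, ab, mul_assoc β, aa, ← mul_assoc, mul_assoc β, ← ac, ← mul_assoc]
    have k2 : υ * (α * β * γ * δ) * υ⁻¹ = δ * (β * γ) := by
      rw [← conj_mul, k1, ud, mul_assoc, ← ad, ← mul_assoc, mul_assoc (α * β), ← ac, ← mul_assoc, mul_assoc α,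
        ← ab, aa, mul_assoc, cd, ← mul_assoc, bd, mul_assoc]
    refine ⟨β, γ, δ, υ, π, hb, hc, hd, ou, op, u5, w5, ab, ac, bc, t, by omega, by omega, t5, by omega, by omega,
      fun e => ?_, ?_, ua, ub, uc, ud, pa, pb, pc, pd⟩
    · have := hd.t
      rw [e, mul_one, mul_inv_cancel, one_mul] at k1
      rw [← k1, tq_one] at this
      omega
    · rw [← tq_conj υ (α * β * γ), k1, ← tq_conj υ (α * β * γ * δ), k2, ← tq_conj π, ← conj_mul, ← conj_mul, pa,
        pb, pd]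
  · exfalso
    rw [ua, nc, aa, tq_neg, hb.t] at t5
    have key : ∀ x : Co0, x * x = 1 → tq x = 8 → α * x = x * α → β * x = x * β → tq (α * x) = -8 →
        tq (β * x) = -8 → α * β * x = negCo0 := fun x xx tx ax bx t6 t7 => by
      have n : ∀ x y, negCo0 * x * (negCo0 * y) = x * y := fun x y => by
        rw [nc, ← mul_assoc, ← mul_assoc, negCo0_mul_self, one_mul]
      have := avg8 (a := negCo0 * α) (b := negCo0 * β) (c := negCo0 * x) (by rw [n, ha.sq]) (by rw [n, hb.sq])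
        (by rw [n, xx]) (by rw [n, n, ab]) (by rw [n, n, ax]) (by rw [n, n, bx])
      rw [n, n, n, nc, tq_neg, tq_neg, tq_neg, tq_neg, ha.t, hb.t, tx, t, t6, t7] at this
      have := tq_le (α * β * x)
      exact eq_neg_of_tq (by omega)
    have := mul_left_cancel ((key γ hc.sq hc.t ac bc (by omega) (by omega)).trans
      (key δ hd.sq hd.t ad bd (by rw [ad, t5]) (by rw [bd, t3, t5])).symm)
    rw [← this, hc.sq, tq_one, this] at t4
    omega

theorem card_of_tq {A B : Finset GolayPt} (hA : A ∈ octads) (hB : B ∈ octads)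
    (t : tq (eps A hA.1 * eps B hB.1) = 8) : (A ∩ B).card = 4 := by
  have := H16.card_symmDiff_add A B
  have a : A.card = 8 := hA.2
  have b : B.card = 8 := hB.2
  rw [eps_mul_eps, tq_eps] at t
  omega

theorem comm_of_mono (S : St z s Q Q' φ cls) {k : G} {κ : Co0} (o : Ov φ k κ) (m : κ ∈ monoGroup)
    (k5 : k ^ 5 = 1) : k * s = s * k := by
  rcases (S.M.eq_iff S.hs (o.smul S.M S.hs)).1 (mem_monoGroup_iff_cg.1 m).symm with e | e
  · exact mul_inv_eq_iff_eq_mul.1 e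
  · have e1 : k * s = s * z * k := mul_inv_eq_iff_eq_mul.1 e
    have e2 : Commute (k * k) s := by
      change _ = _
      rw [mul_assoc, e1, ← mul_assoc, ← mul_assoc, e1, mul_assoc (s * z), o.comm, ← mul_assoc, mul_assoc s,
        S.M.h.sq, mul_one, mul_assoc]
    have := e2.pow_left 3
    rwa [← pow_two, ← pow_mul, show 2 * 3 = 5 + 1 from rfl, pow_succ, k5, one_mul] at this

variable [Finite G]

theorem no_oct (S : St z s Q Q' φ cls) {a b c d u p : G} (R : RR z a b c d) (X : AA z a b c d u p)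
    {A B C : Finset GolayPt} (hA : A ∈ octads) (hB : B ∈ octads) (hC : C ∈ octads) (ha : Nl φ a (eps A hA.1))
    (hb : Nl φ b (eps B hB.1)) (hc : Nl φ c (eps C hC.1)) : False := by
  obtain ⟨β, γ, δ, υ, π, hb', hc', hd, ou, op, r⟩ := rels S.M X ha
  obtain rfl := hb.uniq hb'.o hb'.t
  obtain rfl := hc.uniq hc'.o hc'.t
  have ab := card_of_tq hA hB r.tab
  have ac := card_of_tq hA hC r.tac
  have bc := card_of_tq hB hC r.tbc
  have t : tq (eps A hA.1 * eps B hB.1 * eps C hC.1) = 24 - 8 * (A ∩ B ∩ C).card := by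
    have h1 := H16.card_symmDiff_add A B
    have h2 := H16.card_symmDiff_add (A ∆ B) C
    have h3 := H16.card_symmDiff_add (A ∩ C) (B ∩ C)
    have a : A.card = 8 := hA.2
    have b : B.card = 8 := hB.2
    have c : C.card = 8 := hC.2
    rw [show (A ∩ C) ∆ (B ∩ C) = A ∆ B ∩ C from (inf_symmDiff_distrib_right A B C).symm,
      show A ∩ C ∩ (B ∩ C) = A ∩ B ∩ C from (inf_inf_distrib_right A B C).symm] at h3
    rw [eps_mul_eps, eps_mul_eps, tq_eps]
    omega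
  have m := end_lt S hA hB hC ha.o hb.o hc.o R ab ac bc fun e => r.ne (eq_one_of_tq (by rw [t, e]; rfl))
  obtain ⟨D, hD, sD, rfl⟩ := diag4 hA hB ab hd.sq hd.t r.tad r.tbd (by rw [r.t3, t, m]; rfl)
  have sC : A ∩ B ⊆ C :=
    Finset.inter_eq_left.1 (Finset.eq_of_subset_of_card_le Finset.inter_subset_left (by omega))
  have k : ∀ {X Y : Finset GolayPt}, A ∩ B ⊆ X → A ∩ B ⊆ Y → (X ∩ Y).card = 4 → X ∩ Y = A ∩ B :=
    fun h1 h2 h3 => (Finset.eq_of_subset_of_card_le (Finset.subset_inter h1 h2) (by omega)).symm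
  have l : A ∩ B ⊆ A := Finset.inter_subset_left
  have l' : A ∩ B ⊆ B := Finset.inter_subset_right
  have eac := k l sC ac
  have ebc := k l' sC bc
  have ead := k l sD (Finset.inter_comm D A ▸ card_of_tq hD hA r.tad)
  have ebd := k l' sD (Finset.inter_comm D B ▸ card_of_tq hD hB r.tbd)
  have ecd := k sC sD (Finset.inter_comm D C ▸ card_of_tq hD hC r.tcd)
  have hT : (A ∪ B ∪ C ∪ D)ᶜ.card = 4 := by
    have h1 := Finset.card_union_add_card_inter A B
    have h2 := Finset.card_union_add_card_inter (A ∪ B) C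
    have h3 := Finset.card_union_add_card_inter (A ∪ B ∪ C) D
    have a : A.card = 8 := hA.2
    have b : B.card = 8 := hB.2
    have c : C.card = 8 := hC.2
    have d : D.card = 8 := hD.2
    rw [Finset.union_inter_distrib_right, eac, ebc, Finset.union_self] at h2
    rw [Finset.union_inter_distrib_right, Finset.union_inter_distrib_right, ead, ebd, ecd, Finset.union_self,
      Finset.union_self] at h3
    rw [Finset.card_compl, show Fintype.card GolayPt = 24 from rfl]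
    omega
  have on : ∀ v, On (A ∪ B ∪ C ∪ D)ᶜ v ↔ eps A hA.1 • v = v ∧ eps B hB.1 • v = v ∧ eps C hC.1 • v = v ∧
      eps D hD.1 • v = v := fun v => by
    simp only [← on_compl_iff, On, Finset.mem_compl, not_not, Finset.mem_union, or_imp, forall_and, and_assoc]
  have mono : ∀ g : Co0, g ^ 5 = 1 → (∀ v, On (A ∪ B ∪ C ∪ D)ᶜ v → (g * eps A hA.1 * g⁻¹) • v = v ∧
      (g * eps B hB.1 * g⁻¹) • v = v ∧ (g * eps C hC.1 * g⁻¹) • v = v ∧ (g * eps D hD.1 * g⁻¹) • v = v) →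
      g ∈ monoGroup := fun g g5 h => inv_mem_iff.1 (tet_five (by rw [inv_pow, g5, inv_one]) hT fun v o => by
    simpa only [on, mul_smul, smul_eq_iff_eq_inv_smul g] using h v o)
  have e : ∀ x, υ * π * x * (υ * π)⁻¹ = υ * (π * x * π⁻¹) * υ⁻¹ := fun x => by group
  have c1 := comm_of_mono S ou (mono _ r.u5 fun v o => by
    simp only [r.ua, r.ub, r.uc, r.ud, mul_smul, (on v).1 o, and_self]) X.u5
  have c2 := comm_of_mono S (ou.mul op) (mono _ r.w5 fun v o => by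
    simp only [e, r.pa, r.pb, r.pc, r.pd, r.ua, r.ub, r.uc, r.ud, mul_smul, (on v).1 o, and_self]) X.up5
  exact end_four S hA hB hC hD ha.o hb.o hc.o hd.o R ab rfl eac ead ebc ebd ecd op
    (mul_left_cancel (a := u) (by rw [← mul_assoc, c2, ← mul_assoc, ← c1, mul_assoc])) X.pa X.pb X.pd

theorem no_diag (M : Mon z Q φ cls) (C : C64 z cls) {a b c d u p : G} (R : RR z a b c d)
    (A : AA z a b c d u p) {γ : Co0} (h : Ov φ a γ) (hh : γ * γ = 1) : a ∈ Q := by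
  have key : ∀ α, Nl φ a α → False := fun α ha => by
    obtain ⟨β, γ, δ, υ, π, hb, hc, -, -, -, r⟩ := rels M A ha
    obtain ⟨θ, X, Y, Z, hX, hY, hZ, e1, e2, e3⟩ :=
      diag3 ha.sq hb.sq hc.sq r.ab r.ac r.bc ha.t hb.t hc.t r.tab r.tac r.tbc r.ne
    obtain ⟨s, Q', S⟩ := exists_st (M.twist θ) (C.twist θ)
    exact no_oct S R A hX hY hZ (e1 ▸ ha.twist θ) (e2 ▸ hb.twist θ) (e3 ▸ hc.twist θ)
  rcases tq_of_sq hh with t | t | t | t | t
  · exact (h.mem_iff M).2 (Or.inl (eq_one_of_tq t))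
  · exact (key _ ⟨h, hh, t⟩).elim
  · exfalso
    rcases H74.Co1.classes_co0 (Or.inl hh) with ⟨θ, D, hD, e⟩ | ⟨θ, e⟩
    · obtain ⟨s, Q', S⟩ := exists_st (M.twist θ) (C.twist θ)
      rw [← tq_conj θ, e, tq_eps] at t
      exact no_dod S (D := D) ⟨hD, by omega⟩ (e ▸ h.twist θ) R.aa
    · refine negCo0_ne_one ?_
      have := conj_mul (a := γ) (b := θ) (c := γ)
      rcases e with e | e <;> rw [e, hh, mul_one, mul_inv_cancel] at this
      · rwa [H74.Co1.eB_sq] at this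
      · rwa [H74.Co1.neg_mul_sq, H74.Co1.eB_sq] at this
  · exact (key _ ⟨h.neg, (H74.Co1.neg_mul_sq γ).trans hh, by rw [tq_neg, t]; rfl⟩).elim
  · exact (h.mem_iff M).2 (Or.inr (eq_neg_of_tq t))

end H95.Ph
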