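import Cfsg.Agent.Lib.Prh.Lee1

/-! The cases of an element of order 4 in `Q` and over an isometry with square minus one. -/

set_option autoImplicit false

namespace H95.Ph

open Cfsg Subgroup H15 H16 H7.ML
open scoped symmDiff Pointwise

variable {G : Type*} [Group G] [Finite G] {z s : G} {Q Q' : Subgroup G}
  {φ : centralizer ({z} : Set G) →* Spor.Co1} {cls : leechLattice → G → Prop} {XA : G → Prop} {tr : G → ℝ}

namespace JI

omit [Finite G] in
theorem step (M : Mon z Q φ cls) {t x : G} {v : leechLattice} {c : Finset GolayPt} (hc : c ∈ code)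
    (o : Ov φ t (eps c hc)) (hx : cls v x) : cls (v - eps c hc • v) (cm x t) := by
  have h1 := M.add hx (M.congr (o.smul M (cls_inv M hx)) (cg_neg _))
  rw [← sub_eq_add_neg] at h1
  simpa only [cm, mul_assoc] using h1

theorem coord {c : Finset GolayPt} (hc : c ∈ code) (v : leechLattice) (i : GolayPt) :
    ((v - eps c hc • v : leechLattice) : GolayPt → ℤ) i =
      if i ∈ c then 2 * (v : GolayPt → ℤ) i else 0 := by
  rw [AddSubgroup.coe_sub, Pi.sub_apply, eps_smul_apply]
  split_ifs <;> ring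

theorem twelve (M : Mon z Q φ cls) {t x : G} {v : leechLattice} {c : Finset GolayPt} (hc : c ∈ code)
    (o : Ov φ t (eps c hc)) (hx : cls v x) (odd : ∀ i, (v : GolayPt → ℤ) i % 2 = 1)
    (e : cm x t * cm x t = z) : c.card = 12 := by
  have h1 : ¬ (32 : ℤ) ∣ sqNorm ((v - eps c hc • v : leechLattice) : GolayPt → ℤ) := by
    rw [← M.sq_iff (step M hc o hx), e]
    exact M.h.ne_one
  have h2 : (32 : ℤ) ∣ sqNorm ((v - eps c hc • v : leechLattice) : GolayPt → ℤ) - 4 * c.card := by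
    rw [sqNorm_def, ← sum_ind, Finset.mul_sum, ← Finset.sum_sub_distrib]
    refine Finset.dvd_sum fun i _ => ?_
    rw [coord, ind_apply]
    split_ifs
    · obtain ⟨k, hk⟩ : Odd ((v : GolayPt → ℤ) i) := Int.odd_iff.2 (odd i)
      obtain ⟨m, hm⟩ := Int.even_mul_succ_self k
      exact ⟨m, by rw [hk]; linear_combination 16 * hm⟩
    · simp
  have h3 := card_of_mem_code hc
  omega

theorem nofix {η : Co0} (h : η * η * (η * η) = negCo0 ∨ η * η = negCo0) (v : leechLattice)
    (hv : nm v = 32) : ¬ Cg (η • v) v := by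
  intro c
  have hv' : sqNorm (v : GolayPt → ℤ) = 32 := hv
  have e1 : (η * η) • v = v := by
    rcases c.short (by rw [sqNorm_co0]; omega) (by omega) with e | e | e
    · rw [mul_smul, e, e]
    · rw [mul_smul, e, smul_neg, e, neg_neg]
    · omega
  have e3 : v = -v := by
    rw [← negCo0_smul]
    rcases h with h | h
    · rw [← h, mul_smul, e1, e1]
    · rw [← h, e1]
  have e4 : (v : GolayPt → ℤ) = 0 := funext fun i => by
    have := congrFun (congrArg Subtype.val e3) i
    simp only [AddSubgroup.coe_neg, Pi.neg_apply] at this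
    change _ = (0 : ℤ)
    omega
  rw [(sqNorm_eq_zero_iff _).2 e4] at hv'
  omega

end JI

open JI

theorem no_inQ (M : Mon z Q φ cls) {a b c d e t₁ t₂ u p g h y : G} (R : RR z a b c d)
    (A : AA z a b c d u p) (T : TT z a b c d e t₁ t₂) (F : FF z a b c e t₁ t₂ g h y) : a ∉ Q := by
  intro ha
  have ez : ∀ {x y : G}, Ez z x y → (x ∈ Q ↔ y ∈ Q) := by
    rintro x y (rfl | rfl)
    · rfl
    · exact mul_mem_cancel_right M.h.mem
  have hb : b ∈ Q := (ez A.pa).1 ((M.h.norm p A.pz a).1 ha)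
  have hc : c ∈ Q := (ez A.pb).1 ((M.h.norm p A.pz b).1 hb)
  have hd : d ∈ Q := (M.h.norm u A.uz d).2 ((ez A.ud).2 ha)
  have hs : a * b * c ∈ Q := mul_mem (mul_mem ha hb) hc
  have cz := M.h.central
  have ds : a * b * c * d = d * (a * b * c) * z := by
    calc a * b * c * d = a * (b * d) * (c * z) := by
          rw [mul_assoc, R.cd]; group
      _ = a * d * (b * (z * c) * z) := by rw [R.bd]; group
      _ = a * d * (b * c) := by rw [← cz c hc, mul_assoc b, mul_assoc c, R.zz, mul_one]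
      _ = d * a * (z * (b * c)) := by rw [R.ad]; group
      _ = d * (a * b * c) * z := by rw [← cz _ (mul_mem hb hc)]; group
  have ds' : d * (a * b * c) ≠ a * b * c * d := fun e => M.h.ne_one (by
    rw [← e] at ds; exact (mul_eq_left.1 ds.symm))
  obtain ⟨φ', cls', S0⟩ := exists_std M (F.gz ▸ hs) (by
    rw [F.gz]; intro e; exact ds' (by rw [e, cz d hd]))
  have S := S0.st
  rw [F.gz] at S
  obtain ⟨c1, h1, o1⟩ := S.exists_eps ⟨t₁, mem_cent_iff.2 T.t1z⟩ ⟨a, ha, F.ga⟩
  obtain ⟨c2, h2, o2⟩ := S.exists_eps ⟨t₂, mem_cent_iff.2 T.t2z⟩ ⟨b, hb, F.gb⟩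
  have o1' : Ov φ' t₁ (eps c1 h1) := ⟨_, o1⟩
  have o2' : Ov φ' t₂ (eps c2 h2) := ⟨_, o2⟩
  have o3 := o1'.mul o2'
  rw [eps_mul_eps] at o3
  obtain ⟨v, hv⟩ := S.M.ex_cls d hd
  have odd : ∀ i, (v : GolayPt → ℤ) i % 2 = 1 := by
    rcases (mem_leech_iff' _).1 v.2 with ⟨k, -, hk⟩ | ⟨k, -, hk⟩
    · exact absurd (S.comm_s hv hk) ds'
    · intro i
      have := hk.1 i
      omega
  have n1 := twelve S.M h1 o1' hv odd T.c1
  have n2 := twelve S.M h2 o2' hv odd T.c2
  have n3 := twelve S.M _ o3 hv odd T.c3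
  have n4 := H16.card_symmDiff_add c1 c2
  have k1 := step S.M h2 o2' (step S.M h1 o1' hv)
  rw [T.c12] at k1
  obtain ⟨w, hw⟩ := cg_iff.1 (cg_of_cls S.M k1 (S.M.mul_z S.hs))
  have k2 : ∀ i, (w : GolayPt → ℤ) i % 4 = if i ∈ c1 ∩ c2 then 2 else 0 := by
    intro i
    have e1 := congrFun (congrArg Subtype.val hw) i
    rw [coord, coord] at e1
    simp only [AddSubgroup.coe_add, Pi.add_apply, coe_e8, Pi.single_apply] at e1
    have := odd i
    simp only [Finset.mem_inter]
    by_cases a1 : i ∈ c1 <;> by_cases a2 : i ∈ c2 <;>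
      simp only [a1, a2, if_true, if_false, and_true, and_false, and_self] at e1 ⊢ <;>
      split_ifs at e1 <;> omega
  rcases (mem_leech_iff' _).1 w.2 with ⟨k, hk, ck⟩ | ⟨k, -, ck⟩
  · have e1 : k = c1 ∩ c2 := by
      ext i
      have e2 := ck.1 i
      have e3 := k2 i
      rw [ind_apply] at e2
      split_ifs at e2 e3 <;> simp only [*] <;> omega
    have := card_of_mem_code hk
    rw [e1] at this
    omega
  · have e2 := ck.1 none
    have e3 := k2 none
    split_ifs at e3 <;> omega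

theorem no_neg (E : Env z Q φ cls XA tr) {X : Type} [Group X] [Fintype X] {σ : X →* G}
    {z₀ a b c d e t₁ t₂ : X} (hz : σ z₀ = z) (R : RR z₀ a b c d) (T : TT z₀ a b c d e t₁ t₂)
    (S : SS σ z₀ a e) {h : G} (he : h * σ e * h⁻¹ = σ e * z) {γ : Co0} (o : Ov φ (σ a) γ) :
    γ * γ ≠ negCo0 := by
  intro n
  have p1 := E.pair _ _ o (nofix (Or.inr n))
  have e1 : σ a * z = (σ b)⁻¹ * σ a * (σ b)⁻¹⁻¹ := by
    rw [← hz, inv_inv, mul_assoc, ← map_mul σ a b, R.ab, map_mul, map_mul]; group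
  rw [e1, E.tr_conj, tq_of_sq_neg n, n, tq_negCo0] at p1
  obtain ⟨η, o'⟩ := exists_ov φ (y := σ e) (by
    rw [← hz, ← map_mul, ← map_mul, ← R.aa, ← T.ee]; simp only [mul_assoc])
  have o2 := o'.mul o'
  rw [← map_mul, T.ee] at o2
  have n2 : η * η * (η * η) = negCo0 := by
    rcases o2.eq o with q | q
    · rw [q, n]
    · rw [q, mul_assoc, ← mul_assoc γ, ← neg_mul_comm, mul_assoc, n, negCo0_mul_self, mul_one]
  have p2 := E.pair _ _ o' (nofix (Or.inl n2))
  rw [← he, E.tr_conj, tq_of_four_neg n2, tq_of_sq_neg n2] at p2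
  obtain ⟨m, hm⟩ := E.avg X σ
  rw [S.2 tr E.tr_conj, S.1, hz, E.tr_one, E.tr_z] at hm
  push_cast at p1 p2 hm
  have h5 : ((206016 : ℕ) : ℝ) = (128 * m : ℕ) := by push_cast; linarith
  have h6 := Nat.cast_injective h5
  omega

end H95.Ph
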