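import Cfsg.Agent.Lib.Prh.Cfg
import Cfsg.Agent.Lib.Wielandt.FixPoint
import Cfsg.Agent.S0501

/-! Small 2-groups acted on by the third Janko group. -/

set_option autoImplicit false

namespace H95.Ph

open Cfsg Subgroup

namespace Kr

theorem dvd_card_of_orbits {P X : Type*} [Group P] [MulAction P X] [Finite X] {m : ℕ}
    (h : ∀ x : X, m ∣ (MulAction.stabilizer P x).index) : m ∣ Nat.card X := by
  rw [Nat.card_congr (MulAction.selfEquivSigmaOrbits P X)]
  have := Fintype.ofFinite (MulAction.orbitRel.Quotient P X)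
  rw [Nat.card_sigma]
  refine Finset.dvd_sum fun ω _ => ?_
  have := h ω.out
  rwa [MulAction.index_stabilizer, ← Nat.card_coe_set_eq] at this

theorem cm_mem_of_index {P : Type*} [Group P] [Finite P] (hP : IsPGroup 3 P) (K : Subgroup P)
    (h : ¬ 9 ∣ K.index) (k s : P) : cm k s ∈ K := by
  have : Fact (Nat.Prime 3) := ⟨Nat.prime_three⟩
  obtain ⟨n, hn⟩ := hP.index K
  obtain ⟨m, hm⟩ := IsPGroup.iff_card.1 hP
  match n, hn with
  | 0, hn => rw [index_eq_one.1 hn]; trivial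
  | 1, hn =>
    have hm0 : m ≠ 0 := by
      rintro rfl
      have := K.index_dvd_card
      rw [hn, hm] at this
      norm_num at this
    have : K.Normal := normal_of_index_eq_minFac_card (by rw [hn, hm, Nat.prime_three.pow_minFac hm0]; rfl)
    have hc : IsCyclic (P ⧸ K) := isCyclic_of_prime_card (p := 3) hn
    rw [← QuotientGroup.eq_one_iff]
    have := hc.isMulCommutative.is_comm.comm (k : P ⧸ K) s
    simp only [cm, QuotientGroup.mk_mul, QuotientGroup.mk_inv, this]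
    group
  | n + 2, hn => exact absurd ⟨3 ^ n, by rw [hn]; ring⟩ h

/-- fixed points of an automorphism -/
def fx {V : Type*} [Group V] (a : MulAut V) : Subgroup V where
  carrier := {x | a x = x}
  mul_mem' := fun {x y} hx hy => by
    have hx' : a x = x := hx
    have hy' : a y = y := hy
    show a (x * y) = x * y
    rw [map_mul, hx', hy']
  one_mem' := map_one a
  inv_mem' := fun {x} hx => by
    have hx' : a x = x := hx
    show a x⁻¹ = x⁻¹
    rw [map_inv, hx']

theorem mem_fx {V : Type*} [Group V] {a : MulAut V} {x : V} : x ∈ fx a ↔ a x = x := Iff.rfl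

theorem card_fx_conj {V : Type*} [Group V] (g a : MulAut V) :
    Nat.card (fx (g * a * g⁻¹)) = Nat.card (fx a) := by
  refine (Nat.card_congr (Equiv.subtypeEquiv g.toEquiv fun x => ?_)).symm
  simp [mem_fx]

/-- the elementary abelian group of order 9 -/
abbrev G9 := Multiplicative (ZMod 3 × ZMod 3)

/-- subgroups given by two linear equations -/
def ln (c : ZMod 3 × ZMod 3 × ZMod 3 × ZMod 3) : Subgroup G9 where
  carrier := {g | c.1 * g.toAdd.1 + c.2.1 * g.toAdd.2 = 0 ∧ c.2.2.1 * g.toAdd.1 + c.2.2.2 * g.toAdd.2 = 0}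
  mul_mem' := fun {x y} hx hy => by
    simp only [Set.mem_setOf_eq, toAdd_mul, Prod.fst_add, Prod.snd_add] at *
    exact ⟨by linear_combination hx.1 + hy.1, by linear_combination hx.2 + hy.2⟩
  one_mem' := by simp
  inv_mem' := fun {x} hx => by
    simp only [Set.mem_setOf_eq, toAdd_inv, Prod.fst_neg, Prod.snd_neg] at *
    exact ⟨by linear_combination -hx.1, by linear_combination -hx.2⟩

instance lnDec (c : ZMod 3 × ZMod 3 × ZMod 3 × ZMod 3) : DecidablePred (· ∈ ln c) := fun g =>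
  inferInstanceAs (Decidable (c.1 * g.toAdd.1 + c.2.1 * g.toAdd.2 = 0 ∧
    c.2.2.1 * g.toAdd.1 + c.2.2.2 * g.toAdd.2 = 0))

/-- a homomorphism from the group of order 9 -/
def h9 {M : Type*} [Group M] (a b : M) (ha : a ^ 3 = 1) (hb : b ^ 3 = 1) (hab : Commute a b) : G9 →* M :=
  MonoidHom.mk' (fun g => a ^ g.toAdd.1.val * b ^ g.toAdd.2.val) fun x y => by
    simp only [toAdd_mul, Prod.fst_add, Prod.snd_add, ZMod.val_add, ← pow_eq_pow_mod _ ha,
      ← pow_eq_pow_mod _ hb, pow_add]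
    have := (hab.pow_pow y.toAdd.1.val x.toAdd.2.val).eq
    simp only [mul_assoc]
    rw [← mul_assoc (a ^ y.toAdd.1.val), this, mul_assoc]

theorem card_ln {V : Type*} [Group V] (φ : G9 →* MulAut V) (A : Subgroup G9) (g : G9) (hg : g ∈ A)
    (h : ∀ a ∈ A, a = 1 ∨ a = g ∨ a = g * g) :
    Nat.card {q : V // ∀ a ∈ A, φ a q = q} = Nat.card (fx (φ g)) := by
  refine Nat.card_congr (Equiv.subtypeEquivRight fun q => ⟨fun k => k g hg, fun k a ha => ?_⟩)
  have k' : φ g q = q := k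
  rcases h a ha with rfl | rfl | rfl
  · simp
  · exact k
  · simp [k']

theorem wiel {V : Type*} [Group V] [Finite V] (hV : ∀ x y : V, x * y = y * x) (h2 : ∀ x : V, x ^ 2 = 1)
    {a b : MulAut V} (ha : a ^ 3 = 1) (hb : b ^ 3 = 1) (hab : Commute a b) :
    Nat.card (fx a) ^ 3 * Nat.card (fx b) ^ 3 * Nat.card (fx (a * b)) ^ 3 * Nat.card (fx (a * b⁻¹)) ^ 3 =
      Nat.card V ^ 3 * Nat.card (fx a ⊓ fx b : Subgroup V) ^ 9 := by
  let φ := h9 a b ha hb hab
  have key := H53.Wielandt.card_formula_elemAb Nat.prime_two hV h2 (G := G9) (by simp) φ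
    (fun i : Fin 4 => ln (![(0, 1, 0, 0), (1, 0, 0, 0), (1, 2, 0, 0), (1, 1, 0, 0)] i))
    (fun i : Fin 4 => ln (![(1, 0, 0, 1), (1, 0, 0, 1), (1, 0, 0, 1), (0, 0, 0, 0)] i))
    (by simp only [Nat.card_eq_fintype_card]; decide)
  have b2 : b⁻¹ = b ^ 2 := by
    rw [inv_eq_iff_mul_eq_one, ← pow_succ', hb]
  have e1 : φ (.ofAdd (1, 0)) = a := by show a ^ 1 * b ^ 0 = a; simp
  have e2 : φ (.ofAdd (0, 1)) = b := by show a ^ 0 * b ^ 1 = b; simp
  have e3 : φ (.ofAdd (1, 1)) = a * b := by show a ^ 1 * b ^ 1 = _; simp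
  have e4 : φ (.ofAdd (1, 2)) = a * b⁻¹ := by show a ^ 1 * b ^ 2 = _; simp [b2]
  have f0 : fx (φ 1) = ⊤ := by ext x; simp [mem_fx]
  have f9 : Nat.card {q : V // ∀ g ∈ ln (0, 0, 0, 0), φ g q = q} = Nat.card (fx a ⊓ fx b : Subgroup V) := by
    refine Nat.card_congr (Equiv.subtypeEquivRight fun q => ⟨fun k => ⟨?_, ?_⟩, fun k g _ => ?_⟩)
    · exact e1 ▸ k _ (by decide)
    · exact e2 ▸ k _ (by decide)
    · have k1 : ∀ n : ℕ, (a ^ n) q = q := fun n => by
        induction n with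
        | zero => rfl
        | succ n ih => rw [pow_succ, MulAut.mul_apply, k.1, ih]
      have k2 : ∀ n : ℕ, (b ^ n) q = q := fun n => by
        induction n with
        | zero => rfl
        | succ n ih => rw [pow_succ, MulAut.mul_apply, k.2, ih]
      show (a ^ _ * b ^ _) q = q
      rw [MulAut.mul_apply, k2, k1]
  simp only [Fin.prod_univ_four, Matrix.cons_val] at key
  rw [card_ln φ _ (.ofAdd (1, 0)) (by decide) (by decide), card_ln φ _ (.ofAdd (0, 1)) (by decide) (by decide),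
    card_ln φ _ (.ofAdd (1, 1)) (by decide) (by decide), card_ln φ _ (.ofAdd (1, 2)) (by decide) (by decide),
    card_ln φ _ 1 (by decide) (by decide), f9, e1, e2, e3, e4, f0, card_top] at key
  have c1 : Nat.card (ln (0, 1, 0, 0)) = 3 := by rw [Nat.card_eq_fintype_card]; decide
  have c2 : Nat.card (ln (1, 0, 0, 0)) = 3 := by rw [Nat.card_eq_fintype_card]; decide
  have c3 : Nat.card (ln (1, 2, 0, 0)) = 3 := by rw [Nat.card_eq_fintype_card]; decide
  have c4 : Nat.card (ln (1, 1, 0, 0)) = 3 := by rw [Nat.card_eq_fintype_card]; decide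
  have c5 : Nat.card (ln (1, 0, 0, 1)) = 1 := by rw [Nat.card_eq_fintype_card]; decide
  have c6 : Nat.card (ln (0, 0, 0, 0)) = 9 := by rw [Nat.card_eq_fintype_card]; decide
  rw [c1, c2, c3, c4, c5, c6] at key
  rw [key]; ring

theorem card_two_pow {V : Type*} [Group V] [Finite V] (h2 : ∀ x : V, x ^ 2 = 1) (A : Subgroup V) :
    ∃ n, Nat.card A = 2 ^ n :=
  IsPGroup.iff_card.1 (IsPGroup.to_subgroup (fun x => ⟨1, by simpa using h2 x⟩) A)

theorem arith3 {n c z : ℕ} (hn : n ≤ 23) (h : 12 * c = 3 * n + 9 * z) (hz : z ≤ c) (h9 : 9 ∣ 2 ^ c - 2 ^ z) :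
    n = z := by
  obtain ⟨d, rfl⟩ := Nat.exists_eq_add_of_le hz
  have hd : d ≤ 5 := by omega
  have : 9 ∣ 2 ^ z * (2 ^ d - 1) := by rwa [Nat.mul_sub, mul_one, ← pow_add]
  have h3 : 9 ∣ 2 ^ d - 1 := (Nat.Coprime.pow_right z (by norm_num : Nat.Coprime 9 2)).dvd_of_dvd_mul_left this
  interval_cases d <;> first | omega | (norm_num at h3)

theorem sq_mem_frattini {P : Type*} [Group P] [Finite P] (hP : IsPGroup 2 P) (x : P) :
    x ^ 2 ∈ frattini P := by
  simp only [frattini, Order.radical, mem_iInf]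
  intro M hM
  have hM' : IsCoatom M := hM
  obtain ⟨n, hn⟩ := IsPGroup.iff_card.1 (hP.to_subgroup M)
  obtain ⟨m, hm⟩ := hP.index M
  have hm0 : m ≠ 0 := by
    rintro rfl
    exact hM'.1 (index_eq_one.1 hm)
  have hc := M.card_mul_index
  have hd : 2 ^ (n + 1) ∣ Nat.card P := by
    rw [← hc, hn, hm, ← pow_add]
    exact pow_dvd_pow 2 (by omega)
  obtain ⟨K, hK, hMK⟩ := Sylow.exists_subgroup_card_pow_succ hd hn
  have : K = ⊤ := hM'.2 K (lt_of_le_of_ne hMK fun e => by
    rw [← e, hn] at hK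
    have := Nat.pow_right_injective (le_refl 2) hK
    omega)
  rw [this, card_top, ← hc, hn, pow_succ] at hK
  exact sq_mem_of_index_two (Nat.eq_of_mul_eq_mul_left (by positivity) hK) x

/-- fixed points in the quotient come from fixed points -/
theorem exists_fixed {T : Type*} [Group T] [Finite T] (hT : IsPGroup 2 T) (N : Subgroup T) (a : MulAut T)
    {n : ℕ} (ha : a ^ 19 ^ n = 1) (hN : ∀ x ∈ N, a x ∈ N) (hN' : ∀ x, a x ∈ N → x ∈ N) (t : T)
    (ht : t⁻¹ * a t ∈ N) : ∃ u ∈ N, a (t * u) = t * u := by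
  classical
  have : Fact (Nat.Prime 19) := ⟨by norm_num⟩
  have := Fintype.ofFinite T
  have hinv : ∀ x : T, t⁻¹ * (a : Equiv.Perm T) x ∈ N ↔ t⁻¹ * x ∈ N := fun x => by
    have e : t⁻¹ * a x = (t⁻¹ * a t) * a (t⁻¹ * x) := by simp [mul_assoc]
    show t⁻¹ * a x ∈ N ↔ _
    rw [e, N.mul_mem_cancel_left ht]
    exact ⟨hN' _, hN _⟩
  let σ : Equiv.Perm {x : T // t⁻¹ * x ∈ N} := Equiv.Perm.subtypePerm (a : Equiv.Perm T) hinv
  have hσ : σ ^ 19 ^ n = 1 := by
    ext x
    rw [Equiv.Perm.subtypePerm_pow]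
    have : ((a : Equiv.Perm T) ^ 19 ^ n) = 1 := by
      have := map_pow (MulAut.toPerm T) a (19 ^ n)
      rw [ha, map_one] at this
      exact this.symm
    simp [this]
  have hc : Fintype.card {x : T // t⁻¹ * x ∈ N} = Nat.card N := by
    rw [← Nat.card_eq_fintype_card]
    exact Nat.card_congr (Equiv.subtypeEquiv (Equiv.mulLeft t⁻¹) fun x => Iff.rfl)
  obtain ⟨m, hm⟩ := IsPGroup.iff_card.1 (hT.to_subgroup N)
  obtain ⟨x, hx⟩ := Equiv.Perm.exists_fixed_point_of_prime (p := 19) (n := n) (σ := σ) (by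
    rw [hc, hm]
    intro h
    exact absurd ((by norm_num : Nat.Prime 19).dvd_of_dvd_pow h) (by norm_num)) hσ
  refine ⟨t⁻¹ * x, x.2, ?_⟩
  rw [mul_inv_cancel_left]
  exact congrArg Subtype.val hx

theorem arith19 {m c : ℕ} (hm : m ≤ 35) (hc : c ≤ 4) (h : 2 ^ m ≡ 2 ^ c [MOD 19]) : m ≤ 23 := by
  by_contra k
  have k' : 24 ≤ m := by omega
  interval_cases m <;> interval_cases c <;> revert h <;> decide

end Kr

open Kr

theorem mod3 {S V : Type*} [Group S] [Group V] [Finite V] (ψ : S →* MulAut V)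
    (hV : ∀ x y : V, x * y = y * x) (h2 : ∀ x : V, x ^ 2 = 1) (hc : Nat.card V ≤ 2 ^ 23)
    {w w' k s g₁ g₂ g₃ : S} {P : Subgroup S} [Finite P] (h : C3 w w' k s g₁ g₂ g₃ P) : ψ w = 1 := by
  have w'3 : w' ^ 3 = 1 := by rw [← h.g1, conj_pow, h.w3]; simp
  have key := wiel hV h2 (a := ψ w) (b := ψ w') (by rw [← map_pow, h.w3, map_one])
    (by rw [← map_pow, w'3, map_one]) ((show Commute w w' from h.ww').map ψ)
  have cj : ∀ g x, g * w * g⁻¹ = x → Nat.card (fx (ψ x)) = Nat.card (fx (ψ w)) := by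
    rintro g _ rfl
    rw [map_mul, map_mul, map_inv, card_fx_conj]
  rw [← map_inv, ← map_mul, ← map_mul, cj _ _ h.g1, cj _ _ h.g2, cj _ _ h.g3] at key
  obtain ⟨c, hc'⟩ := card_two_pow h2 (fx (ψ w))
  obtain ⟨z, hz⟩ := card_two_pow h2 (fx (ψ w) ⊓ fx (ψ w'))
  obtain ⟨n, hn⟩ := card_two_pow h2 ⊤
  rw [card_top] at hn
  rw [hc', hz, hn] at key
  simp only [← pow_mul, ← pow_add] at key
  have e1 := Nat.pow_right_injective (le_refl 2) key
  have hle : z ≤ c := by
    have := card_le_of_le (inf_le_left : fx (ψ w) ⊓ fx (ψ w') ≤ _)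
    rw [hc', hz] at this
    exact (Nat.pow_le_pow_iff_right (by norm_num)).1 this
  have hn' : n ≤ 23 := (Nat.pow_le_pow_iff_right (by norm_num)).1 (hn ▸ hc)
  -- the action of `P`
  letI : MulAction P V := MulAction.compHom V (ψ.comp P.subtype)
  have sm : ∀ (p : P) (x : V), p • x = ψ p x := fun _ _ => rfl
  have cmm : ∀ (p : P) (u : S), (p : S) * u = u * p → ∀ x, ψ u (ψ p x) = ψ p (ψ u x) := fun p u e x => by
    rw [← MulAut.mul_apply, ← map_mul, ← e, map_mul, MulAut.mul_apply]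
  let X : SubMulAction P V :=
    { carrier := (fx (ψ w) : Set V) \ (fx (ψ w) ⊓ fx (ψ w') : Subgroup V)
      smul_mem' := fun p x hx => by
        have h1 : ψ w x = x := hx.1
        refine ⟨?_, fun k => hx.2 ⟨h1, ?_⟩⟩
        · show ψ w (ψ p x) = ψ p x
          rw [cmm p w (h.cent p p.2).1, h1]
        · have k2 : ψ w' (ψ p x) = ψ p x := k.2
          rw [cmm p w' (h.cent p p.2).2] at k2
          exact (ψ p).injective k2 }
  have d9 : 9 ∣ Nat.card X := dvd_card_of_orbits (P := P) fun x => by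
    by_contra hx
    have := cm_mem_of_index h.hP _ hx ⟨k, h.kP⟩ ⟨s, h.sP⟩
    rw [SubMulAction.stabilizer_of_subMul, MulAction.mem_stabilizer_iff, sm] at this
    refine x.2.2 ⟨x.2.1, ?_⟩
    show ψ w' x = x
    rw [← h.ks]
    exact this
  have cX : Nat.card X = 2 ^ c - 2 ^ z := by
    rw [← hc', ← hz]
    exact Set.ncard_diff (s := ((fx (ψ w) ⊓ fx (ψ w') : Subgroup V) : Set V)) (t := (fx (ψ w) : Set V))
      (fun x hx => hx.1)
  have := arith3 hn' (by omega) hle (cX ▸ d9)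
  have ht : fx (ψ w) ⊓ fx (ψ w') = ⊤ := eq_top_of_card_eq _ (by rw [hz, hn, this])
  ext x
  exact (show x ∈ fx (ψ w) ⊓ fx (ψ w') from ht ▸ mem_top x).1

theorem ker2 {H S : Type*} [Group H] [Finite H] [Group S] [IsSimpleGroup S] {π : H →* S}
    (hs : Function.Surjective π) (T : Subgroup H) [T.Normal] (hT : IsPGroup 2 T)
    (hK : ∀ k ∈ π.ker, ∃ t ∈ T, k * t⁻¹ ∈ center H) (hc : Nat.card T ≤ 2 ^ 35) {y : H} {n : ℕ}
    (hy : y ^ 19 ^ n = 1)
    (rk : ∀ A : Subgroup H, A ≤ T ⊓ centralizer {y} → IsMulCommutative A → (∀ a ∈ A, a ^ 2 = 1) →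
      Nat.card A ≤ 4)
    {w w' k s g₁ g₂ g₃ : S} {P : Subgroup S} (h : C3 w w' k s g₁ g₂ g₃ P) : ∀ t ∈ T, y * t = t * y := by
  classical
  have : Fact (Nat.Prime 19) := ⟨by norm_num⟩
  have : Finite S := Finite.of_surjective π hs
  let φ : H →* MulAut T := MulAut.conjNormal
  have hΦ : ∀ g, ∀ x ∈ frattini T, φ g x ∈ frattini T := fun g x hx => by
    have := (characteristic_iff_le_comap.1 (inferInstance : (frattini T).Characteristic)) (φ g) hx
    exact this
  let χ := H53.Wielandt.quotAut φ (frattini T) hΦ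
  have h2 : ∀ x : T ⧸ frattini T, x ^ 2 = 1 := fun x => by
    obtain ⟨x, rfl⟩ := QuotientGroup.mk_surjective x
    rw [← QuotientGroup.mk_pow, QuotientGroup.eq_one_iff]
    exact sq_mem_frattini hT x
  have hV : ∀ x y : T ⧸ frattini T, x * y = y * x := fun x y => by
    have i : ∀ x : T ⧸ frattini T, x⁻¹ = x := fun x => by
      rw [inv_eq_iff_mul_eq_one, ← pow_two, h2]
    rw [← i (x * y), mul_inv_rev, i, i]
  have hker : π.ker ≤ χ.ker := fun k hk => by
    obtain ⟨t, ht, hz⟩ := hK k hk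
    rw [MonoidHom.mem_ker]
    ext x
    obtain ⟨x, rfl⟩ := QuotientGroup.mk_surjective x
    have e : φ k x = ⟨t, ht⟩ * x * ⟨t, ht⟩⁻¹ := by
      ext
      have := (mem_center_iff.1 hz) (t * x * t⁻¹)
      show k * x * k⁻¹ = t * x * t⁻¹
      calc k * x * k⁻¹ = (k * t⁻¹ * (t * x * t⁻¹)) * (k * t⁻¹)⁻¹ := by group
        _ = _ := by rw [← this]; group
    rw [H53.Wielandt.quotAut_mk, e, QuotientGroup.mk_mul, QuotientGroup.mk_mul, hV _ (x : T ⧸ frattini T),
      QuotientGroup.mk_inv]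
    simp
  let ψ : S →* MulAut (T ⧸ frattini T) := π.liftOfSurjective hs ⟨χ, hker⟩
  have hψ : ∀ g, ψ (π g) = χ g := fun g => MonoidHom.liftOfRightInverse_comp_apply ..
  have lift : ∀ t : T, χ y (t : T ⧸ frattini T) = t → ∃ u ∈ frattini T, φ y (t * u) = t * u := fun t ht =>
    exists_fixed hT (frattini T) (φ y) (n := n) (by rw [← map_pow, hy, map_one]) (hΦ y)
      (fun x hx => by simpa using hΦ y⁻¹ _ hx) t (QuotientGroup.eq.1 ht.symm)
  -- the fixed points of `y`
  have hC : Nat.card (fx (χ y)) ≤ 2 ^ 4 := by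
    have hsec := Cfsg.Agent.S0501.result (P := fx (φ y)) (hT.to_subgroup _) fun A _ hA hA2 => by
      have := rk ((A.map (fx (φ y)).subtype).map T.subtype) ?_ inferInstance ?_
      · rwa [card_map_of_injective T.subtype_injective, card_map_of_injective (subtype_injective _)] at this
      · rintro _ ⟨_, ⟨a, -, rfl⟩, rfl⟩
        refine ⟨a.1.2, mem_centralizer_singleton_iff.2 ?_⟩
        have : y * a.1.1 * y⁻¹ = a.1.1 := congrArg Subtype.val a.2
        exact (mul_inv_eq_iff_eq_mul.1 this).symm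
      · rintro _ ⟨_, ⟨a, ha, rfl⟩, rfl⟩
        rw [← map_pow, ← map_pow, hA2 a ha, map_one, map_one]
    let f : (⊤ : Subgroup (fx (φ y))) →* T ⧸ frattini T :=
      ((QuotientGroup.mk' _).comp (fx (φ y)).subtype).comp (Subgroup.subtype ⊤)
    have e := QuotientGroup.quotientKerEquivRange f
    have := hsec ⊤ f.ker ⊤ ⟨⟨fun a b => Subtype.ext (e.injective (Subtype.ext (by
      simp only [coe_mul, map_mul]; exact hV _ _)))⟩⟩
      fun a _ => e.injective (Subtype.ext (by simp only [map_pow, map_one, SubgroupClass.coe_pow]; exact h2 _))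
    rw [card_top, Nat.card_congr e.toEquiv] at this
    refine le_trans (card_le_of_le fun x hx => ?_) this
    obtain ⟨t, rfl⟩ := QuotientGroup.mk_surjective x
    obtain ⟨u, hu, e⟩ := lift t hx
    refine ⟨⟨⟨t * u, e⟩, trivial⟩, ?_⟩
    show ((t * u : T) : T ⧸ frattini T) = t
    rw [QuotientGroup.mk_mul, (QuotientGroup.eq_one_iff _).2 hu, mul_one]
  obtain ⟨c, hc'⟩ := card_two_pow h2 (fx (χ y))
  obtain ⟨m, hm⟩ := card_two_pow h2 ⊤
  rw [card_top] at hm
  have hm35 : m ≤ 35 := by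
    have := Nat.card_le_card_of_surjective _ (QuotientGroup.mk_surjective (s := frattini T))
    exact (Nat.pow_le_pow_iff_right (by norm_num)).1 (hm ▸ this.trans hc)
  have hmod : 2 ^ m ≡ 2 ^ c [MOD 19] := by
    have := Fintype.ofFinite (T ⧸ frattini T)
    have k := Equiv.Perm.card_fixedPoints_modEq (α := T ⧸ frattini T) (f := (χ y : _ → _)) (p := 19) (n := n) (by
      have : ∀ j : ℕ, (show Function.End (T ⧸ frattini T) from (χ y : _ → _)) ^ j = (χ (y ^ j) : _ → _) := fun j => by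
        induction j with
        | zero => rw [pow_zero, pow_zero, map_one]; rfl
        | succ j ih => rw [pow_succ, ih, pow_succ, map_mul]; rfl
      rw [this, hy, map_one]; rfl)
    rw [← Nat.card_eq_fintype_card, ← Nat.card_eq_fintype_card, hm] at k
    rw [← hc']
    exact k
  have hw := mod3 ψ hV h2 (by
    rw [hm]
    exact Nat.pow_le_pow_right (by norm_num)
      (arith19 hm35 ((Nat.pow_le_pow_iff_right (by norm_num)).1 (hc' ▸ hC)) hmod)) h
  have hk : ψ.ker = ⊤ := (IsSimpleGroup.eq_bot_or_eq_top_of_normal ψ.ker inferInstance).resolve_left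
    fun e => h.w1 (mem_bot.1 (e ▸ hw))
  have hy1 : χ y = 1 := by
    rw [← hψ]
    exact MonoidHom.mem_ker.1 (hk ▸ mem_top _)
  have : fx (φ y) = ⊤ := frattini_nongenerating (eq_top_iff.2 fun t _ => by
    obtain ⟨u, hu, e⟩ := lift t (by rw [hy1]; rfl)
    have := mul_mem (mem_sup_left e : t * u ∈ fx (φ y) ⊔ frattini T) (mem_sup_right (inv_mem hu))
    rwa [mul_inv_cancel_right] at this)
  intro t ht
  have e : φ y ⟨t, ht⟩ = ⟨t, ht⟩ := show _ ∈ fx (φ y) from this ▸ mem_top _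
  exact mul_inv_eq_iff_eq_mul.1 (congrArg Subtype.val e)

end H95.Ph
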