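import Cfsg.Agent.Lib.Prh.Defs

/-! Traces of isometries of the Leech lattice. -/

set_option autoImplicit false

namespace H95.Ph

open Cfsg Subgroup H15 H16 H7.ML
open scoped symmDiff Pointwise

namespace Lee1

variable {n : Type*} [Fintype n] [DecidableEq n]

/-- the trace of a rational matrix of finite order is an integer -/
theorem trace_int (A : Matrix n n ℚ) {k : ℕ} (hk : 0 < k) (h : A ^ k = 1) : ∃ m : ℤ, A.trace = m := by
  rcases isEmpty_or_nonempty n with _ | _
  · exact ⟨0, by simp⟩
  let B : Matrix n n ℂ := (algebraMap ℚ ℂ).mapMatrix A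
  have hB : B ^ k = 1 := by rw [← map_pow, h, map_one]
  have i1 : IsIntegral ℤ B.trace := by
    rw [Matrix.trace_eq_sum_roots_charpoly]
    refine IsIntegral.multiset_sum fun μ hμ => ?_
    have := spectrum.pow_mem_pow B k
      (Matrix.mem_spectrum_of_isRoot_charpoly (Polynomial.isRoot_of_mem_roots hμ))
    rw [hB, spectrum.one_eq, Set.mem_singleton_iff] at this
    exact IsIntegral.of_pow hk (this ▸ isIntegral_one)
  have e : B.trace = algebraMap ℚ ℂ A.trace := by
    simp [B, Matrix.trace]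
  rw [e, isIntegral_algebraMap_iff (algebraMap ℚ ℂ).injective] at i1
  obtain ⟨m, hm⟩ := IsIntegrallyClosed.isIntegral_iff.1 i1
  exact ⟨m, hm.symm⟩

theorem trace_idem {K : Type*} [Field K] {P : Matrix n n K} (h : P * P = P) : ∃ k : ℕ, P.trace = k := by
  have : IsIdempotentElem (Matrix.toLin' P) := by
    rw [IsIdempotentElem, Module.End.mul_eq_comp, ← Matrix.toLin'_mul, h]
  exact ⟨_, (Matrix.trace_toLin'_eq P).symm.trans (LinearMap.IsIdempotentElem.isProj_range _ this).trace⟩

theorem trace_of_sq {P : Matrix n n ℚ} {c : ℚ} (hc : c ≠ 0) (h : P * P = c • P) : ∃ k : ℕ, P.trace = c * k := by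
  obtain ⟨k, e⟩ := trace_idem (P := c⁻¹ • P) (by
    rw [Matrix.smul_mul, Matrix.mul_smul, h, smul_smul c⁻¹ c, inv_mul_cancel₀ hc, one_smul])
  rw [Matrix.trace_smul, smul_eq_mul] at e
  exact ⟨k, by rw [← e, mul_inv_cancel_left₀ hc]⟩

omit [DecidableEq n] in
theorem trace_tm (M : Matrix n n ℚ) : (M.transpose * M).trace = ∑ i, ∑ j, M j i ^ 2 := by
  simp [Matrix.trace, Matrix.mul_apply, pow_two]

omit [DecidableEq n] in
theorem trace_tm_nonneg (M : Matrix n n ℚ) : 0 ≤ (M.transpose * M).trace := by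
  rw [trace_tm]; positivity

omit [DecidableEq n] in
theorem eq_zero_of_tm {M : Matrix n n ℚ} (h : (M.transpose * M).trace = 0) : M = 0 := by
  rw [trace_tm, Finset.sum_eq_zero_iff_of_nonneg fun i _ => by positivity] at h
  ext j i
  have := h i (Finset.mem_univ i)
  rw [Finset.sum_eq_zero_iff_of_nonneg fun i _ => by positivity] at this
  exact pow_eq_zero_iff two_ne_zero |>.1 (this j (Finset.mem_univ j))

theorem trace_four {A : Matrix n n ℚ} (h : A * A * (A * A) = -1) : (A - A * A * A).trace = 0 := by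
  let S : Matrix n n ℝ := (algebraMap ℚ ℝ).mapMatrix (A - A * A * A)
  have s0 : (A - A * A * A) * (A - A * A * A) = 1 + 1 := by
    have : (A - A * A * A) * (A - A * A * A) =
        A * A - A * A * (A * A) - A * A * (A * A) + A * A * (A * A * (A * A)) := by noncomm_ring
    rw [this, h]; noncomm_ring
  have hS : S * S = 1 + 1 := by rw [← map_mul, s0, map_add, map_one]
  have r2 : √2 * √2 = 2 := Real.mul_self_sqrt (by norm_num)
  have r0 : √2 ≠ 0 := by positivity
  obtain ⟨k, hk⟩ := trace_idem (P := (2 : ℝ)⁻¹ • (1 + (√2)⁻¹ • S)) (by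
    rw [Matrix.smul_mul, Matrix.mul_smul, add_mul, mul_add, mul_add, Matrix.smul_mul, Matrix.smul_mul,
      Matrix.mul_smul, Matrix.mul_smul, hS, smul_smul (√2)⁻¹, ← mul_inv, r2]
    simp only [one_mul, mul_one]
    module)
  have e : S.trace = ((A - A * A * A).trace : ℚ) := by
    simp only [S, Matrix.trace, Matrix.diag, RingHom.mapMatrix_apply, Matrix.map_apply, Rat.cast_sum]
    rfl
  rw [Matrix.trace_smul, Matrix.trace_add, Matrix.trace_smul, Matrix.trace_one, e] at hk
  by_contra t
  set q : ℚ := (A - A * A * A).trace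
  have t' : (q : ℝ) ≠ 0 := by exact_mod_cast t
  simp only [smul_eq_mul] at hk
  have k2 : (q : ℝ) = √2 * (2 * k - Fintype.card n) := by
    rw [← hk]; field_simp; ring
  have k3 : (2 * k - Fintype.card n : ℝ) ≠ 0 := fun z => t' (by rw [k2, z, mul_zero])
  refine irrational_sqrt_two ⟨q / (2 * k - Fintype.card n), ?_⟩
  push_cast
  rw [k2, mul_div_cancel_right₀ _ k3]

open Polynomial in
theorem no13 [Nonempty n] (hn : Fintype.card n < 12) {B : Matrix n n ℚ}
    (h : ∑ k ∈ Finset.range 13, B ^ k = 0) : False := by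
  have := Fact.mk (by decide : Nat.Prime 13)
  have z : aeval B (cyclotomic 13 ℚ) = 0 := by
    rw [cyclotomic_prime]
    simpa using h
  have e := minpoly.eq_of_irreducible_of_monic (cyclotomic.irreducible_rat (by norm_num)) z
    (cyclotomic.monic 13 ℚ)
  have := natDegree_le_of_dvd (e ▸ Matrix.minpoly_dvd_charpoly B) B.charpoly_monic.ne_zero
  rw [natDegree_cyclotomic, Matrix.charpoly_natDegree_eq_dim, Nat.totient_prime (by decide)] at this
  omega

theorem ring27 {R : Type*} [Ring R] {N k a b : R} (hN : N = 1 + k + k * k) (kN : k * N = N)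
    (aN : a * N = N * a) (bN : b * N = N * b) (a3 : N * (a * a * a) = N) (b3 : N * (b * b * b) = N)
    (ab : N * (a * b) = N * (b * a)) :
    N * (1 + a + a * a) * (1 + b + b * b) * (N * (1 + a + a * a) * (1 + b + b * b)) =
      27 • (N * (1 + a + a * a) * (1 + b + b * b)) := by
  have three : ∀ x P : R, x * P = P → (1 + x + x * x) * P = 3 • P := fun x P e => by
    rw [add_mul, add_mul, one_mul, mul_assoc, e, e, show (3 : ℕ) = 1 + 1 + 1 from rfl, add_nsmul, add_nsmul,
      one_nsmul]
  have Na : N * (a * (1 + a + a * a)) = N * (1 + a + a * a) := by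
    have : N * (a * (1 + a + a * a)) = N * a + N * (a * a) + N * (a * a * a) := by noncomm_ring
    rw [this, a3]; noncomm_ring
  have Nb : N * (b * (1 + b + b * b)) = N * (1 + b + b * b) := by
    have : N * (b * (1 + b + b * b)) = N * b + N * (b * b) + N * (b * b * b) := by noncomm_ring
    rw [this, b3]; noncomm_ring
  have AN : (1 + a + a * a) * N = N * (1 + a + a * a) := by
    rw [add_mul, add_mul, mul_assoc, aN, ← mul_assoc, aN]; noncomm_ring
  have ba2 : N * (b * (a * a)) = N * (a * a * b) := by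
    calc N * (b * (a * a)) = N * (b * a) * a := by noncomm_ring
      _ = N * a * (b * a) := by rw [← ab]; noncomm_ring
      _ = a * (N * (b * a)) := by rw [← aN]; noncomm_ring
      _ = a * N * (a * b) := by rw [← ab]; noncomm_ring
      _ = N * (a * a * b) := by rw [aN]; noncomm_ring
  have bA : N * (b * (1 + a + a * a)) = N * ((1 + a + a * a) * b) := by
    have : N * (b * (1 + a + a * a)) = N * b + N * (b * a) + N * (b * (a * a)) := by noncomm_ring
    rw [this, ba2, ← ab]; noncomm_ring
  set A := 1 + a + a * a with hA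
  set B := 1 + b + b * b with hB
  have e1 : k * (N * A * B) = N * A * B := by rw [← mul_assoc, ← mul_assoc, kN]
  have e2 : a * (N * A * B) = N * A * B := by rw [← mul_assoc, ← mul_assoc, aN, mul_assoc N a, Na]
  have e3 : b * (N * A * B) = N * A * B := by
    rw [← mul_assoc, ← mul_assoc, bN, mul_assoc N b, bA, ← mul_assoc N, ← AN, mul_assoc _ b, mul_assoc A N, Nb,
      ← mul_assoc]
  have f1 := three _ _ e1
  have f2 := three _ _ e2
  have f3 := three _ _ e3
  rw [← hN] at f1
  rw [← hA] at f2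
  rw [← hB] at f3
  rw [mul_assoc _ B, f3, mul_smul_comm, mul_assoc N A (N * A * B), f2, mul_smul_comm, f1, smul_smul,
    smul_smul]
  simp only [Nat.reduceMul]

theorem ring8 {R : Type*} [Ring R] {a b c : R} (ha : a * a = 1) (hb : b * b = 1) (hc : c * c = 1)
    (ab : Commute a b) (ac : Commute a c) (bc : Commute b c) :
    (1 + a) * (1 + b) * (1 + c) * ((1 + a) * (1 + b) * (1 + c)) = 8 • ((1 + a) * (1 + b) * (1 + c)) := by
  have two : ∀ x : R, x * x = 1 → (1 + x) * (1 + x) = 2 • (1 + x) := fun x e => by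
    rw [add_mul, one_mul, mul_add, mul_one, e, two_nsmul, add_comm x]
  have cm : ∀ x y : R, Commute x y → Commute (1 + x) (1 + y) := fun x y e =>
    (Commute.one_left _).add_left ((Commute.one_right _).add_right e)
  rw [(((cm a c ac).mul_left (cm b c bc)).symm).mul_mul_mul_comm, ((cm a b ab).symm).mul_mul_mul_comm,
    two a ha, two b hb, two c hc]
  simp only [smul_mul_assoc, mul_smul_comm, smul_smul, Nat.reduceMul]

end Lee1

open Lee1 H74.Co1

/-- the rational matrix of an isometry -/
noncomputable def cmat : Co0 →* Matrix GolayPt GolayPt ℚ where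
  toFun g := Matrix.of fun i j => (((g • e8 j : leechLattice) : GolayPt → ℤ) i : ℚ) / 8
  map_one' := by
    ext i j
    rw [Matrix.of_apply, one_smul, coe_e8, Pi.single_apply, Matrix.one_apply]
    split_ifs <;> norm_num
  map_mul' g h := by
    ext i j
    have := congrArg (Int.cast : ℤ → ℚ) (eight_mul_co0 g (h • e8 j) i)
    rw [Int.cast_mul, Int.cast_sum] at this
    rw [Matrix.mul_apply, Matrix.of_apply, mul_smul, eq_div_of_mul_eq (by norm_num) ((mul_comm _ _).trans this),
      Finset.sum_div, Finset.sum_div]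
    exact Finset.sum_congr rfl fun k _ => by rw [Matrix.of_apply, Matrix.of_apply]; push_cast; ring

theorem cmat_apply (g : Co0) (i j : GolayPt) :
    cmat g i j = (((g • e8 j : leechLattice) : GolayPt → ℤ) i : ℚ) / 8 := rfl

theorem cmat_inj : Function.Injective cmat := fun _ _ e => co0_ext fun j => Subtype.ext (funext fun i =>
  Int.cast_injective ((div_left_inj' (by norm_num : (8 : ℚ) ≠ 0)).1 (congrFun (congrFun e i) j)))

theorem cmat_inv (g : Co0) : cmat g⁻¹ = (cmat g).transpose := by
  ext i j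
  rw [Matrix.transpose_apply, cmat_apply, cmat_apply, apply_e8_eq g]

theorem cmat_neg : cmat negCo0 = -1 := by
  ext i j
  rw [cmat_apply, negCo0_smul, Matrix.neg_apply, ← map_one cmat, cmat_apply, one_smul]
  push_cast
  simp [neg_div]

theorem trace_cmat' (g : Co0) : (cmat g).trace = (H74.Co1.tr g : ℚ) / 8 := by
  rw [H74.Co1.tr, Int.cast_sum, Finset.sum_div]
  rfl

theorem tr_eq (g : Co0) : H74.Co1.tr g = 8 * tq g := by
  obtain ⟨m, e⟩ := trace_int (cmat g) (orderOf_pos g) (by rw [← map_pow, pow_orderOf_eq_one, map_one])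
  rw [trace_cmat', div_eq_iff (by norm_num)] at e
  have : H74.Co1.tr g = m * 8 := by exact_mod_cast e
  rw [tq]
  omega

theorem trace_cmat (g : Co0) : (cmat g).trace = (tq g : ℚ) := by
  rw [trace_cmat', tr_eq]
  push_cast
  ring

theorem tq_one : tq 1 = 24 := by
  have := trace_cmat 1
  rw [map_one, Matrix.trace_one, card_golayPt] at this
  exact_mod_cast this.symm

theorem tq_neg (g : Co0) : tq (negCo0 * g) = -tq g := by
  have := tr_neg g
  rw [tr_eq, tr_eq] at this
  omega

theorem tq_negCo0 : tq negCo0 = -24 := by rw [← mul_one negCo0, tq_neg, tq_one]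

theorem tq_conj (g x : Co0) : tq (g * x * g⁻¹) = tq x := by rw [tq, tr_conj, tq]

theorem tq_mul_comm (g x : Co0) : tq (g * x) = tq (x * g) := by rw [tq, tr_mul_comm, tq]

theorem tq_inv (g : Co0) : tq g⁻¹ = tq g := by
  have := trace_cmat g⁻¹
  rw [cmat_inv, Matrix.trace_transpose, trace_cmat] at this
  exact_mod_cast this.symm

theorem tq_eps {c : Finset GolayPt} (hc : c ∈ code) : tq (eps c hc) = 24 - 2 * c.card := by
  have := tr_eps hc
  rw [tr_eq] at this
  omega

theorem trace_sub_one (g : Co0) : ((cmat g - 1).transpose * (cmat g - 1)).trace = 48 - 2 * (tq g : ℚ) := by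
  rw [Matrix.transpose_sub, Matrix.transpose_one, ← cmat_inv, sub_mul, mul_sub, mul_sub, ← map_mul,
    inv_mul_cancel, mul_one, one_mul, one_mul, ← map_one cmat]
  simp only [Matrix.trace_sub, trace_cmat, tq_inv, tq_one]
  push_cast
  ring

theorem tq_le' (g : Co0) : tq g ≤ 24 := by
  have := trace_tm_nonneg (cmat g - 1)
  rw [trace_sub_one] at this
  have : (tq g : ℚ) ≤ 24 := by linarith
  exact_mod_cast this

theorem tq_le (g : Co0) : -24 ≤ tq g ∧ tq g ≤ 24 := by
  have := tq_le' (negCo0 * g)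
  rw [tq_neg] at this
  exact ⟨by omega, tq_le' g⟩

theorem eq_one_of_tq {g : Co0} (h : tq g = 24) : g = 1 := by
  have := eq_zero_of_tm (M := cmat g - 1) (by rw [trace_sub_one, h]; norm_num)
  exact cmat_inj (by rw [map_one]; exact sub_eq_zero.1 this)

theorem eq_neg_of_tq {g : Co0} (h : tq g = -24) : g = negCo0 := by
  have := eq_one_of_tq (g := negCo0 * g) (by rw [tq_neg, h]; rfl)
  rw [← one_mul g, ← negCo0_mul_self, mul_assoc, this, mul_one]

theorem tq_of_sq {g : Co0} (h : g * g = 1) : tq g = 24 ∨ tq g = 8 ∨ tq g = 0 ∨ tq g = -8 ∨ tq g = -24 := by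
  rcases classes_co0 (Or.inl h) with ⟨k, c, hc, e⟩ | ⟨k, e⟩
  · have := tq_conj k g
    rw [e, tq_eps] at this
    have := card_of_mem_code hc
    omega
  · have s : k * g * k⁻¹ * (k * g * k⁻¹) = 1 := by rw [conj_mul, h, mul_one, mul_inv_cancel]
    rcases e with e | e <;> rw [e] at s
    · exact absurd (eB_sq.symm.trans s) negCo0_ne_one
    · exact absurd (eB_sq.symm.trans ((neg_mul_sq eB).symm.trans s)) negCo0_ne_one

theorem tq_of_sq_neg {g : Co0} (h : g * g = negCo0) : tq g = 0 := by
  have e : g⁻¹ = negCo0 * g := inv_eq_of_mul_eq_one_left (by rw [mul_assoc, h, negCo0_mul_self])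
  have := tq_inv g
  rw [e, tq_neg] at this
  omega

theorem tq_of_four_neg {g : Co0} (h : g * g * (g * g) = negCo0) : tq g = 0 := by
  have := trace_four (A := cmat g) (by rw [← map_mul, ← map_mul, h, cmat_neg])
  have e : g * g * g = negCo0 * g⁻¹ := by rw [← h]; group
  rw [← map_mul, ← map_mul, Matrix.trace_sub, trace_cmat, trace_cmat, e, tq_neg, tq_inv] at this
  have : (tq g : ℚ) = 0 := by push_cast at this; linarith
  exact_mod_cast this

theorem avg27 {κ w w' : Co0} (h : κ ^ 3 = 1) (h1 : κ * w = w * κ) (h2 : κ * w' = w' * κ)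
    (h3 : w ^ 3 ∈ zpowers κ) (h4 : w' ^ 3 ∈ zpowers κ) (h5 : cm w w' ∈ zpowers κ) :
    ∃ n : ℕ, ∑ a ∈ Finset.range 3, ∑ i ∈ Finset.range 3, ∑ j ∈ Finset.range 3,
      tq (κ ^ a * w ^ i * w' ^ j) = 27 * n := by
  set k := cmat κ with hk
  have k3 : k * k * k = 1 := by rw [hk, ← map_mul, ← map_mul, ← pow_two, ← pow_succ, h, map_one]
  have kN : k * (1 + k + k * k) = 1 + k + k * k := by
    rw [mul_add, mul_add, ← mul_assoc, k3]; noncomm_ring
  have Nk : (1 + k + k * k) * k = 1 + k + k * k := by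
    rw [add_mul, add_mul, k3]; noncomm_ring
  have Nx : ∀ x ∈ zpowers κ, (1 + k + k * k) * cmat x = 1 + k + k * k := by
    intro x hx
    obtain ⟨m, rfl⟩ := mem_powers_iff_mem_zpowers.2 hx
    show _ * cmat (κ ^ m) = _
    induction m with
    | zero => simp
    | succ m ih => rw [pow_succ, map_mul, ← mul_assoc, ih ⟨m, zpow_natCast κ m⟩, Nk]
  have cN : ∀ x, κ * x = x * κ → cmat x * (1 + k + k * k) = (1 + k + k * k) * cmat x := fun x e => by
    have c : Commute (cmat x) k := by rw [hk, Commute, SemiconjBy, ← map_mul, ← map_mul, e]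
    exact (((Commute.one_right _).add_right c).add_right (c.mul_right c)).eq
  have P := ring27 (N := 1 + k + k * k) (k := k) (a := cmat w) (b := cmat w') rfl kN (cN _ h1) (cN _ h2)
    (by rw [← map_mul cmat w w, ← map_mul cmat _ w, ← pow_two w, ← pow_succ w]; exact Nx _ h3)
    (by rw [← map_mul cmat w' w', ← map_mul cmat _ w', ← pow_two w', ← pow_succ w']; exact Nx _ h4)
    (by
      have : w * w' = cm w w' * (w' * w) := by simp only [cm]; group
      rw [← map_mul cmat w w', this, map_mul, ← mul_assoc, Nx _ h5, map_mul])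
  obtain ⟨m, e⟩ := trace_of_sq (c := 27) (by norm_num) (P.trans (Nat.cast_smul_eq_nsmul ℚ 27 _).symm)
  refine ⟨m, ?_⟩
  have : ((∑ a ∈ Finset.range 3, ∑ i ∈ Finset.range 3, ∑ j ∈ Finset.range 3,
      tq (κ ^ a * w ^ i * w' ^ j) : ℤ) : ℚ) = 27 * m := by
    rw [← e]
    push_cast
    simp only [← trace_cmat, map_mul, map_pow, ← hk, ← Matrix.trace_sum, ← Finset.mul_sum, ← Finset.sum_mul]
    simp only [Finset.sum_range_succ, Finset.sum_range_zero, zero_add, pow_zero, pow_one, pow_two]
  exact_mod_cast this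

theorem avg8 {a b c : Co0} (ha : a * a = 1) (hb : b * b = 1) (hc : c * c = 1) (ab : a * b = b * a)
    (ac : a * c = c * a) (bc : b * c = c * b) :
    0 ≤ 24 + tq a + tq b + tq c + tq (a * b) + tq (a * c) + tq (b * c) + tq (a * b * c) := by
  have sq : ∀ x, x * x = 1 → cmat x * cmat x = 1 := fun x e => by rw [← map_mul, e, map_one]
  have P := ring8 (sq a ha) (sq b hb) (sq c hc) (Commute.map ab cmat) (Commute.map ac cmat) (Commute.map bc cmat)
  obtain ⟨m, e⟩ := trace_of_sq (c := 8) (by norm_num) (P.trans (Nat.cast_smul_eq_nsmul ℚ 8 _).symm)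
  have x : (1 + cmat a) * (1 + cmat b) * (1 + cmat c) = cmat 1 + cmat a + cmat b + cmat c + cmat (a * b) +
      cmat (a * c) + cmat (b * c) + cmat (a * b * c) := by
    simp only [map_mul, map_one]; noncomm_ring
  simp only [x, Matrix.trace_add, trace_cmat, tq_one] at e
  have : (0 : ℚ) ≤ ((24 + tq a + tq b + tq c + tq (a * b) + tq (a * c) + tq (b * c) + tq (a * b * c) : ℤ) : ℚ) := by
    push_cast at e ⊢
    rw [e]
    positivity
  exact_mod_cast this

theorem fp_iff {x : Co0} {p : ℕ} : Fp x p ↔ ∑ i ∈ Finset.range p, cmat x ^ i = 0 := by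
  have key : ∀ i j, (∑ k ∈ Finset.range p, cmat x ^ k) i j =
      (((∑ k ∈ Finset.range p, x ^ k • e8 j : leechLattice) : GolayPt → ℤ) i : ℚ) / 8 := fun i j => by
    rw [Matrix.sum_apply, AddSubgroup.val_finsetSum, Finset.sum_apply, Int.cast_sum, Finset.sum_div]
    exact Finset.sum_congr rfl fun k _ => by rw [← map_pow, cmat_apply]
  constructor
  · intro h
    ext i j
    rw [key, h]
    simp
  · intro h v
    have z : ∀ j, ∑ k ∈ Finset.range p, x ^ k • e8 j = 0 := fun j => Subtype.ext (funext fun i => by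
      have := key i j
      rw [h, Matrix.zero_apply, eq_comm, div_eq_zero_iff] at this
      exact_mod_cast this.resolve_right (by norm_num))
    have : (8 : ℤ) • ∑ k ∈ Finset.range p, x ^ k • v = 0 := by
      simp only [Finset.smul_sum, ← co0_smul_zsmul, eight_smul_eq_sum]
      rw [Finset.sum_comm]
      refine Finset.sum_eq_zero fun j _ => ?_
      simp only [co0_smul_zsmul]
      rw [← Finset.smul_sum, z, smul_zero]
    exact (smul_eq_zero.1 this).resolve_left (by norm_num)

theorem fp_of_tq {κ : Co0} (h : κ ^ 3 = 1) (t : tq κ = -12) : Fp κ 3 := by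
  rw [fp_iff]
  have i1 : κ⁻¹ = κ * κ := inv_eq_of_mul_eq_one_left (by rw [← pow_two, ← pow_succ, h])
  have i2 : (κ * κ)⁻¹ = κ := by rw [← i1, inv_inv]
  have t2 : tq (κ * κ) = -12 := by rw [← i1, tq_inv, t]
  have k3 : κ * κ * κ = 1 := by rw [← pow_two, ← pow_succ, h]
  have k3' : κ * (κ * κ) = 1 := by rw [← mul_assoc, k3]
  have k4 : κ * κ * (κ * κ) = κ := by rw [← mul_assoc, k3, one_mul]
  have e : ∑ i ∈ Finset.range 3, cmat κ ^ i = cmat 1 + cmat κ + cmat (κ * κ) := by
    simp only [Finset.sum_range_succ, Finset.sum_range_zero, zero_add, pow_zero, pow_one, pow_two, map_mul,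
      map_one]
  refine eq_zero_of_tm ?_
  rw [e, Matrix.transpose_add, Matrix.transpose_add, ← cmat_inv, ← cmat_inv, ← cmat_inv, i1, i2, inv_one]
  simp only [add_mul, mul_add, ← map_mul, one_mul, mul_one, k3, k3', k4, Matrix.trace_add, trace_cmat, t, t2,
    tq_one]
  norm_num

theorem Fp.sum_tq {x : Co0} {p : ℕ} (h : Fp x p) (γ : Co0) : ∑ i ∈ Finset.range p, tq (γ * x ^ i) = 0 := by
  have : ((∑ i ∈ Finset.range p, tq (γ * x ^ i) : ℤ) : ℚ) = 0 := by
    push_cast
    simp only [← trace_cmat, map_mul, map_pow, ← Matrix.trace_sum, ← Finset.mul_sum]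
    rw [fp_iff.1 h, mul_zero, Matrix.trace_zero]
  exact_mod_cast this

theorem Fp.conj {x : Co0} {p : ℕ} (h : Fp x p) (g : Co0) : Fp (g * x * g⁻¹) p := fun v => by
  simp only [conj_pow, mul_smul]
  rw [← Finset.smul_sum, h, smul_zero]

theorem Fp.cg_zero {x : Co0} {p : ℕ} (h : Fp x p) (hp : Odd p) {v : leechLattice} (c : Cg (x • v) v) :
    Cg 0 v := by
  have c1 : ∀ i : ℕ, Cg (x ^ i • v) v := fun i => by
    induction i with
    | zero => simpa using Cg.refl v
    | succ i ih => rw [pow_succ', mul_smul]; exact (ih.smul x).trans c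
  have c2 : ∀ m : ℕ, Cg (∑ i ∈ Finset.range m, x ^ i • v) (m • v) := fun m => by
    induction m with
    | zero => simpa using Cg.refl 0
    | succ m ih => rw [Finset.sum_range_succ, succ_nsmul]; exact ih.add (c1 m)
  obtain ⟨r, hr⟩ := hp
  have := c2 p
  rw [h v] at this
  refine this.trans (cg_iff.2 ⟨r • v, ?_⟩)
  rw [hr, succ_nsmul, two_mul, add_nsmul, add_comm]

theorem Fp.not_mono {x : Co0} {p : ℕ} (h : Fp x p) (hp : Odd p) : x ∉ monoGroup := fun m => by
  obtain ⟨σ, hσ, c, hc, rfl⟩ := (mem_monoGroup x).1 m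
  refine Mon.not_cg_zero (Or.inr (sqNorm_e8 none)) (h.cg_zero hp ?_)
  have e : Cg (e8 (σ none)) (e8 none) := e8_sub_e8_mem _ _
  rw [mono_smul_e8]
  split_ifs
  exacts [(cg_neg _).symm.trans e, e]

theorem Fp.not_oct {x : Co0} (h : Fp x 13) {O : Finset GolayPt} (hO : O ∈ octads)
    (c : x * eps O hO.1 = eps O hO.1 * x) : False := by
  have z : ∀ i j, i ∉ O → j ∈ O → cmat x i j = 0 := fun i j hi hj => by
    have := congrArg (fun g : Co0 => ((g • e8 j : leechLattice) : GolayPt → ℤ) i) c
    simp only [mul_smul, eps_smul_e8, if_pos hj, eps_smul_apply, if_neg hi, smul_neg] at this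
    have e : ((x • e8 j : leechLattice) : GolayPt → ℤ) i = 0 := by
      have : -((x • e8 j : leechLattice) : GolayPt → ℤ) i = ((x • e8 j : leechLattice) : GolayPt → ℤ) i := this
      omega
    rw [cmat_apply, e]
    simp
  let B : Matrix O O ℚ := (cmat x).submatrix Subtype.val Subtype.val
  have pw : ∀ k : ℕ, B ^ k = (cmat x ^ k).submatrix Subtype.val Subtype.val := fun k => by
    induction k with
    | zero => rw [pow_zero, pow_zero, Matrix.submatrix_one _ Subtype.val_injective]
    | succ k ih =>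
      ext i j
      rw [pow_succ, pow_succ, ih, Matrix.submatrix_apply, Matrix.mul_apply, Matrix.mul_apply]
      refine (Finset.sum_coe_sort O fun l => (cmat x ^ k) i l * cmat x l j).trans
        (Finset.sum_subset (Finset.subset_univ O) fun l _ hl => ?_)
      rw [z l j hl j.2, mul_zero]
  have c8 : Fintype.card O = 8 := (Fintype.card_coe O).trans hO.2
  have : Nonempty O := Fintype.card_pos_iff.1 (by omega)
  refine no13 (n := O) (by omega) (B := B) ?_
  ext i j
  have := congrFun (congrFun (fp_iff.1 h) i) j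
  rw [Matrix.sum_apply] at this ⊢
  simp only [pw]
  exact this

end H95.Ph
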