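import Cfsg.Agent.Lib.Prh.Defs
import Cfsg.Agent.S1573
import Cfsg.Agent.S1578

/-! Fixed classes of isometries of odd order. -/

set_option autoImplicit false

namespace H95.Ph

open Cfsg Subgroup H15 H16 H7.ML
open scoped symmDiff Pointwise

theorem exists_cls {x : Co0} {p : ℕ} (_hp : Odd p) (h : x ^ p = 1) (n : ¬ Fp x p) :
    ∃ v : leechLattice, Cg (x • v) v ∧ (nm v = 32 ∨ nm v = 48 ∨ nm v = 64) := by
  have ex : ∃ k : ℕ, ∃ u : leechLattice, u ≠ 0 ∧ x • u = u ∧ nm u = k := by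
    obtain ⟨v, hv⟩ := not_forall.1 n
    refine ⟨_, _, hv, ?_, (Int.toNat_of_nonneg (sqNorm_nonneg _)).symm⟩
    have h1 := Finset.sum_range_succ (fun i => x ^ i • v) p
    have h2 := Finset.sum_range_succ' (fun i => x ^ i • v) p
    rw [h1, h, pow_zero, add_left_inj] at h2
    rw [Finset.smul_sum]
    simp only [← mul_smul, ← pow_succ']
    exact h2.symm
  classical
  obtain ⟨u, u0, hu, hk⟩ := Nat.find_spec ex
  obtain ⟨w, c, hw⟩ := exists_short u
  refine ⟨w, ((c.symm.smul x).trans (hu.symm ▸ Cg.refl _)).trans c, hw.resolve_left ?_⟩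
  rintro rfl
  obtain ⟨t, ht⟩ := cg_iff.1 c
  rw [zero_add] at ht
  have t0 : t ≠ 0 := by rintro rfl; exact u0 (by simpa using ht)
  have h1 : x • t = t := by
    rw [ht, smul_add] at hu
    refine Subtype.ext (funext fun i => ?_)
    have := congrFun (congrArg Subtype.val hu) i
    simp only [AddSubgroup.coe_add, Pi.add_apply] at this
    omega
  have h2 : nm u = 4 * nm t := by
    rw [ht, nm, AddSubgroup.coe_add, ← two_smul ℤ, sqNorm_smul]
    norm_num
  have h3 : nm t ≠ 0 := fun e => t0 (Subtype.ext ((sqNorm_eq_zero_iff _).1 e))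
  have h4 : 0 ≤ nm t := sqNorm_nonneg _
  have h5 := Nat.find_min' ex ⟨t, t0, h1, (Int.toNat_of_nonneg h4).symm⟩
  omega

theorem fix_of_cg {x : Co0} {p : ℕ} (hp : Odd p) (h : x ^ p = 1) {v : leechLattice}
    (hv : nm v = 32 ∨ nm v = 48) (c : Cg (x • v) v) : x • v = v := by
  have hv' : sqNorm (v : GolayPt → ℤ) = 32 ∨ sqNorm (v : GolayPt → ℤ) = 48 := hv
  rcases c.short (by rw [sqNorm_co0]; omega) (by omega) with e | e | e
  · exact e
  · exfalso
    obtain ⟨k, rfl⟩ := hp
    have e2 : (x ^ 2) ^ k • v = v := by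
      refine MulAction.mem_stabilizer_iff.1 (pow_mem (MulAction.mem_stabilizer_iff.2 ?_) k)
      rw [pow_two, mul_smul, e, smul_neg, e, neg_neg]
    have e3 : v = -v := by
      calc v = x ^ (2 * k + 1) • v := by rw [h, one_smul]
        _ = -v := by rw [pow_succ', mul_smul, pow_mul, e2, e]
    have e4 : (v : GolayPt → ℤ) = 0 := funext fun i => by
      have := congrFun (congrArg Subtype.val e3) i
      simp only [AddSubgroup.coe_neg, Pi.neg_apply] at this
      change _ = (0 : ℤ)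
      omega
    rw [(sqNorm_eq_zero_iff _).2 e4] at hv'
    omega
  · omega

theorem exists_frame {v : leechLattice} (hv : nm v = 64) :
    ∃ (δ : Co0) (i : GolayPt), δ • v = e8 i := by
  obtain ⟨g, rfl⟩ := exists_smul_e8 hv
  exact ⟨g⁻¹, _, inv_smul_smul _ _⟩

theorem mono_of_cg {g : Co0} {i : GolayPt} (h : Cg (g • e8 i) (e8 i)) : g ∈ monoGroup := by
  obtain ⟨k, hk⟩ := eq_e8_of_congr ((sqNorm_co0 g _).trans (sqNorm_e8 i)) h
  exact mem_monoGroup_of_e8 hk

theorem fp13 {x : Co0} (h : x ^ 13 = 1) (h1 : x ≠ 1) : Fp x 13 := by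
  by_contra n
  haveI : Fact (Nat.Prime 13) := ⟨by norm_num⟩
  have key : ∀ (g : Co0) (K : Subgroup Co0), g⁻¹ * x * g ∈ K → 13 ∣ Nat.card K := by
    intro g K hK
    have h2 : orderOf (g⁻¹ * x * g) = 13 := by
      refine orderOf_eq_prime ?_ fun e => h1 ?_
      · rw [← inv_inv g, inv_inv g⁻¹, conj_pow, h, mul_one, mul_inv_cancel]
      · calc x = g * (g⁻¹ * x * g) * g⁻¹ := by group
          _ = 1 := by rw [e]; group
    exact h2 ▸ K.orderOf_dvd_natCard hK
  obtain ⟨v, c, hv⟩ := exists_cls (by decide) h n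
  rcases hv with hv | hv | hv
  · have h2 := fix_of_cg (by decide) h (Or.inl hv) c
    obtain ⟨g, rfl⟩ := exists_smul_U hv
    have := key g (Stab vU) (by rw [mem_Stab, mul_smul, mul_smul, h2, inv_smul_smul])
    rw [card_Co2] at this
    omega
  · have h2 := fix_of_cg (by decide) h (Or.inr hv) c
    obtain ⟨g, rfl⟩ := exists_smul_V hv
    have := key g (Stab vV) (by rw [mem_Stab, mul_smul, mul_smul, h2, inv_smul_smul])
    rw [card_Co3] at this
    omega
  · obtain ⟨g, i, e⟩ := exists_frame hv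
    have := key g⁻¹ monoGroup (mono_of_cg (i := i) (by
      rw [← e, inv_inv, mul_smul, inv_smul_smul, mul_smul]
      exact c.smul g))
    rw [card_monoGroup] at this
    omega

theorem Lee2.fixed {x : Co0} (h : x ^ 7 = 1) (S : Set leechLattice) (hS : ∀ v ∈ S, x • v ∈ S)
    (hc : ¬ 7 ∣ S.ncard) : ∃ v ∈ S, x • v = v := by
  classical
  have hf : S.Finite := Set.finite_of_ncard_ne_zero fun e => hc (by simp [e])
  have hp : ∀ k : ℕ, ∀ v ∈ S, x ^ k • v ∈ S := by
    intro k
    induction k with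
    | zero => intro v hv; simpa using hv
    | succ k ih => intro v hv; rw [pow_succ', mul_smul]; exact hS _ (ih v hv)
  have hinv : ∀ v, MulAction.toPerm x v ∈ S ↔ v ∈ S := fun v => ⟨fun hv => by
    have := hp 6 _ hv
    rwa [MulAction.toPerm_apply, ← mul_smul, ← pow_succ, h, one_smul] at this, hS v⟩
  haveI := hf.fintype
  haveI : Fact (Nat.Prime 7) := ⟨by norm_num⟩
  obtain ⟨v, hv⟩ := Equiv.Perm.exists_fixed_point_of_prime (p := 7) (n := 1)
    (σ := (MulAction.toPerm x).subtypePerm hinv)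
    (by rwa [← Nat.card_eq_fintype_card, Nat.card_coe_set_eq]) (by
      rw [pow_one, Equiv.Perm.subtypePerm_pow]
      ext v
      have e : (MulAction.toPerm x : Equiv.Perm leechLattice) ^ 7 = 1 := by
        rw [← MulAction.toPermHom_apply, ← map_pow, h, map_one]
      simp [e])
  exact ⟨v, v.2, congrArg Subtype.val hv⟩

theorem seven {x : Co0} (h : x ^ 7 = 1) (n : ¬ Fp x 7) :
    ∃ v : leechLattice, nm v = 64 ∧ Cg (x • v) v := by
  have short : ∀ v : leechLattice, nm v = 32 → x • v = v →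
      ∃ v : leechLattice, nm v = 64 ∧ Cg (x • v) v := by
    intro v hv e
    obtain ⟨w, ⟨h1, h2⟩, h3⟩ := Lee2.fixed h
      {w | sqNorm (w : GolayPt → ℤ) = 32 ∧ dotInt (v : GolayPt → ℤ) w = 0}
      (fun w hw => ⟨(sqNorm_co0 x w).trans hw.1, by rw [← hw.2, ← dotInt_co0 x v w, e]⟩) (by
        rw [ncard_leech_eq fun w => sqNorm w = 32 ∧ dotInt (v : GolayPt → ℤ) w = 0,
          (Cfsg.Agent.S1573.result v v.2 hv).2.2]
        norm_num)
    refine ⟨v + w, ?_, by rw [smul_add, e, h3]; exact Cg.refl _⟩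
    rw [nm, AddSubgroup.coe_add, sqNorm_add, h1, h2, show sqNorm (v : GolayPt → ℤ) = 32 from hv]
    norm_num
  obtain ⟨v, c, hv⟩ := exists_cls (by decide) h n
  rcases hv with hv | hv | hv
  · exact short v hv (fix_of_cg (by decide) h (Or.inl hv) c)
  · have e := fix_of_cg (by decide) h (Or.inr hv) c
    obtain ⟨w, h1, h3⟩ := Lee2.fixed h
      {w | sqNorm (w : GolayPt → ℤ) = 32 ∧ sqNorm ((v - w) : GolayPt → ℤ) = 32}
      (fun w hw => ⟨(sqNorm_co0 x w).trans hw.1, by
        rw [← hw.2, ← AddSubgroup.coe_sub, ← AddSubgroup.coe_sub, ← sqNorm_co0 x (v - w), smul_sub,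
          e]⟩) (by rw [Cfsg.Agent.S1578.result v hv]; norm_num)
    exact short w h1.1 h3
  · exact ⟨v, hv, c⟩

end H95.Ph
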