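import Cfsg.Agent.Lib.Prh.Lee1
import Cfsg.Agent.Lib.Prh.Lee2

/-! Involutions of trace 8, tetrads and frames. -/

set_option autoImplicit false

namespace H95.Ph

open Cfsg Subgroup H15 H16 H7.ML
open scoped symmDiff Pointwise

/-- eight times the trace on the coordinates in `T` -/
def trT (T : Finset GolayPt) (g : Co0) : ℤ := ∑ i ∈ T, ((g • e8 i : leechLattice) : GolayPt → ℤ) i

theorem l3_trT (T : Finset GolayPt) (g : Co0) :
    trT T g = ∑ i, if i ∈ T then ((g • e8 i : leechLattice) : GolayPt → ℤ) i else 0 := by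
  rw [Finset.sum_ite_mem, Finset.univ_inter, trT]

theorem l3_diag {c : Finset GolayPt} (hc : c ∈ code) (g : Co0) (i : GolayPt) :
    (((g * eps c hc) • e8 i : leechLattice) : GolayPt → ℤ) i =
      if i ∈ c then -((g • e8 i : leechLattice) : GolayPt → ℤ) i
      else ((g • e8 i : leechLattice) : GolayPt → ℤ) i := by
  rw [mul_smul, eps_smul_e8]
  split_ifs
  · rw [smul_neg]; rfl
  · rfl

theorem trT_one {c : Finset GolayPt} (hc : c ∈ code) (g : Co0) :
    2 * trT c g = 8 * (tq g - tq (g * eps c hc)) := by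
  rw [mul_sub, ← tr_eq, ← tr_eq, l3_trT, H74.Co1.tr, H74.Co1.tr, ← Finset.sum_sub_distrib,
    Finset.mul_sum]
  refine Finset.sum_congr rfl fun i _ => ?_
  rw [l3_diag]
  split_ifs <;> ring

theorem trT_two {c d : Finset GolayPt} (hc : c ∈ code) (hd : d ∈ code) (g : Co0) :
    4 * trT (c ∩ d) g =
      8 * (tq g - tq (g * eps c hc) - tq (g * eps d hd) + tq (g * (eps c hc * eps d hd))) := by
  rw [mul_add, mul_sub, mul_sub, ← tr_eq, ← tr_eq, ← tr_eq, ← tr_eq, l3_trT, H74.Co1.tr, H74.Co1.tr,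
    H74.Co1.tr, H74.Co1.tr, ← Finset.sum_sub_distrib, ← Finset.sum_sub_distrib,
    ← Finset.sum_add_distrib, Finset.mul_sum]
  refine Finset.sum_congr rfl fun i _ => ?_
  rw [← mul_assoc, l3_diag, l3_diag, l3_diag, l3_diag]
  by_cases h1 : i ∈ c <;> by_cases h2 : i ∈ d <;> simp only [h1, h2, Finset.mem_inter, and_self,
    and_true, and_false, if_true, if_false] <;> ring

theorem on_iff {c : Finset GolayPt} (hc : c ∈ code) {v : leechLattice} : On c v ↔ eps c hc • v = -v := by
  rw [Subtype.ext_iff, funext_iff]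
  refine forall_congr' fun i => ?_
  rw [eps_smul_apply, AddSubgroup.coe_neg, Pi.neg_apply]
  by_cases h : i ∈ c <;> simp only [h, if_true, if_false, not_true, not_false_iff, false_imp_iff,
    true_imp_iff]
  omega

theorem on_compl_iff {c : Finset GolayPt} (hc : c ∈ code) {v : leechLattice} :
    On cᶜ v ↔ eps c hc • v = v := by
  rw [Subtype.ext_iff, funext_iff]
  refine forall_congr' fun i => ?_
  rw [eps_smul_apply, Finset.mem_compl, not_not]
  by_cases h : i ∈ c <;> simp only [h, if_true, if_false, false_imp_iff, true_imp_iff]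
  omega

theorem l3_on_e8 {T : Finset GolayPt} {i : GolayPt} : On T (e8 i) ↔ i ∈ T :=
  ⟨fun h => by_contra fun k => by simpa [e8_apply] using h i k,
    fun h j k => by rw [e8_apply, if_neg]; rintro rfl; exact k h⟩

theorem l3_on_neg {T : Finset GolayPt} {v : leechLattice} (h : On T (-v)) : On T v :=
  fun i k => neg_eq_zero.1 (h i k)

theorem kl {g : Co0} (h : g * g = 1) (t : tq g = 8) {i : GolayPt} (e : g • e8 i = -e8 i) :
    ∃ O, ∃ hO : O ∈ octads, i ∈ O ∧ g = eps O hO.1 := by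
  obtain ⟨c, hc, σ, rfl⟩ := H74.Co1.exists_eps_perm (mem_monoGroup_of_e8 (Or.inr e))
  rw [mul_smul, permHom_smul_e8, eps_smul_e8] at e
  split_ifs at e with k
  · have k1 := e8_injective (neg_injective e)
    rw [k1] at k
    by_cases h1 : σ = 1
    · subst h1
      rw [map_one, mul_one] at t ⊢
      rw [tq_eps] at t
      exact ⟨c, ⟨hc, by omega⟩, k, rfl⟩
    · have a1 := H96.Geo.card_Fix_le σ.2 fun k => h1 (Subtype.ext k)
      have a2 := (H74.Co1.tr_eps_perm hc σ).symm.trans (tr_eq _)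
      have a3 := Finset.card_pos.2 ⟨i, Finset.mem_inter.2 ⟨k, H96.Geo.mem_Fix.2 k1⟩⟩
      omega
  · exact absurd e (e8_ne_neg _ _)

theorem exists_neg {g : Co0} (hg : g ∈ monoGroup) (h : g * g = 1) {T : Finset GolayPt} (hT : 3 ≤ T.card)
    (on : ∀ v, On T v → On T (g • v)) (t : trT T g ≤ 0) :
    ∃ v : leechLattice, nm v = 64 ∧ On T v ∧ g • v = -v := by
  by_cases h0 : ∃ i ∈ T, g • e8 i = -e8 i
  · obtain ⟨i, hi, k⟩ := h0
    exact ⟨_, sqNorm_e8 i, l3_on_e8.2 hi, k⟩
  push Not at h0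
  have gg : ∀ v : leechLattice, g • g • v = v := fun v => by rw [← mul_smul, h, one_smul]
  obtain ⟨σ, hσ, c, hc, rfl⟩ := hg
  have a1 : ∀ i ∈ T, σ i ∈ T := fun i hi => by
    have := on _ (l3_on_e8.2 hi)
    rw [mono_smul_e8] at this
    split_ifs at this
    exacts [l3_on_e8.1 (l3_on_neg this), l3_on_e8.1 this]
  have a2 : ∀ i, σ (σ i) = i := fun i => by
    have := gg (e8 i)
    rw [mono_smul_e8] at this
    split_ifs at this <;> simp only [smul_neg, mono_smul_e8] at this <;> split_ifs at this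
    · exact e8_injective ((neg_neg _).symm.trans this)
    · exact absurd this.symm (e8_ne_neg _ _)
    · exact absurd this.symm (e8_ne_neg _ _)
    · exact e8_injective this
  have a3 : ∀ i ∈ T, ((mono σ hσ c hc • e8 i : leechLattice) : GolayPt → ℤ) i =
      if σ i = i then 8 else 0 := fun i hi => by
    have := h0 i hi
    rw [mono_smul_e8] at this ⊢
    by_cases k : σ i = i
    · rw [if_pos k]
      rw [k] at this ⊢
      split_ifs at this ⊢
      · exact absurd rfl this
      · rw [e8_apply, if_pos rfl]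
    · rw [if_neg k]
      split_ifs
      · rw [AddSubgroup.coe_neg, Pi.neg_apply, e8_apply, if_neg (Ne.symm k), neg_zero]
      · rw [e8_apply, if_neg (Ne.symm k)]
  have a4 : ∀ i ∈ T, σ i ≠ i := fun i hi k => by
    have := (Finset.single_le_sum (f := fun i => ((mono σ hσ c hc • e8 i : leechLattice) :
      GolayPt → ℤ) i) (fun j hj => by rw [a3 j hj]; split_ifs <;> norm_num) hi).trans t
    rw [a3 i hi, if_pos k] at this
    omega
  obtain ⟨i, hi⟩ := Finset.card_pos.1 (by omega : 0 < T.card)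
  obtain ⟨k, hk, k1⟩ := Finset.exists_mem_notMem_of_card_lt_card
    (lt_of_le_of_lt Finset.card_le_two hT : ({i, σ i} : Finset GolayPt).card < T.card)
  simp only [Finset.mem_insert, Finset.mem_singleton, not_or] at k1
  have ow : On T (lv44 i k) := fun m hm => by
    rw [lv44_apply, if_neg, if_neg, add_zero] <;> rintro rfl <;> contradiction
  refine ⟨lv44 i k - mono σ hσ c hc • lv44 i k, ?_, fun m hm => ?_, by rw [smul_sub, gg, neg_sub]⟩
  · rw [nm, AddSubgroup.coe_sub, sqNorm_sub, sqNorm_co0, sqNorm_lv44 (Ne.symm k1.1), dotInt_def,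
      ← Equiv.sum_comp σ, Finset.sum_eq_zero fun m _ => ?_]
    · rfl
    · rw [mono_smul_apply, lv44_apply, lv44_apply]
      by_cases m1 : m = i
      · rw [m1, if_neg (a4 i hi), if_neg (Ne.symm k1.2), add_zero, zero_mul]
      · by_cases m2 : m = k
        · rw [m2, if_neg (a4 k hk), if_neg (fun q => k1.2 (by rw [← q, a2])), add_zero, zero_mul]
        · rw [if_neg m1, if_neg m2, add_zero, neg_zero, ite_self, mul_zero]
  · rw [AddSubgroup.coe_sub, Pi.sub_apply, ow m hm, on _ ow m hm, sub_zero]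

theorem neg_of_trT {g : Co0} {T : Finset GolayPt} (t : trT T g = -8 * T.card) {i : GolayPt} (hi : i ∈ T) :
    g • e8 i = -e8 i := by
  have a1 : ∀ j, ∑ m, ((g • e8 j : leechLattice) : GolayPt → ℤ) m ^ 2 = 64 := fun j =>
    (sqNorm_co0 g _).trans (sqNorm_e8 j)
  have a2 : ∀ j, 0 ≤ ((g • e8 j : leechLattice) : GolayPt → ℤ) j + 8 := fun j => by
    have := (Finset.single_le_sum (f := fun m => ((g • e8 j : leechLattice) : GolayPt → ℤ) m ^ 2)
      (fun m _ => sq_nonneg _) (Finset.mem_univ j)).trans (a1 j).le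
    nlinarith
  have a3 : ∑ j ∈ T, (((g • e8 j : leechLattice) : GolayPt → ℤ) j + 8) = 0 := by
    rw [Finset.sum_add_distrib, ← trT, t, Finset.sum_const, nsmul_eq_mul]; ring
  have a4 := eq_neg_of_add_eq_zero_left ((Finset.sum_eq_zero_iff_of_nonneg fun j _ => a2 j).1 a3 i hi)
  have a5 := a1 i
  rw [← Finset.add_sum_erase _ _ (Finset.mem_univ i), a4, show ((-8 : ℤ)) ^ 2 = 64 from rfl,
    add_eq_left, Finset.sum_eq_zero_iff_of_nonneg fun j _ => sq_nonneg _] at a5
  refine Subtype.ext (funext fun m => ?_)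
  rw [AddSubgroup.coe_neg, Pi.neg_apply, e8_apply]
  split_ifs with k
  · rw [k, a4]
  · exact pow_eq_zero_iff two_ne_zero |>.1 (a5 m (Finset.mem_erase.2 ⟨k, Finset.mem_univ m⟩))

theorem l3_four {T : Finset GolayPt} (hT : T.card = 4) {v : leechLattice} (h : On T v) (m : GolayPt) :
    (4 : ℤ) ∣ (v : GolayPt → ℤ) m := by
  rcases (mem_leech_iff' _).1 v.2 with ⟨c, hc, k, -⟩ | ⟨c, hc, k, -⟩
  · have : c ⊆ T := fun p hp => by_contra fun q => by
      have := k p
      rw [h p q, ind_of_mem hp] at this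
      omega
    obtain rfl := eq_empty_of_card_lt hc ((Finset.card_le_card this).trans_lt (by omega))
    simpa [ind_apply] using k m
  · obtain ⟨p, -, q⟩ := Finset.exists_mem_notMem_of_card_lt_card
      (by rw [hT]; decide : T.card < (Finset.univ : Finset GolayPt).card)
    have := k p
    rw [h p q, ind_apply] at this
    split_ifs at this <;> omega

theorem l3_sq {a : ℤ} (h : 4 ∣ a) : 8 ∣ a ∧ 64 ∣ a ^ 2 ∨ 8 ∣ a - 4 ∧ 64 ∣ a ^ 2 - 16 := by
  obtain ⟨b, rfl⟩ := h
  obtain ⟨p, rfl | rfl⟩ := Int.even_or_odd' b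
  · exact Or.inl ⟨⟨p, by ring⟩, p ^ 2, by ring⟩
  · exact Or.inr ⟨⟨p, by ring⟩, p ^ 2 + p, by ring⟩

/-- the three classes of the vectors of norm 64 that are supported on a tetrad -/
theorem l3_cls {T : Finset GolayPt} (hT : T.card = 4) : ∃ i ∈ T, ∃ A B : leechLattice,
    nm A = 64 ∧ On T A ∧ nm B = 64 ∧ On T B ∧ A = B + e8 i ∧
      ∀ v, nm v = 64 → On T v → Cg v (e8 i) ∨ Cg v A ∨ Cg v B := by
  obtain ⟨i, hi⟩ := Finset.card_pos.1 (by omega : 0 < T.card)
  obtain ⟨A, hA⟩ : ∃ A : leechLattice, ∀ m, (A : GolayPt → ℤ) m = if m ∈ T then 4 else 0 :=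
    ⟨⟨fun m => if m ∈ T then 4 else 0, mem_leech_of_four_dvd (fun m => by split_ifs <;> norm_num)
      (by rw [Finset.sum_ite_mem, Finset.univ_inter, Finset.sum_const, hT]; norm_num)⟩, fun _ => rfl⟩
  have nA : nm A = 64 := by
    rw [nm, sqNorm_def, Finset.sum_congr rfl fun m _ =>
      (by rw [hA]; split_ifs <;> rfl : (A : GolayPt → ℤ) m ^ 2 = if m ∈ T then 16 else 0),
      Finset.sum_ite_mem, Finset.univ_inter, Finset.sum_const, hT]
    rfl
  have oA : On T A := fun m k => by rw [hA, if_neg k]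
  refine ⟨i, hi, A, A - e8 i, nA, oA, ?_, fun m k => ?_, (sub_add_cancel _ _).symm, fun v nv ov => ?_⟩
  · rw [nm, AddSubgroup.coe_sub, sqNorm_sub, sqNorm_e8, show sqNorm _ = 64 from nA, dotInt_def,
      Finset.sum_eq_single i (fun m _ k => by rw [e8_apply, if_neg k, mul_zero]) (by simp), e8_apply,
      if_pos rfl, hA, if_pos hi]
    rfl
  · rw [AddSubgroup.coe_sub, Pi.sub_apply, oA m k, l3_on_e8.2 hi m k, sub_zero]
  have a1 : (∀ m ∈ T, (8 : ℤ) ∣ (v : GolayPt → ℤ) m) ∨ ∀ m ∈ T, (8 : ℤ) ∣ (v : GolayPt → ℤ) m - 4 := by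
    have b1 : ∑ m ∈ T, (v : GolayPt → ℤ) m ^ 2 = 64 := by
      rw [← nv, nm, sqNorm_def]
      exact Finset.sum_subset (Finset.subset_univ T) fun m _ k => by rw [ov m k]; rfl
    have b2 := fun m => l3_sq (l3_four hT ov m)
    obtain ⟨a, S, ha, rfl, hS⟩ := Finset.card_eq_succ.1 hT
    obtain ⟨b, c, d, h1, h2, h3, rfl⟩ := Finset.card_eq_three.1 hS
    rw [Finset.sum_insert ha, Finset.sum_insert (by simp [h1, h2]), Finset.sum_pair h3] at b1
    have c1 := b2 a
    have c2 := b2 b
    have c3 := b2 c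
    have c4 := b2 d
    simp only [Finset.forall_mem_insert, Finset.mem_singleton, forall_eq]
    omega
  rcases a1 with a1 | a1
  · obtain ⟨k, e | e⟩ := H74.Co1.eq_e8_of_dvd nv fun m => by
      by_cases k : m ∈ T
      · exact a1 m k
      · rw [ov m k]; exact dvd_zero _
    · exact Or.inl (e ▸ e8_sub_e8_mem k i)
    · exact Or.inl (e ▸ (cg_neg (e8 k)).symm.trans (e8_sub_e8_mem k i))
  · have a2 : ∀ m, (8 : ℤ) ∣ (v : GolayPt → ℤ) m - (A : GolayPt → ℤ) m := fun m => by
      rw [hA]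
      split_ifs with k
      · exact a1 m k
      · rw [ov m k]; exact dvd_zero _
    choose u hu using a2
    have a3 : (2 : ℤ) ∣ ∑ m, u m ∨ (2 : ℤ) ∣ ∑ m, u m + 1 := by omega
    rcases a3 with a3 | a3
    · refine Or.inr (Or.inl (cg_of_two (u := fun m => 4 * u m) (mem_leech_of_four_dvd
        (fun m => dvd_mul_right _ _) (by rw [← Finset.mul_sum]; omega)) fun m => ?_))
      linear_combination hu m
    · refine Or.inr (Or.inr (cg_of_two (u := fun m => 4 * (u m + if m = i then 1 else 0))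
        (mem_leech_of_four_dvd (fun m => dvd_mul_right _ _) (by
          rw [← Finset.mul_sum, Finset.sum_add_distrib, Finset.sum_ite_eq', if_pos (Finset.mem_univ i)]
          omega)) fun m => ?_))
      rw [AddSubgroup.coe_sub, Pi.sub_apply, e8_apply]
      split_ifs <;> linear_combination hu m

theorem tet_two {g : Co0} (h : g * g = 1) {T : Finset GolayPt} (hT : T.card = 4)
    (on : ∀ v, On T v → On T (g • v)) : ∃ v : leechLattice, nm v = 64 ∧ On T v ∧ Cg (g • v) v := by
  obtain ⟨i, hi, A, B, nA, oA, nB, oB, e, k⟩ := l3_cls hT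
  have gg : ∀ v : leechLattice, g • g • v = v := fun v => by rw [← mul_smul, h, one_smul]
  rcases k _ ((sqNorm_co0 g _).trans (sqNorm_e8 i)) (on _ (l3_on_e8.2 hi)) with q | q | q
  · exact ⟨_, sqNorm_e8 i, l3_on_e8.2 hi, q⟩
  · refine ⟨B, nB, oB, ?_⟩
    have q1 := (gg _ ▸ q.smul g).symm.add ((cg_neg _).symm.trans q)
    rw [← sub_eq_add_neg, ← smul_sub, e, add_sub_cancel_right] at q1
    exact q1.trans (cg_iff.2 ⟨e8 i, by abel⟩)
  · refine ⟨A, nA, oA, ?_⟩
    have q1 := (gg _ ▸ q.smul g).symm.add q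
    rwa [← smul_add, add_comm (e8 i), ← e] at q1

theorem tet_five {u : Co0} (h : u ^ 5 = 1) {T : Finset GolayPt} (hT : T.card = 4)
    (on : ∀ v, On T v → On T (u • v)) : u ∈ monoGroup := by
  obtain ⟨i, hi, A, B, -, -, -, -, -, k⟩ := l3_cls hT
  refine mono_of_cg (i := i) ?_
  have n1 := (sqNorm_co0 u _).trans (sqNorm_e8 i)
  have n2 := (sqNorm_co0 u _).trans n1
  have o1 := on _ (l3_on_e8.2 hi)
  have c1 := k _ n1 o1
  have c2 := k _ n2 (on _ o1)
  have c3 := k _ ((sqNorm_co0 u _).trans n2) (on _ (on _ o1))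
  generalize e8 i = a at c1 c2 c3 ⊢
  have six : u • u • u • u • u • u • a = u • a := by
    simpa only [pow_succ, pow_zero, one_mul, mul_smul, one_smul] using congrArg (· • u • a) h
  have can : ∀ {v w : leechLattice}, Cg (u • v) (u • w) → Cg v w := fun q => by
    simpa only [inv_smul_smul] using q.smul u⁻¹
  have h20 : Cg (u • u • a) a → Cg (u • a) a := fun q =>
    six ▸ (((((q.smul u).smul u).trans q).smul u).smul u).trans q
  have h30 : Cg (u • u • u • a) a → Cg (u • a) a := fun q =>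
    six ▸ (((q.smul u).smul u).smul u).trans q
  rcases c1 with c1 | c1 | c1
  · exact c1
  · rcases c2 with c2 | c2 | c2
    · exact h20 c2
    · exact can (c2.trans c1.symm)
    · rcases c3 with c3 | c3 | c3
      exacts [h30 c3, h20 (can (c3.trans c1.symm)), can (can (c3.trans c2.symm))]
  · rcases c2 with c2 | c2 | c2
    · exact h20 c2
    · rcases c3 with c3 | c3 | c3
      exacts [h30 c3, can (can (c3.trans c2.symm)), h20 (can (c3.trans c1.symm))]
    · exact can (c2.trans c1.symm)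

theorem eqns_Lee3 : True := by
  have := @trT.eq_1
  have := @trT.eq_def
  trivial

end H95.Ph
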