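import Cfsg.Agent.Lib.Prh.Gen

/-! The configurations lift to central extensions by a group of exponent 3 (helper49). -/

set_option autoImplicit false

namespace H95.Ph

open Cfsg Subgroup

variable {H S : Type*} [Group H] [Finite H] [Group S] {π : H →* S}

theorem Lift.ex (hs : Function.Surjective π) (hc : π.ker ≤ center H) (he : ∀ k ∈ π.ker, k ^ 3 = 1) :
    ∃ ℓ : S → H, (∀ s, π (ℓ s) = s) ∧ (∀ s n, s ^ n = 1 → n.Coprime 3 → ℓ s ^ n = 1) ∧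
      (∀ (P : Subgroup S), IsPGroup 2 P → ∀ a ∈ P, ∀ b ∈ P, ℓ (a * b) = ℓ a * ℓ b) ∧
      ∀ (n : ℕ) (h x y : H), n.Coprime 3 → x ^ n = 1 → y ^ n = 1 → π h * π x * (π h)⁻¹ = π y →
        h * x * h⁻¹ = y := by
  obtain ⟨ℓ, l0, l1, l2, l3⟩ := exists_lift hs Nat.prime_three hc he
  refine ⟨ℓ, l0, l2, fun P => l3 2 P Nat.prime_two (by norm_num), fun n h x y c hx hy e => ?_⟩
  rw [← l1 y n hy c, ← e, ← map_inv, ← map_mul, ← map_mul, l1 _ n (by rw [conj_pow, hx, mul_one, mul_inv_cancel]) c]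

theorem CJ.lift (hs : Function.Surjective π) (hc : π.ker ≤ center H) (he : ∀ k ∈ π.ker, k ^ 3 = 1)
    (h : CJ S) : CJ H := by
  classical
  obtain ⟨ℓ, l0, l2, l3, U⟩ := Lift.ex hs hc he
  obtain ⟨X, _, _, σ, z, a, b, c, d, e, t₁, t₂, u, p, g, k, y, h1, h2, h3, h4, h5, h6⟩ := h
  have hX : IsPGroup 2 X := IsPGroup.of_card (n := 7) (by rw [Nat.card_eq_fintype_card, h3.1]; norm_num)
  have hR : IsPGroup 2 σ.range := hX.of_surjective σ.rangeRestrict σ.rangeRestrict_surjective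
  have c3 : Nat.Coprime 128 3 := by norm_num
  have pw : ∀ x : X, x ^ 128 = 1 := fun x => by rw [← h3.1, pow_card_eq_one]
  obtain ⟨τ, hτ⟩ : ∃ τ : X →* H, ∀ x, τ x = ℓ (σ x) :=
    ⟨MonoidHom.mk' (fun x => ℓ (σ x)) fun a b => by
      rw [map_mul]; exact l3 _ hR _ ⟨a, rfl⟩ _ ⟨b, rfl⟩, fun _ => rfl⟩
  have pτ : ∀ x, π (τ x) = σ x := fun x => by rw [hτ, l0]
  have cj : ∀ (h : H) (x y : X), π h * σ x * (π h)⁻¹ = σ y → h * τ x * h⁻¹ = τ y := fun h x y e =>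
    U 128 h _ _ c3 (by rw [← map_pow, pw, map_one]) (by rw [← map_pow, pw, map_one]) (by rw [pτ, pτ, e])
  have ez : ∀ (h : H) (x y : X), Ez (σ z) (π h * σ x * (π h)⁻¹) (σ y) → Ez (τ z) (h * τ x * h⁻¹) (τ y) :=
    fun h x y e => e.imp (cj h x y) fun e => by
      rw [← map_mul]
      exact cj h x _ (by rw [map_mul]; exact e)
  have cz : ∀ h : H, π h * σ z = σ z * π h → h * τ z = τ z * h := fun h e =>
    mul_inv_eq_iff_eq_mul.1 (cj h z z (mul_inv_eq_iff_eq_mul.2 e))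
  have pp : π ((ℓ u)⁻¹ * ℓ (u * p)) = p := by rw [map_mul, map_inv, l0, l0, inv_mul_cancel_left]
  have y17 := l2 y 17 h6.y17 (by norm_num)
  refine ⟨X, inferInstance, inferInstance, τ, z, a, b, c, d, e, t₁, t₂, ℓ u, (ℓ u)⁻¹ * ℓ (u * p), ℓ g, ℓ k, ℓ y,
    h1, h2, ⟨h3.1, fun F hF => ?_⟩, fun e => h4 (by rw [← pτ, e, map_one]), ⟨?_, ?_, ?_, ?_, ?_, ?_, ?_, ?_,
      ?_, ?_, ?_, ?_⟩, ⟨?_, ?_, ?_, ?_, y17, fun e => h6.y1 (by rw [← l0 y, e, map_one]), ?_⟩⟩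
  · have v : ∀ x, (if σ x ^ 128 = 1 then F (ℓ (σ x)) else 0) = F (τ x) := fun x => by
      rw [if_pos (by rw [← map_pow, pw, map_one]), hτ]
    have := h3.2 (fun s => if s ^ 128 = 1 then F (ℓ s) else 0) fun g x => by
      by_cases hx : x ^ 128 = 1
      · have hx' : (g * x * g⁻¹) ^ 128 = 1 := by rw [conj_pow, hx, mul_one, mul_inv_cancel]
        rw [if_pos hx, if_pos hx', ← U 128 (ℓ g) _ _ c3 (l2 _ _ hx c3) (l2 _ _ hx' c3) (by rw [l0, l0, l0]), hF]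
      · rw [if_neg hx, if_neg fun e => hx (by rwa [conj_pow, conj_eq_one_iff] at e)]
    have v1 := v 1
    rw [map_one, map_one] at v1
    simpa only [v, v1] using this
  · exact cz _ (by rw [l0]; exact h5.uz)
  · exact cz _ (by rw [pp]; exact h5.pz)
  · exact l2 u 5 h5.u5 (by norm_num)
  · rw [mul_inv_cancel_left]
    exact l2 _ 5 h5.up5 (by norm_num)
  · rw [← map_mul]
    exact ez _ _ _ (by rw [l0, map_mul]; exact h5.ua)
  · rw [← map_mul]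
    exact ez _ _ _ (by rw [l0, map_mul]; exact h5.ub)
  · rw [← map_mul]
    exact ez _ _ _ (by rw [l0, map_mul]; exact h5.uc)
  · exact ez _ _ _ (by rw [l0]; exact h5.ud)
  · exact ez _ _ _ (by rw [pp]; exact h5.pa)
  · exact ez _ _ _ (by rw [pp]; exact h5.pb)
  · exact ez _ _ _ (by rw [pp]; exact h5.pc)
  · exact ez _ _ _ (by rw [pp]; exact h5.pd)
  · rw [← map_mul, ← map_mul]
    exact cj _ _ _ (by rw [l0, map_mul, map_mul]; exact h6.gz)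
  · exact cj _ _ _ (by rw [l0]; exact h6.ga)
  · exact cj _ _ _ (by rw [l0]; exact h6.gb)
  · rw [← map_mul]
    exact cj _ _ _ (by rw [l0, map_mul]; exact h6.he)
  · exact U 17 _ _ _ (by norm_num) y17 (by rw [inv_pow, y17, inv_one]) (by rw [pτ, map_inv, l0]; exact h6.zy)

theorem CON.lift (hs : Function.Surjective π) (hc : π.ker ≤ center H) {κ : H} (h3 : κ ^ 3 = 1)
    (hk : π.ker = zpowers κ) {z z' a b w w' c d g₁ g₂ : S} (b7 : b ^ 7 = 1)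
    (h : CON 1 z z' a b w w' c d g₁ g₂) :
    ∃ z z' a b w w' c d g₁ g₂ : H, CON κ z z' a b w w' c d g₁ g₂ := by
  obtain ⟨ℓ, l0, l2, -, U⟩ := Lift.ex hs hc fun k hk' => by
    obtain ⟨n, rfl⟩ := hk ▸ hk'
    show (κ ^ n) ^ 3 = 1
    rw [← zpow_natCast, ← zpow_mul, mul_comm, zpow_mul, zpow_natCast, h3, one_zpow]
  have kc : ∀ g, κ * g = g * κ := fun g => (mem_center_iff.1 (hc (hk ▸ mem_zpowers κ)) g).symm
  have mk : ∀ g : H, π g ∈ zpowers (1 : S) → g ∈ zpowers κ := fun g e => by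
    rw [zpowers_one_eq_bot, mem_bot] at e
    exact hk ▸ e
  have c2 : Nat.Coprime 2 3 := by norm_num
  have c7 : Nat.Coprime 7 3 := by norm_num
  have ne : ∀ s : S, s ≠ 1 → ℓ s ≠ 1 := fun s n e => n (by rw [← l0 s, e, map_one])
  have cm' : ∀ (n : ℕ) (s t : S), n.Coprime 3 → t ^ n = 1 → s * t = t * s → ℓ s * ℓ t = ℓ t * ℓ s :=
    fun n s t c ht e => mul_inv_eq_iff_eq_mul.1 (U n _ _ _ c (l2 _ _ ht c) (l2 _ _ ht c) (by
      rw [l0, l0, e, mul_inv_cancel_right]))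
  have z2 : z ^ 2 = 1 := (pow_two z).trans h.zz
  have z'2 : z' ^ 2 = 1 := by rw [← h.g1, conj_pow, z2, mul_one, mul_inv_cancel]
  have Z2 := l2 z 2 z2 c2
  have Z'2 := l2 z' 2 z'2 c2
  have A7 := l2 a 7 h.a7 c7
  have B7 := l2 b 7 b7 c7
  have X7 := l2 _ 7 h.x7 c7
  have bx := cm' 7 b _ c7 h.x7 h.bx
  have zz' := cm' 2 z z' c2 z'2 h.zz'
  have ex : cm (ℓ a) (ℓ b) = ℓ (cm a b) := mul_inv_eq_iff_eq_mul.2 (U 7 _ _ _ c7 B7
    (by rw [Commute.mul_pow bx.symm, X7, B7, mul_one]) (by rw [map_mul, l0, l0, l0, inv_mul_cancel_right]))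
  refine ⟨ℓ z, ℓ z', ℓ a, ℓ b, ℓ w, ℓ w', ℓ c, ℓ d, ℓ g₁, ℓ g₂, h3, kc _, kc _, kc _, kc _, kc _, kc _, kc _, kc _,
    (pow_two _).symm.trans Z2, ne _ h.z1, A7, ne _ h.a1, ?_, ex ▸ X7, ex ▸ ne _ h.x1,
    ex ▸ cm' 7 a _ c7 h.x7 h.ax, ex ▸ bx, ex ▸ cm' 7 z _ c7 h.x7 h.zx, zz', ?_, ?_, ?_, cm' 2 _ _ c2 z2 h.wz,
    cm' 2 _ _ c2 z2 h.w'z, cm' 2 _ _ c2 z2 h.cz, cm' 2 _ _ c2 z2 h.dz, ?_, mk _ ?_, mk _ ?_, mk _ ?_, mk _ ?_,
    mk _ ?_, mk _ ?_⟩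
  · exact U 7 _ _ _ c7 A7 (by rw [inv_pow, A7, inv_one]) (by rw [map_inv, l0, l0]; exact h.za)
  · exact U 2 _ _ _ c2 Z2 Z'2 (by rw [l0, l0, l0]; exact h.g1)
  · exact U 2 _ _ _ c2 Z2 (by rw [Commute.mul_pow zz'.symm, Z2, Z'2, mul_one])
      (by rw [map_mul, l0, l0, l0]; exact h.g2)
  · rw [ex]
    exact U 7 _ _ _ c7 X7 (by rw [inv_pow, X7, inv_one]) (by rw [map_inv, l0, l0]; exact h.z'x)
  · rw [ex]
    exact U 7 _ _ _ c7 X7 (by rw [← pow_mul, mul_comm, pow_mul, X7, one_pow])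
      (by rw [map_pow, l0, l0]; exact h.wx)
  · simpa only [map_pow, l0] using h.w3
  · simpa only [map_pow, l0] using h.w'3
  · simpa only [cm, map_mul, map_inv, l0] using h.ww'
  · simpa only [map_mul, map_inv, l0] using h.cw
  · simpa only [map_mul, map_inv, l0] using h.cw'
  · simpa only [map_mul, map_inv, l0] using h.dw

end H95.Ph
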