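import Cfsg.Agent.Lib.Prh.RuM

/-! The configuration of the O'Nan group does not occur. -/

set_option autoImplicit false

namespace H95.Ph

open Cfsg Subgroup H15 H16 H7.ML
open scoped symmDiff Pointwise

variable {G : Type*} [Group G] [Finite G] {z s : G} {Q Q' : Subgroup G}
  {φ : centralizer ({z} : Set G) →* Spor.Co1} {cls : leechLattice → G → Prop} {XA : G → Prop} {tr : G → ℝ}

theorem Env.fp7 (E : Env z Q φ cls XA tr) {a b : G} (x7 : cm a b ^ 7 = 1) (x1 : cm a b ≠ 1)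
    (ax : a * cm a b = cm a b * a) (bx : b * cm a b = cm a b * b) {ξ : Co0} (h : Ov φ (cm a b) ξ)
    (hξ : ξ ^ 7 = 1) : Fp ξ 7 := by
  by_contra n
  obtain ⟨v, hv, hc⟩ := seven hξ n
  obtain ⟨s, hs⟩ := E.M.ex_elt v
  have sz : s ≠ z := fun e => Mon.not_cg_zero (Or.inr hv) ((E.M.cg_zero_iff hs).2 (Or.inr e))
  refine x1 (E.he s (E.M.mem hs) (E.c64 v s hs hv) sz a b x7 h.comm.symm ?_ ax bx)
  have xz := h.comm
  have e := (E.M.eq_iff (h.smul E.M hs) hs).1 hc
  generalize cm a b = x at x7 xz e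
  rcases e with e | e
  · exact (mul_inv_eq_iff_eq_mul.1 e.symm).symm
  · have e1 : x * s * x⁻¹ = s * z := by
      rw [← mul_inv_eq_iff_eq_mul, inv_eq_of_mul_eq_one_right E.M.h.sq, ← e]
    have e2 : Commute (x * x) s := by
      rw [Commute, SemiconjBy, ← mul_inv_eq_iff_eq_mul]
      calc x * x * s * (x * x)⁻¹ = x * (x * s * x⁻¹) * x⁻¹ := by group
        _ = x * (s * z) * x⁻¹ := by rw [e1]
        _ = x * s * x⁻¹ * (x * z * x⁻¹) := by group
        _ = s := by rw [e1, xz, mul_inv_cancel_right, mul_assoc, E.M.h.sq, mul_one]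
    have e3 : (x * x) ^ 4 = x := by rw [← sq, ← pow_mul, pow_succ, x7, one_mul]
    exact (e3 ▸ e2.pow_left 4).eq.symm

namespace OnM

theorem pow_val {H : Type*} [Monoid H] {g : H} {n : ℕ} [NeZero n] (h : g ^ n = 1) (a b : ZMod n) :
    g ^ (a + b).val = g ^ a.val * g ^ b.val := by
  rw [ZMod.val_add, ← pow_add, ← pow_eq_pow_mod _ h]

/-- the homomorphism from a cyclic group -/
def zh {H : Type*} [Group H] {g : H} {n : ℕ} [NeZero n] (h : g ^ n = 1) : Multiplicative (ZMod n) →* H :=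
  MonoidHom.mk' (fun a => g ^ a.toAdd.val) fun a b => pow_val h _ _

/-- all isometries under `κ ^ n y` have trace zero -/
def NN {z : G} (φ : centralizer ({z} : Set G) →* Spor.Co1) (κ y : G) : Prop :=
  κ * y = y * κ ∧ ∀ k ∈ zpowers κ, ∀ g, Ov φ (k * y) g → tq g = 0

theorem eqns_OnM : True := by
  have := @zh.eq_1.{0}
  have := @NN.eq_1.{0}
  trivial

variable {κ y k : G}

omit [Finite G] in
theorem zc (h : κ * y = y * κ) (hk : k ∈ zpowers κ) : k * y = y * k := by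
  obtain ⟨n, rfl⟩ := hk
  exact (Commute.zpow_left h n).eq

omit [Finite G] in
theorem NN.left (h : NN φ κ y) (hk : k ∈ zpowers κ) : NN φ κ (k * y) :=
  ⟨by rw [← mul_assoc, ← zc rfl hk, mul_assoc, h.1, mul_assoc],
    fun l hl g hg => h.2 _ (mul_mem hl hk) g (by rwa [mul_assoc])⟩

omit [Finite G] in
theorem NN.right (h : NN φ κ y) (hk : k ∈ zpowers κ) : NN φ κ (y * k) := zc h.1 hk ▸ h.left hk

omit [Finite G] in
theorem NN.inv (h : NN φ κ y) : NN φ κ y⁻¹ :=
  ⟨(Commute.inv_right h.1).eq, fun l hl g hg => by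
    rw [← tq_inv]
    refine h.2 _ (inv_mem hl) _ ?_
    have := hg.inv
    rwa [mul_inv_rev, inv_inv, ← zc h.1 (inv_mem hl)] at this⟩

omit [Finite G] in
theorem NN.conj (h : NN φ κ y) {c : G} (cz : c * z = z * c) (hc : κ * c = c * κ) :
    NN φ κ (c * y * c⁻¹) :=
  ⟨((Commute.mul_right hc h.1).mul_right (Commute.inv_right hc)).eq, fun l hl g hg => by
    obtain ⟨η, hη⟩ := exists_ov φ cz
    rw [← tq_conj η⁻¹]
    refine h.2 l hl _ ?_
    have := hη.inv.conj hg
    rwa [show c⁻¹ * (l * (c * y * c⁻¹)) * c⁻¹⁻¹ = c⁻¹ * (l * c) * y by group, zc hc hl,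
      inv_mul_cancel_left] at this⟩

omit [Finite G] in
theorem NN.of (h : NN φ κ y) {y' : G} (hk : y * y'⁻¹ ∈ zpowers κ) : NN φ κ y' := by
  have := h.left (inv_mem hk)
  rwa [show (y * y'⁻¹)⁻¹ * y = y' by group] at this

theorem tq_zero {ξ g : Co0} (F : Fp ξ 7) (h : g * ξ * g⁻¹ = ξ ^ 2) : tq g = 0 := by
  have e : ∀ i, tq (g * ξ ^ i) = tq g := fun i => by
    rw [tq_mul_comm, ← tq_conj (ξ ^ i)⁻¹ g]
    congr 1
    calc ξ ^ i * g = (ξ ^ i)⁻¹ * (ξ ^ 2) ^ i * g := by group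
      _ = _ := by rw [← h, conj_pow]; group
  have := F.sum_tq g
  simp only [e, Finset.sum_const, Finset.card_range] at this
  simpa using this

theorem no_short {k γ : Co0} (F : Fp k 3) (k3 : k ^ 3 = 1) (h : γ * γ = k ∨ γ * γ = k * k)
    (v : leechLattice) (hv : nm v = 32) : ¬ Cg (γ • v) v := fun c => by
  have c2 : Cg ((γ * γ) • v) v := by rw [mul_smul]; exact (c.smul γ).trans c
  refine Mon.not_cg_zero (Or.inl hv) (F.cg_zero (by decide) ?_)
  rcases h with h | h <;> rw [h] at c2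
  · exact c2
  · have := c2.smul k
    rw [← mul_smul, show k * (k * k) = 1 by rw [← k3, pow_succ', sq], one_smul] at this
    exact this.symm

end OnM

open OnM in
theorem Env.avg12 (E : Env z Q φ cls XA tr) {v κ : G} (vv : v * v = 1) (κ3 : κ ^ 3 = 1) (vz : v * z = z * v)
    (κz : κ * z = z * κ) (κv : κ * v = v * κ) : ∃ n : ℕ, ∑ i ∈ Finset.range 3,
      (tr (κ ^ i) + tr (κ ^ i * z) + (tr (v * κ ^ i) + tr (v * κ ^ i * z))) = 12 * n := by
  have v2 : v ^ 2 = 1 := by rw [sq, vv]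
  have z2 : z ^ 2 = 1 := by rw [sq, E.M.h.sq]
  obtain ⟨n, hn⟩ := E.avg _ ((zh v2).noncommCoprod ((zh κ3).noncommCoprod (zh z2)
    fun a b => (Commute.pow_pow κz _ _)) fun a b =>
      (Commute.pow_pow κv.symm _ _).mul_right (Commute.pow_pow vz _ _))
  refine ⟨n, ?_⟩
  rw [Fintype.sum_prod_type] at hn
  simp only [Fintype.sum_prod_type, Fintype.card_prod, Fintype.card_multiplicative, ZMod.card] at hn
  change ∑ a : Fin 2, ∑ b : Fin 3, ∑ c : Fin 2, tr (v ^ a.val * (κ ^ b.val * z ^ c.val)) = _ at hn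
  simp only [Fin.sum_univ_two, Fin.sum_univ_three, Fin.val_zero, Fin.val_one, Fin.val_two, pow_zero,
    pow_one, one_mul, mul_one] at hn
  simp only [Finset.sum_range_succ, Finset.range_zero, Finset.sum_empty, pow_zero, pow_one, one_mul,
    mul_one, mul_assoc]
  push_cast at hn
  linarith

namespace OnM

theorem main (E : Env z Q φ cls XA tr) {κ z' a b w w' c d g₁ g₂ : G}
    (C : CON κ z z' a b w w' c d g₁ g₂) : False := by
  obtain ⟨ξ, hx, ξ7⟩ := exists_ov_odd φ C.zx.symm (n := 7) (by decide) C.x7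
  have F := E.fp7 C.x7 C.x1 C.ax C.bx hx ξ7
  have κx : κ * cm a b = cm a b * κ :=
    (((Commute.mul_right C.κa C.κb).mul_right (Commute.inv_right C.κa)).mul_right
      (Commute.inv_right C.κb)).eq
  have x7 := C.x7
  have x1 := C.x1
  have zx := C.zx
  have z'x := C.z'x
  have wx := C.wx
  generalize cm a b = x at hx κx x7 x1 zx z'x wx
  have n9 : ∀ y : G, y ^ 3 ∈ zpowers κ → y ^ 9 = 1 := by
    rintro y ⟨n, hn⟩
    rw [show 9 = 3 * 3 from rfl, pow_mul, ← hn, ← zpow_natCast, ← zpow_mul, mul_comm, zpow_mul,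
      zpow_natCast, C.κ3, one_zpow]
  obtain ⟨k, hk, k3⟩ := exists_ov_odd φ C.κz (n := 3) (by decide) C.κ3
  obtain ⟨ω, hω, ω9⟩ := exists_ov_odd φ C.wz (n := 9) (by decide) (n9 w C.w3)
  obtain ⟨ω', hω', ω9'⟩ := exists_ov_odd φ C.w'z (n := 9) (by decide) (n9 w' C.w'3)
  have kn : ∀ n : ℤ, (k ^ n) ^ 3 = 1 := fun n => by
    rw [← zpow_natCast, ← zpow_mul, mul_comm, zpow_mul, zpow_natCast, k3, one_zpow]
  have kω : k * ω = ω * k := (hω.comm_odd hk (by decide) k3 C.κw.symm).symm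
  have kω' : k * ω' = ω' * k := (hω'.comm_odd hk (by decide) k3 C.κw'.symm).symm
  have cube : ∀ {y : G} {η : Co0}, Ov φ y η → η ^ 9 = 1 → y ^ 3 ∈ zpowers κ → η ^ 3 ∈ zpowers k := by
    rintro y η hη η9 ⟨n, hn⟩
    exact ⟨n, (eq_of_odd ((hη.pow 3).eq (hn ▸ hk.zpow n)) (m := 3) (by decide) (by decide)
      (by rw [← pow_mul]; exact η9) (kn n)).symm⟩
  have cmm : cm ω ω' ∈ zpowers k := by
    obtain ⟨n, hn⟩ := C.ww'
    refine ⟨n, (mul_inv_eq_iff_eq_mul.2 (hω.conj_odd hω' ((hk.zpow n).mul hω') (by decide)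
      (n := 9) (by decide) ω9' ?_ (mul_inv_eq_iff_eq_mul.1 hn.symm))).symm⟩
    rw [(Commute.zpow_left kω' n).mul_pow, ω9', show 9 = 3 * 3 from rfl, pow_mul, kn, one_pow, one_mul]
  have ξ2 : (ξ ^ 2) ^ 7 = 1 := by rw [← pow_mul, mul_comm, pow_mul, ξ7, one_pow]
  have n1 : NN φ κ w := ⟨C.κw, fun l hl g hg => tq_zero F (hg.conj_odd hx (hx.pow 2) (by decide)
    (n := 7) (by decide) ξ7 ξ2 (by
      calc l * w * x * (l * w)⁻¹ = l * (w * x * w⁻¹) * l⁻¹ := by group
        _ = x ^ 2 := by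
          rw [wx, mul_inv_eq_iff_eq_mul]
          exact (Commute.pow_right (zc κx hl) 2).eq))⟩
  have n2 : NN φ κ w' := (n1.conj C.cz C.κc).of C.cw
  have n3 : NN φ κ (w * w') := (n1.conj C.dz C.κd).of C.dw
  have n4 : NN φ κ (w' * w⁻¹) := by
    have := ((n3.conj C.cz C.κc).left (inv_mem C.cw))
    have e : (c * w * c⁻¹ * w'⁻¹)⁻¹ * (c * (w * w') * c⁻¹) = w' * ((c * w' * c⁻¹ * w) * w⁻¹) := by
      group
    rw [e, zc (Commute.inv_right C.κw).eq C.cw', ← mul_assoc] at this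
    have := this.right (inv_mem C.cw')
    rwa [mul_inv_cancel_right] at this
  have all : ∀ i ∈ Finset.range 3, ∀ j ∈ Finset.range 3, (i = 0 ∧ j = 0) ∨ NN φ κ (w ^ i * w' ^ j) := by
    have m1 := n1.inv.left C.w3
    have m2 := n2.inv.left C.w'3
    have m3 := ((n3.inv.conj C.w'z C.κw').left C.w3).right C.w'3
    have m4 := (n4.conj (Commute.inv_left C.wz).eq (Commute.inv_right C.κw).eq).left C.w3
    have m5 := n4.inv.right C.w'3
    intro i hi j hj
    rw [Finset.mem_range] at hi hj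
    interval_cases i <;> interval_cases j
    · exact Or.inl ⟨rfl, rfl⟩
    · exact Or.inr (by simpa using n2)
    · exact Or.inr (by convert m2 using 1; group)
    · exact Or.inr (by simpa using n1)
    · exact Or.inr (by simpa using n3)
    · exact Or.inr (by convert m5 using 1; group)
    · exact Or.inr (by convert m1 using 1; group)
    · exact Or.inr (by convert m4 using 1; group)
    · exact Or.inr (by convert m3 using 1; group)
  have kk : k * k = k⁻¹ := by rw [eq_inv_iff_mul_eq_one, ← k3, pow_succ, sq]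
  have tk2 : tq (k * k) = tq k := by rw [kk, tq_inv]
  obtain ⟨n, hn⟩ := avg27 k3 kω kω' (cube hω ω9 C.w3) (cube hω' ω9' C.w'3) cmm
  have e27 : ∀ e ∈ Finset.range 3, ∑ i ∈ Finset.range 3, ∑ j ∈ Finset.range 3,
      tq (k ^ e * ω ^ i * ω' ^ j) = tq (k ^ e) := by
    intro e _
    have z0 : ∀ i ∈ Finset.range 3, ∀ j ∈ Finset.range 3, ¬ (i = 0 ∧ j = 0) →
        tq (k ^ e * ω ^ i * ω' ^ j) = 0 := fun i hi j hj h0 =>
      ((all i hi j hj).resolve_left h0).2 _ (npow_mem_zpowers κ e) _ (by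
        rw [← mul_assoc]; exact ((hk.pow e).mul (hω.pow i)).mul (hω'.pow j))
    rw [Finset.sum_eq_single_of_mem 0 (by decide) fun i hi i0 => Finset.sum_eq_zero fun j hj =>
      z0 i hi j hj fun h => i0 h.1, Finset.sum_eq_single_of_mem 0 (by decide) fun j hj j0 =>
      z0 0 (by decide) j hj fun h => j0 h.2]
    simp
  rw [Finset.sum_congr rfl e27] at hn
  simp only [Finset.sum_range_succ, Finset.range_zero, Finset.sum_empty, pow_zero, pow_one, sq, tq_one,
    tk2] at hn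
  have z'z : z' * z = z * z' := C.zz'.symm
  have tk : tq k = -12 := by
    by_contra hne
    have b1 := tq_le k
    have t15 : tq k = 15 := by omega
    obtain ⟨δ, hδ⟩ := exists_ov φ z'z
    have δk : δ * k = k * δ := hδ.comm_odd hk (by decide) k3 C.κz'.symm
    have δξ : δ * ξ * δ⁻¹ = ξ ^ 6 := hδ.conj_odd hx (hx.pow 6) (by decide) (n := 7) (by decide) ξ7
      (by rw [← pow_mul, mul_comm, pow_mul, ξ7, one_pow])
      (by rw [z'x, inv_eq_iff_mul_eq_one, ← x7]; group)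
    have ωξ : ω * ξ * ω⁻¹ = ξ ^ 2 := hω.conj_odd hx (hx.pow 2) (by decide) (by decide) ξ7 ξ2 wx
    have cj : ∀ (η : Co0) (m : ℕ), η * k = k * η → η * ξ * η⁻¹ = ξ ^ m → ∀ i,
        tq (k * ξ ^ (m * i % 7)) = tq (k * ξ ^ i) := fun η m h1 h2 i => by
      rw [← tq_conj η (k * ξ ^ i), ← pow_eq_pow_mod _ ξ7, pow_mul, ← h2, conj_pow, ← mul_assoc η, h1]
      simp only [mul_assoc, inv_mul_cancel_left]
    have a1 := cj ω 2 kω.symm ωξ 1
    have a2 := cj ω 2 kω.symm ωξ 2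
    have a3 := cj δ 6 δk δξ 1
    have a4 := cj δ 6 δk δξ 2
    have a5 := cj δ 6 δk δξ 4
    have := F.sum_tq k
    simp only [Finset.sum_range_succ, Finset.range_zero, Finset.sum_empty, pow_zero, mul_one] at this
    norm_num at a1 a2 a3 a4 a5 this
    omega
  have F3 := fp_of_tq k3 tk
  have vv : z' * z' = 1 := by rw [← C.g1, conj_mul, C.zz, mul_one, mul_inv_cancel]
  have v1 : z' ≠ 1 := fun e => C.z1 (by simpa using C.g1.trans e)
  have vz : z' ≠ z := fun e => x1 (by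
    rw [e, zx, mul_inv_cancel_right] at z'x
    have : x ^ 2 = 1 := by rw [sq]; exact mul_eq_one_iff_eq_inv.2 z'x
    calc x = x ^ 7 * (x ^ 2)⁻¹ ^ 3 := by group
      _ = 1 := by rw [x7, this]; simp)
  obtain ⟨δ, g, O, hO, hδ, δk, e⟩ := E.oct vv v1 vz z'z (by decide) hk k3 F3 C.κz'.symm
  have tδ : tq δ = 8 := by rw [← tq_conj g, e, tq_eps, hO.2]; norm_num
  have δδ := E.sq_one vv hδ
  have δi : δ⁻¹ = δ := inv_eq_of_mul_eq_one_right δδ
  have t2 : tq (δ * (k * k)) = tq (δ * k) := by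
    rw [← tq_inv (δ * k), mul_inv_rev, δi, kk, tq_mul_comm]
  have t1 : tq (δ * k) = -4 := by
    have := F3.sum_tq δ
    simp only [Finset.sum_range_succ, Finset.range_zero, Finset.sum_empty, pow_zero, mul_one, pow_one,
      sq, t2, tδ] at this
    omega
  have k4 : k * k * (k * k) = k := by
    rw [kk, ← mul_inv_rev, kk, inv_inv]
  have sq' : ∀ m : Co0, δ * m = m * δ → δ * m * (δ * m) = m * m := fun m h => by
    calc δ * m * (δ * m) = δ * (m * δ) * m := by group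
      _ = m * m := by rw [← h, ← mul_assoc, δδ, one_mul]
  have s1 := sq' k δk
  have s2 := sq' (k * k) (Commute.mul_right δk δk).eq
  have p1 := E.pair κ k hk (no_short F3 k3 (Or.inr rfl))
  have p2 := E.pair _ _ (hk.mul hk) (no_short F3 k3 (Or.inl k4))
  have p3 := E.pair _ _ (hδ.mul hk) (no_short F3 k3 (Or.inr s1))
  have p4 := E.pair _ _ (hδ.mul (hk.mul hk)) (no_short F3 k3 (Or.inl (s2.trans k4)))
  rw [tk2, tk] at p1
  rw [k4, tk2, tk] at p2
  rw [s1, tk2, tk, t1] at p3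
  rw [s2, k4, t2, tk, t1] at p4
  obtain ⟨m, hm⟩ := E.avg12 vv C.κ3 z'z C.κz C.κz'
  have q1 : tr z' = 276 := by rw [← C.g1, E.tr_conj, E.tr_z]
  have q2 : tr (z' * z) = 276 := by rw [← C.g2, E.tr_conj, E.tr_z]
  simp only [Finset.sum_range_succ, Finset.range_zero, Finset.sum_empty, pow_zero, mul_one, pow_one,
    sq, one_mul, E.tr_one, E.tr_z, q1, q2, p1, p2, p3, p4] at hm
  have : (197984 : ℤ) = 12 * m := by
    have : ((197984 : ℤ) : ℝ) = ((12 * m : ℤ) : ℝ) := by push_cast at hm ⊢; linarith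
    exact_mod_cast this
  omega

end OnM

theorem Env.noON (E : Env z Q φ cls XA tr) {κ z₀ z' a b w w' c d g₁ g₂ : G} :
    ¬ CON κ z₀ z' a b w w' c d g₁ g₂ := fun C => by
  have e : z₀ * (a * z₀ * a⁻¹) = a⁻¹ ^ 2 := by
    calc z₀ * (a * z₀ * a⁻¹) = z₀ * a * z₀⁻¹ * (z₀ * z₀) * a⁻¹ := by group
      _ = _ := by rw [C.za, C.zz, mul_one, sq]
  haveI : Fact (Nat.Prime 7) := ⟨by norm_num⟩
  have o : orderOf (z₀ * (a * z₀ * a⁻¹)) = 7 := by
    rw [e]
    refine orderOf_eq_prime (by rw [← pow_mul, mul_comm, pow_mul, inv_pow, C.a7]; simp) fun h => C.a1 ?_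
    calc a = a ^ 7 * (a⁻¹ ^ 2) ^ 3 := by group
      _ = 1 := by rw [C.a7, h]; simp
  obtain ⟨g, hg⟩ := isConj_iff.1 (E.isConj C.zz (g := a) (by omega)).symm
  have := C.map (MulAut.conj g).toMonoidHom (MulAut.conj g).injective
  rw [show (MulAut.conj g).toMonoidHom z₀ = z from hg] at this
  exact OnM.main E this

end H95.Ph
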