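import Cfsg.Agent.Lib.Prh.Lift
import Cfsg.Agent.Lib.Prh.Ker
import Cfsg.Agent.Lib.Prh.JF
import Cfsg.Agent.Lib.Prh.JI
import Cfsg.Agent.Lib.Prh.OnM

/-! The groups of Rudvalis, O'Nan and Janko are not sections. -/

set_option autoImplicit false
set_option synthInstance.maxSize 2000

namespace H95.Ph

open Cfsg Subgroup H15 H16 H7.ML

theorem order_of_inv {G : Type*} [Group G] {u y : G} {p : ℕ} (hp : p.Prime) (h6 : 6 < p) (uu : u * u = 1)
    (hy : y ^ p = 1) (y1 : y ≠ 1) (h : u * y * u⁻¹ = y⁻¹) : 6 < orderOf (u * (y * u * y⁻¹)) := by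
  have := Fact.mk hp
  have e : u * (y * u * y⁻¹) = (y ^ 2)⁻¹ := by
    rw [inv_eq_of_mul_eq_one_right uu] at h
    rw [← mul_assoc, ← mul_assoc, h, pow_two, mul_inv_rev]
  have o := orderOf_eq_prime hy y1
  rw [e, orderOf_inv, Nat.Coprime.orderOf_pow (o ▸ (Nat.coprime_primes hp Nat.prime_two).2 (by omega)), o]
  exact h6

variable {G : Type} [Group G] [Finite G] {z : G} {Q : Subgroup G}
  {φ : centralizer ({z} : Set G) →* Spor.Co1} {cls : leechLattice → G → Prop} {XA : G → Prop} {tr : G → ℝ}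
  (E : Env z Q φ cls XA tr)
include E

theorem Env.noJ3 : ¬ CJ G := by
  rintro ⟨X, _, _, σ, z₀, a, b, c, d, e, t₁, t₂, u, p, g, k, y, R, T, S, -, A, F⟩
  obtain ⟨m, hm⟩ := isConj_iff.1 (E.isConj (R.map σ).zz
    (order_of_inv (by decide) (by decide) (R.map σ).zz F.y17 F.y1 F.zy)).symm
  let f := (MulAut.conj m).toMonoidHom
  have hz : (f.comp σ) z₀ = z := hm
  have A' := A.map f
  have F' := F.map f (MulAut.conj m).injective
  have R' := R.map (f.comp σ)
  have T' := T.map (f.comp σ)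
  have S' : SS (f.comp σ) z₀ a e :=
    ⟨S.1, fun F hF => by simpa using S.2 (fun x => F (f x)) fun g x => by simpa using hF (f g) (f x)⟩
  rw [show f (σ z₀) = z from hm] at A' F'
  rw [hz] at R' T'
  obtain ⟨γ, o⟩ := exists_ov φ (y := (f.comp σ) a) (by rw [← R'.aa, mul_assoc])
  rcases o.sq E.M (Or.inr R'.aa) with h | h
  · exact no_inQ E.M R' A' T' F' (no_diag E.M E.c64 R' A' o h)
  · exact no_neg E hz R T S' F'.he o h

omit [Finite G] in
theorem Env.card_cent {t : G} (tt : t * t = 1) (t1 : t ≠ 1) :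
    Nat.card (centralizer ({t} : Set G)) = 4157776806543360000 * 2 ^ 25 ∨
      XA t ∧ Nat.card (centralizer ({t} : Set G)) = 4154781481226426191177580544000000 * 2 := by
  refine (E.two t tt t1).imp (fun h => ?_) fun h => ⟨h, E.cardX t h⟩
  obtain ⟨g, rfl⟩ := isConj_iff.1 h
  rw [← E.cardZ]
  refine Nat.card_congr ⟨fun x => ⟨g⁻¹ * x * g, mem_cent_iff.2 ?_⟩, fun x => ⟨g * x * g⁻¹, mem_cent_iff.2 ?_⟩,
    fun x => Subtype.ext (by simp [mul_assoc]), fun x => Subtype.ext (by simp [mul_assoc])⟩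
  · have := mem_cent_iff.1 x.2
    rw [← mul_left_cancel_iff (a := g), ← mul_right_cancel_iff (a := g⁻¹)]
    simpa [mul_assoc] using this
  · rw [conj_mul, conj_mul, mem_cent_iff.1 x.2]

variable {S : Type} [Group S] [IsSimpleGroup S] {K : Subgroup G} {π : K →* S}

omit E [Finite G] [IsSimpleGroup S] in
theorem card_dvd (h : Function.Surjective π) {T : Subgroup K} (hT : T ≤ π.ker) :
    Nat.card T * Nat.card S ∣ Nat.card K := by
  rw [← π.ker.card_mul_index, index_ker, MonoidHom.range_eq_top.2 h, card_top]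
  exact mul_dvd_mul_right (card_dvd_of_le hT) _

omit [Finite G] [IsSimpleGroup S] in
theorem Env.central {t : K} (tt : t * t = 1) (t1 : t ≠ 1) (c : t ∈ center K) :
    Nat.card K ∣ 4157776806543360000 * 2 ^ 25 ∨
      XA t ∧ Nat.card K ∣ 4154781481226426191177580544000000 * 2 := by
  have d : Nat.card K ∣ Nat.card (centralizer ({(t : G)} : Set G)) := card_dvd_of_le fun x hx =>
    mem_cent_iff.2 (congrArg Subtype.val (mem_center_iff.1 c ⟨x, hx⟩))
  rcases E.card_cent (t := t) (congrArg Subtype.val tt) fun e => t1 (Subtype.ext e) with e | e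
  exacts [Or.inl (e ▸ d), Or.inr ⟨e.1, e.2 ▸ d⟩]

theorem Env.odd (h : Mn π) {n : ℕ} (hn : Nat.card S = n) (r : ℕ → ℕ)
    (c : ∀ p < 72, (r p).Prime ∧ r p ≠ p ∧ r p ∣ n ∧ ∀ j < 180, p ≠ 2 → p.Prime → 1 ≤ j →
      p ^ j * n ∣ 808017424794512875886459904961710757005754368000000000 → ¬ p ^ j ≡ 1 [MOD r p])
    (p : ℕ) [hp : Fact p.Prime] (h2 : p ≠ 2) (P : Sylow p π.ker) :
    (P : Subgroup π.ker).map π.ker.subtype ≤ center K := by
  have hN := E.card ▸ K.card_subgroup_dvd_card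
  by_cases hl : p < 72
  · obtain ⟨c1, c2, c3, c4⟩ := c p hl
    refine h.sylow_central hN c1 c2 (hn ▸ c3) (fun j h1 d => c4 j ?_ h2 hp.out h1 (hn ▸ d)) P
    have := (Nat.pow_le_pow_left hp.out.two_le j).trans (Nat.le_of_dvd (by norm_num) (dvd_of_mul_right_dvd d))
    exact (Nat.pow_lt_pow_iff_right one_lt_two).1 (this.trans_lt (by norm_num))
  · obtain ⟨c1, -, c3, -⟩ := c 0 (by norm_num)
    refine h.sylow_central hN c1 (fun e => hl ?_) (hn ▸ c3) (fun j h1 d => absurd ?_ hl) P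
    · have d : r 0 ∣ _ := (hn ▸ c3).trans ((card_dvd_of_surjective π h.1).trans hN)
      exact Nat.lt_succ_of_le (hp.out.dvd_factorial.1 ((e ▸ d).trans (by decide +kernel)))
    · exact Nat.lt_succ_of_le (hp.out.dvd_factorial.1
        (((dvd_pow_self p (by omega)).trans (dvd_of_mul_right_dvd d)).trans (by decide +kernel)))

omit [Finite G] [IsSimpleGroup S] in
theorem Env.rk (A : Subgroup K) (h : IsMulCommutative A) (h2 : ∀ a ∈ A, a ^ 2 = 1) : Nat.card A ≤ 2 ^ 15 := by
  rw [← card_map_of_injective K.subtype_injective]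
  refine E.rank _ inferInstance ?_
  rintro _ ⟨a, ha, rfl⟩
  rw [← map_pow, h2 a ha, map_one]

/-- the case that no involution is centralised by a group involving `S` -/
theorem Env.center_of (h : Mn π) {n : ℕ} (hn : Nat.card S = n) (r : ℕ → ℕ)
    (c : ∀ p < 72, (r p).Prime ∧ r p ≠ p ∧ r p ∣ n ∧ ∀ j < 180, p ≠ 2 → p.Prime → 1 ≤ j →
      p ^ j * n ∣ 808017424794512875886459904961710757005754368000000000 → ¬ p ^ j ≡ 1 [MOD r p])
    (d : 19 ∣ n ∨ 29 ∣ n) (n1 : ¬ n ∣ 4157776806543360000 * 2 ^ 25)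
    (n2 : ¬ n ∣ 4154781481226426191177580544000000 * 2) :
    π.ker ≤ center K ∧ ∀ t ∈ center K, t * t = 1 → t = 1 := by
  have k : ∀ t ∈ center K, t * t = 1 → t = 1 := fun t c tt => by
    by_contra t1
    have d := hn ▸ card_dvd_of_surjective π h.1
    rcases E.central tt t1 c with e | e
    exacts [n1 (d.trans e), n2 (d.trans e.2)]
  refine ⟨le_center_of_sylow fun p _ P => ?_, k⟩
  by_cases h2 : p = 2
  · subst h2
    have := h.normal P
    have : _ ∨ _ := d.elim (fun d => h.exists_invol _ (P.2.map _) E.rk (Or.inl rfl) (hn ▸ d))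
      fun d => h.exists_invol _ (P.2.map π.ker.subtype) E.rk (Or.inr rfl) (hn ▸ d)
    rcases this with e | ⟨t, -, t1, tt, c⟩
    · rw [e]; exact bot_le
    · exact absurd (k t c tt) t1
  · exact E.odd h hn r c p h2 P

theorem Env.secRu (h : Mn π) (hn : Nat.card S = 145926144000) (m : HasCyclicSchurMultiplier S 2)
    {u v x g : S} (C : CRu u v x g) : False := by
  obtain ⟨c, k⟩ := E.center_of h hn (fun p => if p = 29 ∨ p = 59 then 13 else 29) (by decide +kernel)
    (by decide) (by decide) (by decide)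
  obtain ⟨κ, h2, e⟩ := exists_gen h.1 c (h.perfect ⟨u, g * u * g⁻¹, fun e => by
    have : (u * (g * u * g⁻¹)) ^ 2 = 1 := by
      rw [Commute.mul_pow e, conj_pow, pow_two, C.uu]; simp
    exact (orderOf_le_of_pow_eq_one two_pos this).not_gt (C.big.trans' (by norm_num))⟩) m
  rw [k κ (c (e ▸ mem_zpowers κ)) (by rw [← pow_two, h2]), zpowers_one_eq_bot, MonoidHom.ker_eq_bot_iff] at e
  let i := (MulEquiv.ofBijective π ⟨e, h.1⟩).symm
  exact E.noRu ((C.map i.toMonoidHom i.injective).map K.subtype K.subtype_injective)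

theorem Env.secON (h : Mn π) (hn : Nat.card S = 460815505920) (m : HasCyclicSchurMultiplier S 3)
    {z₀ z' a b w w' c d g₁ g₂ : S} (b7 : b ^ 7 = 1) (C : CON 1 z₀ z' a b w w' c d g₁ g₂) : False := by
  obtain ⟨hc, -⟩ := E.center_of h hn (fun p => if p = 5 ∨ p = 31 then 19 else 31) (by decide +kernel)
    (by decide) (by decide) (by decide)
  obtain ⟨κ, h3, e⟩ := exists_gen h.1 hc (h.perfect ⟨a, b, fun e => C.x1 (by
    rw [cm, e, mul_inv_cancel_right, mul_inv_cancel])⟩) m
  obtain ⟨_, _, _, _, _, _, _, _, _, _, C'⟩ := C.lift h.1 hc h3 e b7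
  exact E.noON (C'.map K.subtype K.subtype_injective)

omit [Finite G] in
theorem Env.rk4 {y : G} {n : ℕ} (hy : y ^ 19 ^ n = 1) (y1 : y ≠ 1) (A : Subgroup G)
    (hA : A ≤ centralizer {y}) (h2 : ∀ a ∈ A, a ^ 2 = 1) : Nat.card A ≤ 4 := by
  have := Fact.mk (by decide : Nat.Prime 19)
  have q : ∀ a ∈ A, a * a = 1 := fun a ha => by rw [← pow_two, h2 a ha]
  have X : ∀ a ∈ A, a ≠ 1 → XA a := fun a ha a1 => ((E.card_cent (q a ha) a1).resolve_left fun e => by
    obtain ⟨k, -, hk⟩ := (Nat.dvd_prime_pow this.out).1 (orderOf_dvd_of_pow_eq_one hy)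
    have d := orderOf_dvd_natCard (⟨y, mem_cent_iff.2 (mem_cent_iff.1 (hA ha)).symm⟩ : centralizer ({a} : Set G))
    rw [e, ← orderOf_coe, hk] at d
    rcases k with _ | k
    · exact y1 (orderOf_eq_one_iff.1 hk)
    · exact absurd ((dvd_pow_self 19 k.succ_ne_zero).trans d) (by decide)).1
  have i : ∀ a ∈ A, ∀ b, a * b = 1 → b = a := fun a ha b e => mul_left_cancel (e.trans (q a ha).symm)
  have ex : ∀ s : Finset G, s.card ≤ 4 → ¬ Nat.card A ≤ 4 → ∃ a ∈ A, a ∉ s := fun s hs h => by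
    by_contra! k
    exact h ((Set.ncard_le_ncard (s := (A : Set G)) (t := (s : Set G)) (fun a ha => k a ha) s.finite_toSet).trans ((Set.ncard_coe_finset s).le.trans hs))
  by_contra h
  classical
  obtain ⟨t, ht, t1⟩ := ex {1} (by simp) h
  obtain ⟨x, hx, x1⟩ := ex {1, t} (Finset.card_le_two.trans (by norm_num)) h
  obtain ⟨w, hw, w1⟩ := ex {1, t, x, t * x} Finset.card_le_four h
  simp only [Finset.mem_insert, Finset.mem_singleton, not_or] at t1 x1 w1
  exact E.pure t x w (X t ht t1) (X x hx x1.1) (X _ (mul_mem ht hx) fun e => x1.2 (i t ht x e)) (X w hw w1.1)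
    (X _ (mul_mem ht hw) fun e => w1.2.1 (i t ht w e)) (X _ (mul_mem hx hw) fun e => w1.2.2.1 (i x hx w e))
    (X _ (mul_mem ht (mul_mem hx hw)) fun e => w1.2.2.2 (i _ (mul_mem ht hx) w (by rw [mul_assoc, e])))

theorem Env.secJ3 (h : Mn π) (hn : Nat.card S = 50232960) (m : HasCyclicSchurMultiplier S 3) (C : CJ S)
    {w w' k s g₁ g₂ g₃ : S} {P : Subgroup S} (D : C3 w w' k s g₁ g₂ g₃ P) : False := by
  have o := E.odd h hn (fun p => if p = 17 then 19 else 17) (by decide +kernel)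
  have hc : π.ker ≤ center K := le_center_of_sylow fun p _ T => by
    by_cases h2 : p = 2
    swap
    · exact o p h2 T
    subst h2
    have := h.normal T
    have hT := T.2.map π.ker.subtype
    rcases h.exists_invol _ hT E.rk (Or.inl rfl) (by rw [hn]; decide) with e | ⟨t, -, t1, tt, c⟩
    · rw [e]; exact bot_le
    have d := card_dvd h.1 (map_subtype_le (T : Subgroup π.ker))
    obtain ⟨a, ha⟩ := hT.exists_card_eq
    have : Finite S := Finite.of_surjective π h.1
    obtain ⟨y, n, hy, y1⟩ := exists_pow_lift h.1 (by decide : Nat.Prime 19) (by rw [hn]; decide)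
    refine h.central _ y1 (ker2 h.1 _ hT (exists_decomp T fun p _ => o p) ?_ hy (fun A hA _ h2 => ?_) D)
    · rw [ha, hn] at d
      rw [ha]
      refine Nat.pow_le_pow_right two_pos (not_lt.1 fun l => ?_)
      have d := (mul_dvd_mul_right (pow_dvd_pow 2 l) _).trans d
      rcases E.central tt t1 c with e | e
      exacts [absurd (d.trans e) (by decide), absurd (d.trans e.2) (by decide)]
    · rw [← card_map_of_injective K.subtype_injective]
      refine E.rk4 (y := y) (n := n) (by rw [← coe_pow, hy, coe_one]) (fun e => y1 ?_) _ ?_ ?_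
      · rw [show y = 1 from Subtype.ext e, map_one]
      · rintro _ ⟨a, ha, rfl⟩
        exact mem_cent_iff.2 (congrArg Subtype.val (mem_cent_iff.1 (hA ha).2))
      · rintro _ ⟨a, ha, rfl⟩
        rw [← map_pow, h2 a ha, map_one]
  obtain ⟨κ, h3, e⟩ := exists_gen h.1 hc (h.perfect ⟨g₁, w, fun e => D.ne (by
    rw [← D.g1, e, mul_inv_cancel_right])⟩) m
  refine E.noJ3 ((C.lift h.1 hc fun x hx => ?_).map K.subtype K.subtype_injective)
  obtain ⟨n, rfl⟩ := e ▸ hx
  rw [← zpow_natCast, ← zpow_mul, mul_comm, zpow_mul, zpow_natCast, h3, one_zpow]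

end H95.Ph
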