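import Cfsg.Agent.Lib.Prh.Cfg
import Cfsg.Agent.Lib.ON.Act

/-! The configuration in the O'Nan group. -/

set_option autoImplicit false
set_option maxRecDepth 100000

namespace H95.Ph

open Cfsg Subgroup H54 H87.Tb H87.ON

section words

variable {G : Type*} [Group G] (x : ℕ → G) (v w : List ℕ)

theorem onx_mul : evW x v * evW x w = evW x (v ++ w) := (evW_append x v w).symm
theorem onx_inv : (evW x w)⁻¹ = evW x (invA w []) := by rw [evW_invA, evW_nil, mul_one]
theorem onx_two : evW x w ^ 2 = evW x (w ++ w) := by rw [sq, onx_mul]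
theorem onx_three : evW x w ^ 3 = evW x (w ++ w ++ w) := by rw [pow_succ, onx_two, onx_mul]
theorem onx_seven : evW x w ^ 7 = evW x (w ++ w ++ w ++ (w ++ w ++ w) ++ w) := by
  rw [pow_succ, show 6 = 3 + 3 from rfl, pow_add, onx_three, onx_mul, onx_mul]

end words

theorem onx_one {v : List ℕ} (c : eqB act 7 [0, 16, 83] v [] = true) : evW x v = 1 := eq_of c
theorem onx_ne {v : List ℕ} (u : ℕ) (c : mapsW act 7 122760 v 83 u = true) (h1 : u < 122760) (h2 : 83 ≠ u) :
    evW x v ≠ 1 := fun e => by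
  have := H87.ON.TT.smul_eq c
  rw [e, one_smul] at this
  exact h2 (H87.ON.TT.inj _ _ (by decide) h1 this)

theorem exists_con : ∃ z z' a b w w' c d g₁ g₂ : Spor.ON, b ^ 7 = 1 ∧ CON 1 z z' a b w w' c d g₁ g₂ := by
  refine ⟨evW x [2, 12], evW x [6, 8, 6, 2], evW x [2, 4, 6, 8, 6, 8, 10, 12, 8, 10, 6, 8, 6, 4],
    evW x [2, 4, 6, 8, 10, 12, 10, 8, 4, 6, 8, 10, 8, 4, 6, 4],
    evW x [10, 12, 8, 10, 6, 8, 2, 4, 6, 8, 10, 12, 4, 6, 8, 10],
    evW x [0, 8, 6, 0, 10, 12, 8, 10, 6, 8, 2, 4, 6, 8, 10, 12, 4, 6, 8, 10, 1, 6, 8, 1],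
    evW x [0, 8, 6, 0], evW x [6, 0, 8, 0], evW x [10, 12, 6, 8, 10], evW x [8, 10, 12, 6, 8, 10], ?_,
    one_pow _, by rw [one_mul, mul_one], by rw [one_mul, mul_one], by rw [one_mul, mul_one],
    by rw [one_mul, mul_one], by rw [one_mul, mul_one], by rw [one_mul, mul_one], by rw [one_mul, mul_one],
    by rw [one_mul, mul_one], ?_, ?_, ?_, ?_, ?_, ?_, ?_, ?_, ?_, ?_, ?_, ?_, ?_, ?_, ?_, ?_, ?_, ?_, ?_,
    ?_, ?_, ?_, ?_, ?_, ?_⟩ <;>
    try simp only [cm, zpowers_one_eq_bot, mem_bot, onx_mul, onx_inv, onx_two, onx_three, onx_seven]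
  · exact onx_one (by decide +kernel)
  · exact onx_one (by decide +kernel)
  · exact onx_ne 361 (by decide +kernel) (by decide) (by decide)
  · exact onx_one (by decide +kernel)
  · exact onx_ne 45681 (by decide +kernel) (by decide) (by decide)
  · exact eq_of (by decide +kernel)
  · exact onx_one (by decide +kernel)
  · exact onx_ne 58465 (by decide +kernel) (by decide) (by decide)
  iterate 12 exact eq_of (by decide +kernel)
  iterate 6 exact onx_one (by decide +kernel)

end H95.Ph
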