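import Cfsg.Agent.Lib.Prh.Lee1
import Cfsg.Agent.Lib.Prh.Lee2

/-! Involutions commuting with elements without fixed vectors; the configuration of the Rudvalis group. -/

set_option autoImplicit false

namespace H95.Ph

open Cfsg Subgroup H15 H16 H7.ML
open scoped symmDiff Pointwise

variable {G : Type*} [Group G] [Finite G] {z s : G} {Q Q' : Subgroup G}
  {φ : centralizer ({z} : Set G) →* Spor.Co1} {cls : leechLattice → G → Prop} {XA : G → Prop} {tr : G → ℝ}

omit [Finite G] in
theorem RuM.tr_of_conj (E : Env z Q φ cls XA tr) {x : G} (h : IsConj z x) : tr x = 276 := by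
  obtain ⟨g, rfl⟩ := isConj_iff.1 h
  rw [E.tr_conj, E.tr_z]

theorem Env.tr_of_conj (E : Env z Q φ cls XA tr) {x : G} (h : IsConj z x) : tr x = 276 := RuM.tr_of_conj E h

theorem RuM.eq_zero {v : leechLattice} (h : v = -v) : v = 0 :=
  Subtype.ext (funext fun i => by
    have := congrArg (fun w : leechLattice => (w : GolayPt → ℤ) i) h
    simp only [NegMemClass.coe_neg, Pi.neg_apply] at this
    show (v : GolayPt → ℤ) i = 0
    omega)

theorem Env.sq_one (E : Env z Q φ cls XA tr) {x : G} (xx : x * x = 1) {γ : Co0} (h : Ov φ x γ) :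
    γ * γ = 1 := by
  refine (h.sq E.M (Or.inl xx)).resolve_right fun e => ?_
  have nQ : x ∉ Q := fun k => by
    rcases (h.mem_iff E.M).1 k with rfl | rfl
    · exact negCo0_ne_one ((mul_one 1).symm.trans e).symm
    · exact negCo0_ne_one (negCo0_mul_self.symm.trans e).symm
  have pos : ∀ y, y * y = 1 → y ≠ 1 → 0 < tr y := fun y yy y1 => by
    rcases E.two y yy y1 with k | k
    · rw [E.tr_of_conj k]; norm_num
    · rw [E.tr_X y k]; norm_num
  have p := E.pair x γ h fun v hv c => by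
    have k : γ • γ • v = -v := by rw [← mul_smul, e, negCo0_smul]
    have : v = -v := by
      rcases c.short ((sqNorm_co0 _ _).trans hv |>.le.trans (by norm_num)) (hv.le.trans (by norm_num)) with
        c | c | c
      · rwa [c, c] at k
      · rwa [c, smul_neg, c, neg_neg] at k
      · exact absurd (hv.symm.trans c.2) (by norm_num)
    rw [RuM.eq_zero this] at hv
    exact absurd (sqNorm_zero'.symm.trans hv) (by norm_num)
  rw [tq_of_sq_neg e, e, tq_negCo0] at p
  have p1 := pos x xx fun k => nQ (k ▸ one_mem _)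
  have p2 := pos (x * z) (by rw [mul_assoc, ← mul_assoc z, ← h.comm, mul_assoc x, E.M.h.sq, mul_one, xx])
    fun k => nQ (by rw [mul_eq_one_iff_eq_inv.1 k]; exact inv_mem E.M.h.mem)
  norm_num at p
  linarith

theorem Env.oct (E : Env z Q φ cls XA tr) {v y : G} (vv : v * v = 1) (v1 : v ≠ 1) (vz : v ≠ z)
    (c : v * z = z * v) {ξ : Co0} {p : ℕ} (hp : Odd p) (h : Ov φ y ξ) (hξ : ξ ^ p = 1) (F : Fp ξ p)
    (vy : v * y = y * v) : ∃ (δ g : Co0) (O : Finset GolayPt) (hO : O ∈ octads),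
      Ov φ v δ ∧ δ * ξ = ξ * δ ∧ g * δ * g⁻¹ = eps O hO.1 := by
  obtain ⟨δ, hδ⟩ := exists_ov φ c
  have dd := E.sq_one vv hδ
  have cm := hδ.comm_odd h hp hξ vy
  have nQ : v ∉ Q := fun k => by
    obtain ⟨w, hw⟩ := E.M.ex_cls v k
    have := h.smul E.M hw
    rw [← vy, mul_inv_cancel_right] at this
    exact ((E.M.cg_zero_iff hw).1 (F.cg_zero hp (cg_of_cls E.M this hw))).elim v1 vz
  have sq : ∀ g : Co0, g * δ * g⁻¹ * (g * δ * g⁻¹) = 1 := fun g => by
    rw [conj_mul, dd, mul_one, mul_inv_cancel]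
  rcases H74.Co1.classes_co0 (Or.inl dd) with ⟨g, d, hd, e⟩ | ⟨g, e | e⟩
  · have cc := Finset.card_compl d
    rw [show Fintype.card GolayPt = 24 from rfl] at cc
    have e' : g * (negCo0 * δ) * g⁻¹ = eps dᶜ (compl_mem_code hd) := by
      rw [H74.Co1.conj_neg, e, H74.Co1.neg_mul_eps]
    rcases card_of_mem_code hd with k | k | k | k | k
    · refine (nQ ((hδ.mem_iff E.M).2 (Or.inl (conj_eq_one_iff.1 (e.trans ?_))))).elim
      exact (H74.Co1.eps_congr (Finset.card_eq_zero.1 k)).trans eps_empty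
    · exact ⟨δ, g, d, ⟨hd, k⟩, hδ, cm, e⟩
    · refine ((F.conj g).not_mono hp (H74.Co1.mem_mono_of_conj hd (D := d) ⟨hd, k⟩
        (H74.Co1.ne_univ_of_card (by omega)) ?_)).elim
      rw [← e, conj_mul, conj_mul, cm]
    · refine ⟨_, g, dᶜ, ⟨compl_mem_code hd, by omega⟩, hδ.neg, ?_, e'⟩
      rw [mul_assoc, cm, ← mul_assoc, neg_mul_comm, mul_assoc]
    · refine (nQ ((hδ.neg.mem_iff E.M).2 (Or.inl (conj_eq_one_iff.1 (e'.trans ?_))))).elim
      exact (H74.Co1.eps_congr (Finset.card_eq_zero.1 (by omega))).trans eps_empty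
  · have := sq g
    rw [e, H74.Co1.eB_sq] at this
    exact (negCo0_ne_one this).elim
  · have := sq g
    rw [e, H74.Co1.neg_mul_sq, H74.Co1.eB_sq] at this
    exact (negCo0_ne_one this).elim

theorem RuM.aux (E : Env z Q φ cls XA tr) {v x g : G} : ¬ CRu z v x g := fun h => by
  obtain ⟨ξ, hξ, e⟩ := exists_ov_odd φ h.xu (n := 13) (by decide) h.x13
  have n : ξ ≠ 1 := fun k => by
    have f := E.M.h.pow_four ((hξ.mem_iff E.M).2 (Or.inl k))
    refine h.x1 ?_
    have := h.x13
    rwa [show 13 = 4 * 3 + 1 from rfl, pow_succ, pow_mul, f, one_pow, one_mul] at this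
  have F := fp13 e n
  obtain ⟨δ, k, O, hO, -, c, q⟩ := E.oct h.vv h.v1 h.vu h.uv.symm (by decide) hξ e F h.xv.symm
  refine (F.conj k).not_oct hO ?_
  rw [← q, conj_mul, conj_mul, c]

theorem Env.noRu (E : Env z Q φ cls XA tr) {u v x g : G} : ¬ CRu u v x g := fun h => by
  obtain ⟨k, hk⟩ := isConj_iff.1 (E.isConj h.uu h.big).symm
  have := h.map (MulAut.conj k).toMonoidHom (MulAut.conj k).injective
  rw [show (MulAut.conj k).toMonoidHom u = z from hk] at this
  exact RuM.aux E this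

end H95.Ph
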