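import Cfsg.Agent.Lib.Prh.Cfg
import Cfsg.Agent.S1627

/-! A four-group centralised by an element of order 13 in the Rudvalis group. -/

set_option autoImplicit false
set_option exponentiation.threshold 2000

namespace H95.Ph

open Cfsg Subgroup H15 H15.Mdl H15.RuM

namespace RuX

def ru : ℕ := 0x5edcbd3d8e1dc018d70a323f533855de6d173d74f34cf3b22747733c15e0ddc41c677e58b447ab81407787da99e44b2b0470b9006ee133d9fd28544ba4bb6c7e2b88c69d62e35bae502278c7328747fbb14abff2aa654e9c41efcfbb5620207bef5c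
def rv : ℕ := 0xda998fcc97735f0fd668c99f8b335a49f5e434d6c0b8de96920ef3b5abea4d32167674aa5fa8880f7a553e4d62350194e6483f4ace1c7301656c0fa10726838c2feaa2918802027eb2a6591d30417ece472a1ffebaf947497b3c8daea67ebea8d9de
def rx : ℕ := 0x35ce7f96c7347f54abd4fae762f8021c9c577ba92a63b4efb292717ce196cbfecdde58ecc1e8a49b945d41636ae6ec9a3f6a806d28fbc2646e337a1d4e95b079e07d88912be2fec4f4b53a65887ab2842586c72f074e5e9fe3990b39e210dd9b4167
def rg : ℕ := 0xecc2f4b30e18da46d006276912927d17980f72272f8214f12eab030072b4d32b35c3bb29f6438735d47fa0e89bae15631ee6db2c8a765ff0487dd2c268fbabc243094e65fe1458d097887bc21ae2afc3ca15abb9eefe0b4f61c12dadfc476544153b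
def rw : ℕ := 0x66e4b659df4b79eec3da156f0d1dd247137e193f1096d08a2b4db064b1dbadb71317351ded421fd8e653d5902a69367e3d8a49be756baf161eba9747fe56ffbd9d80c7cf7ccef216e81195513f7cf7dee959bee9749b4196fe15f2e86806c1f8720d

theorem eqns_RuX : True := by
  have := @ru.eq_1
  have := @rv.eq_1
  have := @rx.eq_1
  have := @rg.eq_1
  have := @rw.eq_1
  trivial

theorem all_in : AllIn R ⊤ [ru, rv, rx, rg, rw] :=
  vac.of_slpChk snd (prog := [0, 131072, 131072, 196608, 327680, 327680, 458752, 458752, 589824, 0, 65536, 0, 0, 262144, 327685, 983055, 1048576, 0, 1179648, 0, 0, 7, 1441800, 1, 0, 65536, 26, 0, 65536, 0, 0, 262144, 2097184, 2162688, 0, 2293760, 0, 0, 1572902, 65536]) (by decide +kernel)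

theorem exists_Gb : ∃ u v x g : Gb, CRu u v x g := by
  obtain ⟨u, -, a⟩ := all_in ru (by simp)
  obtain ⟨v, -, b⟩ := all_in rv (by simp)
  obtain ⟨x, -, c⟩ := all_in rx (by simp)
  obtain ⟨g, -, d⟩ := all_in rg (by simp)
  obtain ⟨w, -, e⟩ := all_in rw (by simp)
  refine ⟨u, v, x, g, (snd.isOne_iff (snd.mul a a)).1 (by decide +kernel),
    (snd.isOne_iff (snd.mul b b)).1 (by decide +kernel), (snd.comm_iff a b).1 (by decide +kernel),
    mt (snd.isOne_iff b).2 (by decide +kernel), mt (snd.eqv_iff b a).2 (by decide +kernel),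
    (snd.isOne_iff (snd.pow c 13)).1 (by decide +kernel), mt (snd.isOne_iff c).2 (by decide +kernel),
    (snd.comm_iff c a).1 (by decide +kernel), (snd.comm_iff c b).1 (by decide +kernel), ?_⟩
  rw [mul_inv_eq_iff_eq_mul.2 ((snd.cj_iff d a e).1 (by decide +kernel)),
    snd.orderOf_eq (snd.mul a e) (fuel := 30) (n := 7) (by decide +kernel) (by norm_num)]
  norm_num

end RuX

theorem exists_cru : ∃ u v x g : Spor.Ru, CRu u v x g := by
  obtain ⟨u, v, x, g, h⟩ := RuX.exists_Gb
  exact ⟨_, _, _, _, h.map equivRu.toMonoidHom equivRu.injective⟩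

end H95.Ph
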